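import Mathlib
import Cfsg.Agent.Lib.Involution.Dihedral

/-!
# Groups with an involution whose centralizer is a D-group: basic facts

`Cfg j B s` says that `C(j)` is the extension of the commutative subgroup `B ∋ j` by the involution
`s ∉ B` inverting `B`, and that every involution of `B` has the same centralizer as `j`.
-/

set_option autoImplicit false

namespace CfsgLib.Characterizations.DGroup

open CfsgLib.Involution.Dihedral

variable {G : Type*} [Group G]

/-! ### Elements of odd order, and 2-parts -/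

theorem odd_one_of_sq {x : G} (hx : Odd (orderOf x)) (h : x * x = 1) : x = 1 := by
  have h1 : orderOf x ∣ 2 := orderOf_dvd_of_pow_eq_one (by rw [pow_two]; exact h)
  rcases (Nat.dvd_prime Nat.prime_two).1 h1 with e | e
  · exact orderOf_eq_one_iff.1 e
  · rw [e] at hx; exact absurd hx (by decide)

theorem two_odd_one {x : G} {k : ℕ} (hk : x ^ 2 ^ k = 1) (hx : Odd (orderOf x)) : x = 1 :=
  orderOf_eq_one_iff.1 (Nat.Coprime.eq_one_of_dvd
    ((Nat.coprime_two_right.2 hx).pow_right k) (orderOf_dvd_of_pow_eq_one hk))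

theorem odd_orderOf_mem [Finite G] {N : Subgroup G} (hN : Odd (Nat.card N)) {x : G} (hx : x ∈ N) :
    Odd (orderOf x) :=
  hN.of_dvd_nat (Subgroup.orderOf_dvd_natCard _ hx)

/-- An element is the product of commuting powers of itself, of 2-power and of odd order. -/
theorem split [Finite G] (x : G) : ∃ a b : ℕ, (∃ k, (x ^ a) ^ 2 ^ k = 1) ∧ Odd (orderOf (x ^ b)) ∧
    x ^ a * x ^ b = x := by
  obtain ⟨k, m, hm, hkm⟩ := Nat.exists_eq_two_pow_mul_odd (orderOf_pos x).ne'
  have hco : Nat.Coprime m (2 ^ k) := (Nat.coprime_two_right.2 hm).pow_right k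
  obtain ⟨u, hu1, hu2⟩ := Nat.chineseRemainder hco 0 1
  obtain ⟨v, hv1, hv2⟩ := Nat.chineseRemainder hco 1 0
  refine ⟨u, v, ⟨k, ?_⟩, ?_, ?_⟩
  · rw [← pow_mul]
    obtain ⟨c, hc⟩ := (Nat.modEq_zero_iff_dvd).1 hu1
    rw [hc, show m * c * 2 ^ k = orderOf x * c by rw [hkm]; ring, pow_mul, pow_orderOf_eq_one, one_pow]
  · refine hm.of_dvd_nat (orderOf_dvd_of_pow_eq_one ?_)
    rw [← pow_mul]
    obtain ⟨c, hc⟩ := (Nat.modEq_zero_iff_dvd).1 hv2
    rw [hc, show 2 ^ k * c * m = orderOf x * c by rw [hkm]; ring, pow_mul, pow_orderOf_eq_one, one_pow]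
  · rw [← pow_add]
    have h1 : u + v ≡ 1 [MOD orderOf x] := by
      rw [hkm]
      refine (Nat.modEq_and_modEq_iff_modEq_mul hco.symm).1 ⟨?_, ?_⟩
      · simpa using hu2.add hv2
      · simpa using hu1.add hv1
    conv_rhs => rw [← pow_one x]
    exact pow_eq_pow_iff_modEq.2 h1

/-- The involution in the cyclic group of an element of even order. -/
theorem exists_invol_pow [Finite G] {x : G} (hx : ¬ Odd (orderOf x)) : ∃ n : ℕ, orderOf (x ^ n) = 2 :=
  ⟨orderOf x / 2, orderOf_pow_orderOf_div (orderOf_pos x).ne'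
    (even_iff_two_dvd.1 (Nat.not_odd_iff_even.1 hx))⟩

/-- If an involution normalizes an odd subgroup and fixes the coset of `g`, it fixes an element of it. -/
theorem exists_fixed [Finite G] {a g : G} {N : Subgroup G} (ha : orderOf a = 2) (hN : Odd (Nat.card N))
    (hm : g⁻¹ * (a * g * a⁻¹) ∈ N) :
    ∃ n ∈ Subgroup.zpowers (g⁻¹ * (a * g * a⁻¹)), n ∈ N ∧ a * (g * n) = g * n * a := by
  set m := g⁻¹ * (a * g * a⁻¹) with hmd
  have haa := mul_self ha
  have hinv : a * m * a⁻¹ = m⁻¹ := by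
    rw [hmd, show a * (g⁻¹ * (a * g * a⁻¹)) * a⁻¹ = a * g⁻¹ * a⁻¹ * ((a * a) * g * (a * a)⁻¹) by group,
      haa]
    group
  obtain ⟨k, hk⟩ := odd_orderOf_mem hN hm
  refine ⟨m ^ (k + 1), pow_mem (Subgroup.mem_zpowers m) _, pow_mem hm _, ?_⟩
  have h1 : m * (m ^ (k + 1))⁻¹ = m ^ (k + 1) := by
    rw [mul_inv_eq_iff_eq_mul, ← pow_add, show k + 1 + (k + 1) = orderOf m + 1 by omega, pow_succ,
      pow_orderOf_eq_one, one_mul]
  rw [← mul_inv_eq_iff_eq_mul]
  calc a * (g * m ^ (k + 1)) * a⁻¹ = a * g * a⁻¹ * (a * m ^ (k + 1) * a⁻¹) := by group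
    _ = g * m * (m ^ (k + 1))⁻¹ := by rw [conj_pow hinv, hmd]; group
    _ = g * m ^ (k + 1) := by rw [mul_assoc, h1]

theorem mem_C {x g : G} : g ∈ Subgroup.centralizer ({x} : Set G) ↔ g * x = x * g :=
  Subgroup.mem_centralizer_singleton_iff

theorem conj_eq_iff {x g : G} : g * x * g⁻¹ = x ↔ g * x = x * g := mul_inv_eq_iff_eq_mul

theorem conj_ne_one {x g : G} (hx : x ≠ 1) : g * x * g⁻¹ ≠ 1 := fun h => hx (conj_eq_one_iff.1 h)

/-! ### The configuration -/

/-- `C(j) = B ∪ Bs` with `B` commutative and inverted by `s`; involutions of `B` have centralizer `C(j)`. -/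
structure Cfg (j : G) (B : Subgroup G) (s : G) : Prop where
  hj : orderOf j = 2
  hjB : j ∈ B
  comm : ∀ x ∈ B, ∀ y ∈ B, x * y = y * x
  hs : orderOf s = 2
  hsB : s ∉ B
  hinv : ∀ b ∈ B, s * b * s⁻¹ = b⁻¹
  hH : ∀ g : G, g * j = j * g → g ∈ B ∨ g * s ∈ B
  hcent : ∀ ω ∈ B, orderOf ω = 2 → ∀ g : G, g * ω = ω * g ↔ g * j = j * g

/-- `j` is the only involution of `B`. -/
def One (j : G) (B : Subgroup G) : Prop := ∀ ω ∈ B, orderOf ω = 2 → ω = j

/-- Elements of odd order centralizing `j` have their centralizers inside `C(j)`. -/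
def TI (j : G) : Prop :=
  ∀ y : G, Odd (orderOf y) → y ≠ 1 → y * j = j * y → ∀ g : G, g * y = y * g → g * j = j * g

/-- With a single involution in `B`, the condition on centralizers is automatic. -/
theorem Cfg.mk' {j : G} {B : Subgroup G} {s : G} (hj : orderOf j = 2) (hjB : j ∈ B)
    (comm : ∀ x ∈ B, ∀ y ∈ B, x * y = y * x) (hs : orderOf s = 2) (hsB : s ∉ B)
    (hinv : ∀ b ∈ B, s * b * s⁻¹ = b⁻¹) (hH : ∀ g : G, g * j = j * g → g ∈ B ∨ g * s ∈ B)
    (h1 : One j B) : Cfg j B s :=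
  ⟨hj, hjB, comm, hs, hsB, hinv, hH, fun ω hω h2 g => by rw [h1 ω hω h2]⟩

namespace Cfg

variable {j s : G} {B : Subgroup G} (h : Cfg j B s)
include h

theorem mem_comm {g : G} (hg : g ∈ B) : g * j = j * g := h.comm g hg j h.hjB

theorem jinv : j⁻¹ = j := inv_eq h.hj

theorem s_comm : s * j = j * s := by
  have := h.hinv j h.hjB
  rwa [h.jinv, conj_eq_iff] at this

theorem inv_mem_conj {b : G} (hb : b ∈ B) : s * b * s⁻¹ ∈ B := by rw [h.hinv b hb]; exact inv_mem hb

theorem out_eq {g : G} (hg : g * j = j * g) (hgB : g ∉ B) : ∃ b ∈ B, g = b * s :=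
  ⟨g * s, (h.hH g hg).resolve_left hgB, by rw [mul_assoc, mul_self h.hs, mul_one]⟩

/-- Outside elements of `C(j)` invert `B`. -/
theorem out_inv {g : G} (hg : g * j = j * g) (hgB : g ∉ B) {b : G} (hb : b ∈ B) :
    g * b * g⁻¹ = b⁻¹ := by
  obtain ⟨c, hc, rfl⟩ := h.out_eq hg hgB
  rw [show c * s * b * (c * s)⁻¹ = c * (s * b * s⁻¹) * c⁻¹ by group, h.hinv b hb,
    h.comm c hc b⁻¹ (inv_mem hb), mul_inv_cancel_right]

theorem out_sq {g : G} (hg : g * j = j * g) (hgB : g ∉ B) : g * g = 1 := by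
  obtain ⟨c, hc, rfl⟩ := h.out_eq hg hgB
  calc c * s * (c * s) = c * (s * c * s⁻¹) * (s * s) := by group
    _ = 1 := by rw [h.hinv c hc, mul_inv_cancel, mul_self h.hs, mul_one]

theorem out_order {g : G} (hg : g * j = j * g) (hgB : g ∉ B) : orderOf g = 2 :=
  orderOf_eq_two (h.out_sq hg hgB) fun e => hgB (e ▸ B.one_mem)

theorem mem_of_sq_ne {g : G} (hg : g * j = j * g) (h2 : g * g ≠ 1) : g ∈ B :=
  not_not.1 fun hgB => h2 (h.out_sq hg hgB)

theorem mem_of_odd {g : G} (hg : g * j = j * g) (ho : Odd (orderOf g)) : g ∈ B := by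
  by_contra hgB
  rw [h.out_order hg hgB] at ho
  exact absurd ho (by decide)

theorem conj_mem {g : G} (hg : g * j = j * g) {b : G} (hb : b ∈ B) : g * b * g⁻¹ ∈ B := by
  by_cases hgB : g ∈ B
  · exact mul_mem (mul_mem hgB hb) (inv_mem hgB)
  · rw [h.out_inv hg hgB hb]; exact inv_mem hb

theorem B_le : B ≤ Subgroup.centralizer ({j} : Set G) := fun _ hg => mem_C.2 (h.mem_comm hg)

theorem solvable_C : Group.IsSolvable (Subgroup.centralizer ({j} : Set G)) := by
  set C := Subgroup.centralizer ({j} : Set G) with hC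
  haveI : (B.subgroupOf C).Normal := ⟨fun b hb g => h.conj_mem (mem_C.1 g.2) hb⟩
  haveI : Group.IsSolvable (B.subgroupOf C) :=
    Group.isSolvable_of_comm fun a b => Subtype.ext (Subtype.ext (h.comm _ a.2 _ b.2))
  haveI : Group.IsSolvable (C ⧸ B.subgroupOf C) := by
    have hsq : ∀ q : C ⧸ B.subgroupOf C, q * q = 1 := by
      intro q
      induction q using QuotientGroup.induction_on with
      | _ g =>
        rw [← QuotientGroup.mk_mul, QuotientGroup.eq_one_iff, Subgroup.mem_subgroupOf]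
        by_cases hgB : (g : G) ∈ B
        · exact mul_mem hgB hgB
        · show (g : G) * g ∈ B
          rw [h.out_sq (mem_C.1 g.2) hgB]; exact B.one_mem
    refine Group.isSolvable_of_comm fun a b => ?_
    have e : ∀ q : C ⧸ B.subgroupOf C, q⁻¹ = q := fun q => inv_eq_of_mul_eq_one_left (hsq q)
    calc a * b = (a * b)⁻¹ := (e _).symm
      _ = b * a := by rw [mul_inv_rev, e, e]
  exact (Group.isSolvable_iff_subgroup_quotient (B.subgroupOf C)).2 ⟨inferInstance, inferInstance⟩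

/-- Transport along an isomorphism. -/
theorem map {G' : Type*} [Group G'] (e : G ≃* G') : Cfg (e j) (B.map e.toMonoidHom) (e s) where
  hj := by rw [← h.hj]; exact orderOf_injective e.toMonoidHom e.injective j
  hjB := ⟨j, h.hjB, rfl⟩
  comm := by
    rintro _ ⟨x, hx, rfl⟩ _ ⟨y, hy, rfl⟩
    rw [← map_mul, ← map_mul, h.comm x hx y hy]
  hs := by rw [← h.hs]; exact orderOf_injective e.toMonoidHom e.injective s
  hsB := by
    rintro ⟨x, hx, hxs⟩
    exact h.hsB (e.injective hxs ▸ hx)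
  hinv := by
    rintro _ ⟨b, hb, rfl⟩
    simp only [MulEquiv.coe_toMonoidHom]
    rw [← map_inv, ← map_mul, ← map_mul, h.hinv b hb, map_inv]
  hH g hg := by
    obtain ⟨g, rfl⟩ := e.surjective g
    rw [← map_mul, ← map_mul] at hg
    rcases h.hH g (e.injective hg) with h1 | h1
    · exact Or.inl ⟨g, h1, rfl⟩
    · exact Or.inr ⟨g * s, h1, map_mul e g s⟩
  hcent := by
    rintro _ ⟨ω, hω, rfl⟩ h2 g
    obtain ⟨g, rfl⟩ := e.surjective g
    simp only [MulEquiv.coe_toMonoidHom] at h2 ⊢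
    rw [← map_mul, ← map_mul, e.injective.eq_iff, ← map_mul, ← map_mul, e.injective.eq_iff]
    exact h.hcent ω hω ((orderOf_injective e.toMonoidHom e.injective ω).symm.trans h2) g

/-- Restriction to a subgroup. -/
theorem subgroup (K : Subgroup G) (hjK : j ∈ K) (hsK : s ∈ K) :
    Cfg (⟨j, hjK⟩ : K) (B.subgroupOf K) ⟨s, hsK⟩ where
  hj := by rw [← h.hj, ← Subgroup.orderOf_coe]
  hjB := h.hjB
  comm x hx y hy := Subtype.ext (h.comm _ hx _ hy)
  hs := by rw [← h.hs, ← Subgroup.orderOf_coe]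
  hsB := h.hsB
  hinv b hb := Subtype.ext (h.hinv _ hb)
  hH g hg := h.hH g (congrArg Subtype.val hg)
  hcent ω hω h2 g :=
    ⟨fun e => Subtype.ext ((h.hcent _ hω (by rwa [Subgroup.subtype_apply, Subgroup.orderOf_coe]) g).1 (congrArg Subtype.val e)),
      fun e => Subtype.ext ((h.hcent _ hω (by rwa [Subgroup.subtype_apply, Subgroup.orderOf_coe]) g).2 (congrArg Subtype.val e))⟩

end Cfg

theorem TI.map {j : G} {G' : Type*} [Group G'] (e : G ≃* G') (h : TI j) : TI (e j) := by
  intro y hy hy1 hyj g hgy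
  obtain ⟨y, rfl⟩ := e.surjective y
  obtain ⟨g, rfl⟩ := e.surjective g
  rw [← map_mul, ← map_mul, e.injective.eq_iff] at hyj hgy ⊢
  exact h y (by rwa [show orderOf (e y) = orderOf y from orderOf_injective e.toMonoidHom e.injective y] at hy)
    (fun e1 => hy1 (by rw [e1, map_one])) hyj g hgy

theorem One.map {j : G} {B : Subgroup G} {G' : Type*} [Group G'] (e : G ≃* G') (h : One j B) :
    One (e j) (B.map e.toMonoidHom) := by
  rintro _ ⟨ω, hω, rfl⟩ h2
  exact congrArg e (h ω hω ((orderOf_injective e.toMonoidHom e.injective ω).symm.trans h2))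

/-- Every involution has a D-group centralizer with a single inner involution and the TI property. -/
def Good (G : Type*) [Group G] : Prop :=
  ∀ i : G, orderOf i = 2 → ∃ (B : Subgroup G) (s : G), Cfg i B s ∧ One i B ∧ TI i

theorem good_conj {j : G} {B : Subgroup G} {s : G} (h : Cfg j B s) (h1 : One j B) (hTI : TI j)
    {i : G} (hi : IsConj j i) : ∃ (B : Subgroup G) (s : G), Cfg i B s ∧ One i B ∧ TI i := by
  obtain ⟨g, rfl⟩ := isConj_iff.1 hi
  exact ⟨_, _, h.map (MulAut.conj g), h1.map (MulAut.conj g), hTI.map (MulAut.conj g)⟩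

end CfsgLib.Characterizations.DGroup
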