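import Cfsg.Agent.Lib.Characterizations.DGroup.Odd

/-!
# Maximal `p`-subgroups normalized by a four group intersect trivially
-/

set_option autoImplicit false

namespace CfsgLib.Characterizations.DGroup

open CfsgLib.Involution.Dihedral

universe u

variable {G : Type u} [Group G]

/-- A `p`-subgroup normalized by `i` and `k`. -/
structure IP (p : ℕ) (i k : G) (P : Subgroup G) : Prop where
  pg : IsPGroup p P
  nrm : Nrm i k P

/-- A maximal such subgroup. -/
structure Mx (p : ℕ) (i k : G) (P : Subgroup G) : Prop extends IP p i k P where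
  max : ∀ P' : Subgroup G, IP p i k P' → P ≤ P' → P' = P

theorem Nrm.inf {i k : G} {X Y : Subgroup G} (hX : Nrm i k X) (hY : Nrm i k Y) : Nrm i k (X ⊓ Y) :=
  ⟨fun x hx => ⟨hX.1 x hx.1, hY.1 x hx.2⟩, fun x hx => ⟨hX.2 x hx.1, hY.2 x hx.2⟩⟩

theorem map_sup_le {X Y : Subgroup G} {g : G} (hX : ∀ x ∈ X, g * x * g⁻¹ ∈ X) (hY : ∀ x ∈ Y, g * x * g⁻¹ ∈ Y) :
    ∀ x ∈ X ⊔ Y, g * x * g⁻¹ ∈ X ⊔ Y := by
  intro x hx
  have hle : (X ⊔ Y).map (MulAut.conj g).toMonoidHom ≤ X ⊔ Y := by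
    rw [Subgroup.map_sup]
    refine sup_le_sup ?_ ?_
    · rintro _ ⟨y, hy, rfl⟩; exact hX y hy
    · rintro _ ⟨y, hy, rfl⟩; exact hY y hy
  exact hle ⟨x, hx, rfl⟩

theorem Nrm.sup {i k : G} {X Y : Subgroup G} (hX : Nrm i k X) (hY : Nrm i k Y) : Nrm i k (X ⊔ Y) :=
  ⟨map_sup_le hX.1 hY.1, map_sup_le hX.2 hY.2⟩

theorem centralizer_conj {X : Subgroup G} {g : G} (hg : ∀ x ∈ X, g⁻¹ * x * g⁻¹⁻¹ ∈ X) {w : G}
    (hw : w ∈ Subgroup.centralizer (X : Set G)) : g * w * g⁻¹ ∈ Subgroup.centralizer (X : Set G) := by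
  refine Subgroup.mem_centralizer_iff.2 fun x hx => ?_
  have h1 := Subgroup.mem_centralizer_iff.1 hw _ (hg x hx)
  calc x * (g * w * g⁻¹) = g * (g⁻¹ * x * g⁻¹⁻¹ * w) * g⁻¹ := by group
    _ = g * (w * (g⁻¹ * x * g⁻¹⁻¹)) * g⁻¹ := by rw [h1]
    _ = _ := by group

theorem mem_map_conj {X : Subgroup G} {g x : G} :
    x ∈ X.map (MulAut.conj g).toMonoidHom ↔ g⁻¹ * x * g ∈ X := by
  constructor
  · rintro ⟨y, hy, rfl⟩
    show g⁻¹ * (g * y * g⁻¹) * g ∈ X
    rwa [show g⁻¹ * (g * y * g⁻¹) * g = y by group]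
  · intro hx
    exact ⟨_, hx, show g * (g⁻¹ * x * g) * g⁻¹ = x by group⟩

variable [Finite G] {i k : G}

namespace Fr

variable (f : Fr i k)
include f

theorem nrm_centralizer {X : Subgroup G} (hX : Nrm i k X) : Nrm i k (Subgroup.centralizer (X : Set G)) := by
  constructor
  · exact fun w hw => centralizer_conj (fun x hx => by rw [inv_eq f.hi]; exact hX.1 x hx) hw
  · exact fun w hw => centralizer_conj (fun x hx => by rw [inv_eq f.hk]; exact hX.2 x hx) hw

theorem norm_lab {g : G} (hg : g ∈ Subgroup.normalizer (f.grp : Set G)) {l : G} (hl : Lab i k l) :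
    Lab i k (g * l * g⁻¹) :=
  (f.mem_grp.1 ((Subgroup.mem_normalizer_iff.1 hg l).1 (f.mem_grp.2 (Or.inr hl)))).resolve_left
    (conj_ne_one (ne_one (f.lab hl).1))

theorem norm_lab' {g : G} (hg : g ∈ Subgroup.normalizer (f.grp : Set G)) {l : G} (hl : Lab i k l) :
    Lab i k (g⁻¹ * l * g) := by
  have := f.norm_lab (inv_mem hg) hl
  rwa [inv_inv] at this

theorem map_IP {p : ℕ} {g : G} (hg : g ∈ Subgroup.normalizer (f.grp : Set G)) {P : Subgroup G}
    (hP : IP p i k P) : IP p i k (P.map (MulAut.conj g).toMonoidHom) := by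
  refine ⟨hP.pg.map _, fun x hx => ?_, fun x hx => ?_⟩ <;> rw [mem_map_conj] at hx ⊢
  · rw [show g⁻¹ * (i * x * i⁻¹) * g = g⁻¹ * i * g * (g⁻¹ * x * g) * (g⁻¹ * i * g)⁻¹ by group]
    exact f.nrm_lab hP.nrm (f.norm_lab' hg (Or.inl rfl)) _ hx
  · rw [show g⁻¹ * (k * x * k⁻¹) * g = g⁻¹ * k * g * (g⁻¹ * x * g) * (g⁻¹ * k * g)⁻¹ by group]
    exact f.nrm_lab hP.nrm (f.norm_lab' hg (Or.inr (Or.inl rfl))) _ hx

theorem map_Mx {p : ℕ} {g : G} (hg : g ∈ Subgroup.normalizer (f.grp : Set G)) {P : Subgroup G}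
    (hP : Mx p i k P) : Mx p i k (P.map (MulAut.conj g).toMonoidHom) := by
  refine ⟨f.map_IP hg hP.toIP, fun P' hP' hle => ?_⟩
  have h1 := hP.max _ (f.map_IP (inv_mem hg) hP') (fun x hx => mem_map_conj.2 (hle (mem_map_conj.2 (by
    rwa [show g⁻¹ * (g⁻¹⁻¹ * x * g⁻¹) * g = x by group]))))
  refine le_antisymm (fun x hx => ?_) hle
  rw [mem_map_conj, ← h1, mem_map_conj]
  rwa [show g⁻¹⁻¹ * (g⁻¹ * x * g) * g⁻¹ = x by group]

theorem mem_grp_of_fix (h : Hyp G) {g : G} (hg : ∀ l, Lab i k l → g * l * g⁻¹ = l) : g ∈ f.grp :=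
  f.mem_grp.2 (h.four f.hi f.hk f.comm.symm f.ne.symm (conj_eq_iff.1 (hg i (Or.inl rfl)))
    (conj_eq_iff.1 (hg k (Or.inr (Or.inl rfl)))))

theorem fix_of_mem {g : G} (hg : g ∈ f.grp) {l : G} (hl : Lab i k l) : g * l * g⁻¹ = l := by
  rcases f.mem_grp.1 hg with rfl | hg
  · group
  · exact conj_eq_iff.2 (f.lab_comm hg hl)

omit [Finite G] in
theorem grp_isPGroup : IsPGroup 2 f.grp := IsPGroup.of_card (n := 2) (by rw [f.grp_card]; norm_num)

/-- The automizer of the four group is transitive on its involutions. -/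
theorem transitive (h : Hyp G) {a b : G} (ha : Lab i k a) (hb : Lab i k b) :
    ∃ g ∈ Subgroup.normalizer (f.grp : Set G), g * a * g⁻¹ = b := by
  haveI : Fact (Nat.Prime 2) := ⟨Nat.prime_two⟩
  by_cases hab : a = b
  · exact ⟨1, one_mem _, by rw [one_mul, inv_one, mul_one, hab]⟩
  obtain ⟨-, hc, hca, hcb⟩ := f.lab_frame ha hb hab
  by_cases hS : ∃ S : Sylow 2 G, (S : Subgroup G) = f.grp
  · obtain ⟨S, hS⟩ := hS
    obtain ⟨g, hg, hgC⟩ : ∃ g ∈ Subgroup.normalizer (f.grp : Set G),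
        g ∉ Subgroup.centralizer (f.grp : Set G) := by
      by_contra hcon
      push Not at hcon
      obtain ⟨S', N, hN, hcp⟩ := CfsgLib.Fusion.Abelian.npc_of_normalizer_le_centralizer S (by
        show Subgroup.normalizer ((S : Subgroup G) : Set G) ≤ Subgroup.centralizer ((S : Subgroup G) : Set G)
        rw [hS]; exact fun x hx => hcon x hx)
      obtain ⟨g, hg⟩ := isConj_iff.1 (h.conj i k f.hi f.hk)
      haveI := hN
      have hcard : Nat.card S' = 4 := by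
        rw [S'.card_eq_multiplicity, ← S.card_eq_multiplicity]
        rw [hS, f.grp_card]
      have hcomm : ∀ x y : G ⧸ N, x * y = y * x := by
        haveI : IsMulCommutative (G ⧸ N) := by
          have h4 : Nat.card (G ⧸ N) = 2 ^ 2 := by
            rw [← Subgroup.index_eq_card, hcp.symm.index_eq_card]; exact hcard
          exact IsPGroup.isMulCommutative_of_card_eq_prime_sq h4
        exact fun x y => mul_comm' x y
      have hmem : i * k ∈ N := by
        refine (QuotientGroup.eq_one_iff _).1 ?_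
        show QuotientGroup.mk' N (i * k) = 1
        rw [← hg, map_mul, map_mul, map_mul, map_inv, hcomm (QuotientGroup.mk' N g), mul_inv_cancel_right,
          ← map_mul, mul_self f.hi, map_one]
      have hodd : Odd (Nat.card N) := by
        rw [← hcp.index_eq_card, Nat.odd_iff]
        have := S'.not_dvd_index
        omega
      have := odd_orderOf_mem hodd hmem
      rw [f.ik] at this
      exact absurd this (by decide)
    have hfpf : ∀ l, Lab i k l → g * l * g⁻¹ ≠ l := by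
      intro l hl hfix
      have hsq : g * g ∈ f.grp := by
        refine f.mem_grp_of_fix h fun m hm => ?_
        by_cases hml : m = l
        · rw [hml, show g * g * l * (g * g)⁻¹ = g * (g * l * g⁻¹) * g⁻¹ by group, hfix, hfix]
        obtain ⟨-, hn, -, -⟩ := f.lab_frame hm hl hml
        rcases f.lab_cases hm hl hml (f.norm_lab hg hm) with e | e | e
        · rw [show g * g * m * (g * g)⁻¹ = g * (g * m * g⁻¹) * g⁻¹ by group, e, e]
        · exact absurd (mul_left_cancel (mul_right_cancel (e.trans hfix.symm))) hml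
        · rw [show g * g * m * (g * g)⁻¹ = g * (g * m * g⁻¹) * g⁻¹ by group, e,
            show g * (m * l) * g⁻¹ = g * m * g⁻¹ * (g * l * g⁻¹) by group, e, hfix, mul_assoc,
            mul_self (f.lab hl).1, mul_one]
      have hg2 : PEl 2 g := by
        obtain ⟨n, hn⟩ := pEl_of_mem f.grp_isPGroup hsq
        exact ⟨n + 1, by rw [pow_succ', pow_mul, pow_two, hn]⟩
      have hsup : IsPGroup 2 (f.grp ⊔ Subgroup.zpowers g : Subgroup G) :=
        f.grp_isPGroup.to_sup_of_normal_left' (isPGroup_zpowers hg2) (Subgroup.zpowers_le.2 hg)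
      have hgV : g ∈ f.grp := by
        rw [← hS, ← S.3 hsup (by rw [hS]; exact le_sup_left)]
        exact Subgroup.mem_sup_right (Subgroup.mem_zpowers g)
      exact hgC (Subgroup.mem_centralizer_iff.2 fun x hx => by
        rcases f.mem_grp.1 hgV with rfl | hgl <;> rcases f.mem_grp.1 hx with rfl | hxl
        · rfl
        · rw [one_mul, mul_one]
        · rw [one_mul, mul_one]
        · exact f.lab_comm hxl hgl)
    rcases f.lab_cases ha hb hab (f.norm_lab hg ha) with e | e | e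
    · exact absurd e (hfpf a ha)
    · exact ⟨g, hg, e⟩
    · refine ⟨g * g, mul_mem hg hg, ?_⟩
      rw [show g * g * a * (g * g)⁻¹ = g * (g * a * g⁻¹) * g⁻¹ by group, e]
      rcases f.lab_cases ha hb hab (f.norm_lab hg hc) with e' | e' | e'
      · exfalso
        rcases f.lab_cases ha hb hab (f.norm_lab hg hb) with e'' | e'' | e''
        · exact hcb (mul_left_cancel (mul_right_cancel (e'.trans e''.symm)))
        · exact hfpf b hb e''
        · exact hab (mul_left_cancel (mul_right_cancel (e.trans e''.symm)))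
      · exact e'
      · exact absurd e' (hfpf _ hc)
  · push Not at hS
    set C := Subgroup.centralizer ({a * b} : Set G) with hC
    have hVC : f.grp ≤ C := fun x hx => mem_C.2 (conj_eq_iff.1 (f.fix_of_mem hx hc))
    obtain ⟨Q, hQ⟩ := (f.grp_isPGroup.of_equiv (Subgroup.subgroupOfEquivOfLe hVC).symm).exists_le_sylow
    obtain ⟨S, hSQ⟩ : ∃ S : Sylow 2 G, (S : Subgroup G) = (Q : Subgroup C).map C.subtype := by
      obtain ⟨S0⟩ : Nonempty (Sylow 2 G) := inferInstance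
      have h2 : IsPGroup 2 ((Q : Subgroup C).map C.subtype) := Q.2.map _
      obtain ⟨S, hS'⟩ := h2.exists_le_sylow
      have h2G : 2 ∣ Nat.card G := f.hi ▸ orderOf_dvd_natCard i
      haveI : Nontrivial (S0 : Subgroup G) := Finite.one_lt_card_iff_nontrivial.1 (by
        have := Nat.le_of_dvd Nat.card_pos (S0.dvd_card_of_dvd_card h2G)
        omega)
      haveI := S0.2.center_nontrivial
      obtain ⟨z, hz⟩ : ∃ z : Subgroup.center (S0 : Subgroup G), orderOf z = 2 := by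
        obtain ⟨e, he, hh⟩ :=
          (S0.2.to_subgroup (Subgroup.center (S0 : Subgroup G))).nontrivial_iff_card.1 inferInstance
        exact exists_prime_orderOf_dvd_card' 2 (by rw [hh]; exact dvd_pow_self 2 (by omega))
      obtain ⟨d, hd⟩ := isConj_iff.1 (h.conj ((z : (S0 : Subgroup G)) : G) (a * b)
        (by rw [Subgroup.orderOf_coe, Subgroup.orderOf_coe]; exact hz) (f.lab hc).1)
      have hle : (S0 : Subgroup G).map (MulAut.conj d).toMonoidHom ≤ C := by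
        rintro _ ⟨x, hx, rfl⟩
        refine mem_C.2 ?_
        show d * x * d⁻¹ * (a * b) = a * b * (d * x * d⁻¹)
        rw [← hd, conj_mul, conj_mul,
          show x * ((z : (S0 : Subgroup G)) : G) = ((z : (S0 : Subgroup G)) : G) * x from
            congrArg Subtype.val (Subgroup.mem_center_iff.1 z.2 ⟨x, hx⟩)]
      obtain ⟨Q', hQ'⟩ := ((S0.2.map (MulAut.conj d).toMonoidHom).of_equiv
        (Subgroup.subgroupOfEquivOfLe hle).symm).exists_le_sylow
      refine ⟨S, (Subgroup.eq_of_le_of_card_ge hS' ?_).symm⟩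
      have h3 := Subgroup.card_le_of_le hQ'
      rw [Nat.card_congr (Subgroup.subgroupOfEquivOfLe hle).toEquiv,
        Subgroup.card_map_of_injective (MulAut.conj d).injective, S0.card_eq_multiplicity,
        Q'.card_eq_multiplicity, ← Q.card_eq_multiplicity] at h3
      rw [S.card_eq_multiplicity, CfsgLib.Coprime.card_map_subtype]
      exact h3
    have hVS : f.grp ≤ (S : Subgroup G) := by
      rw [hSQ]; exact fun x hx => ⟨⟨x, hVC hx⟩, hQ hx, rfl⟩
    obtain ⟨x, hxS, hxV, hxN, -⟩ := exists_normalizing_sq S.2 (lt_of_le_of_ne hVS (hS S).symm)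
    have hfix : x * (a * b) * x⁻¹ = a * b := conj_eq_iff.2 (mem_C.1 (by
      rw [hSQ] at hxS
      exact Subgroup.map_subtype_le _ hxS))
    refine ⟨x, hxN, ?_⟩
    rcases f.lab_cases ha hb hab (f.norm_lab hxN ha) with e | e | e
    · exfalso
      refine hxV (f.mem_grp_of_fix h fun l hl => ?_)
      rcases f.lab_cases ha hb hab hl with rfl | rfl | rfl
      · exact e
      · have e' : l = a * (a * l) := by rw [← mul_assoc, mul_self (f.lab ha).1, one_mul]
        rw [e', show x * (a * (a * l)) * x⁻¹ = x * a * x⁻¹ * (x * (a * l) * x⁻¹) by group, e, hfix]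
      · exact hfix
    · exact e
    · exact absurd (mul_left_cancel (mul_right_cancel (e.trans hfix.symm))) hca.symm

variable {p : ℕ} [Fact p.Prime]

theorem exists_max {P : Subgroup G} (hP : IP p i k P) : ∃ M, Mx p i k M ∧ P ≤ M := by
  obtain ⟨M, hle, hM⟩ := Finite.exists_le_maximal (p := fun P : Subgroup G => IP p i k P) hP
  exact ⟨M, ⟨hM.prop, fun P' hP' hle' => le_antisymm (hM.le_of_ge hP' hle') hle'⟩, hle⟩

omit f in
theorem IP.odd (hp : Odd p) {P : Subgroup G} (hP : IP p i k P) : Odd (Nat.card P) :=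
  odd_card_of_isPGroup hp hP.pg

theorem zpowers_IP {u : G} (hu : PEl p u) (h1 : i * u * i⁻¹ = u ∨ i * u * i⁻¹ = u⁻¹)
    (h2 : k * u * k⁻¹ = u ∨ k * u * k⁻¹ = u⁻¹) : IP p i k (Subgroup.zpowers u) := by
  refine ⟨isPGroup_zpowers hu, fun x hx => ?_, fun x hx => ?_⟩ <;>
    obtain ⟨n, rfl⟩ := Subgroup.mem_zpowers_iff.1 hx <;> rw [← _root_.conj_zpow]
  · rcases h1 with e | e <;> rw [e] <;> first
      | exact zpow_mem (Subgroup.mem_zpowers u) n
      | exact zpow_mem (inv_mem (Subgroup.mem_zpowers u)) n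
  · rcases h2 with e | e <;> rw [e] <;> first
      | exact zpow_mem (Subgroup.mem_zpowers u) n
      | exact zpow_mem (inv_mem (Subgroup.mem_zpowers u)) n

theorem Jp_IP (h : Hyp G) (hp : Odd p) {l : G} (hl : Lab i k l) : IP p i k (h.Jp p hp (f.lab hl).1) := by
  refine ⟨h.Jp_isPGroup, fun x hx => ?_, fun x hx => ?_⟩
  · refine ⟨?_, hx.2.conj i⟩
    show Commute (i * x * i⁻¹) l
    have hi : Commute i l := (f.lab hl).2.1.symm
    exact (hi.mul_left hx.1).mul_left hi.inv_left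
  · refine ⟨?_, hx.2.conj k⟩
    show Commute (k * x * k⁻¹) l
    have hk : Commute k l := (f.lab hl).2.2.symm
    exact (hk.mul_left hx.1).mul_left hk.inv_left

/-- The largest invariant `p`-subgroup centralizing `z`. -/
theorem exists_R (h : Hyp G) (hp : Odd p) {z l : G} (hz : Odd (orderOf z)) (hz1 : z ≠ 1) (hl : Lab i k l)
    (hzl : z * l = l * z) : ∃ R : Subgroup G, IP p i k R ∧ (∀ x ∈ R, x * z = z * x) ∧
      h.Jp p hp (f.lab hl).1 ≤ R ∧ (∀ P, IP p i k P → (∀ x ∈ P, x * z = z * x) → P ≤ R) ∧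
      Nat.card R = p ^ (Nat.card (oddC z)).factorization p := by
  have hl2 := f.lab hl
  have hXn : Nrm i k (oddC z) :=
    ⟨fun x hx => oddC_conj (h.fix_or_invert hl2.1 hl2.2.1.symm hz hzl) hx,
      fun x hx => oddC_conj (h.fix_or_invert hl2.1 hl2.2.2.symm hz hzl) hx⟩
  have hodd := oddC_odd h hz hz1
  have hJX : h.Jp p hp hl2.1 ≤ oddC z := fun x hx =>
    mem_oddC (PEl.odd hp hx.2) (h.odd_comm hl2.1 (PEl.odd hp hx.2) hz hx.1 hzl)
  have hJ := f.Jp_IP h hp hl
  obtain ⟨R, hR, hRn, hRX, hJR, -, hRc⟩ := f.join h hXn hodd hJ.pg hJ.nrm hJX hJ.pg hJ.nrm hJX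
  refine ⟨R, ⟨hR, hRn⟩, fun x hx => oddC_comm (hRX hx), hJR, fun P hP hPz => ?_, hRc⟩
  have hPX : P ≤ oddC z := fun x hx => mem_oddC (PEl.odd hp (pEl_of_mem hP.pg hx)) (hPz x hx)
  obtain ⟨R', -, -, -, hPR', hRR', hR'c⟩ := f.join h hXn hodd hP.pg hP.nrm hPX hR hRn hRX
  rw [Subgroup.eq_of_le_of_card_ge hRR' (by rw [hRc, hR'c])]
  exact hPR'

/-- A maximal subgroup with a central element commuting with `l` contains the `p`-part of `C(l)`. -/
theorem max_central (h : Hyp G) (hp : Odd p) {P : Subgroup G} (hP : Mx p i k P) {z l : G} (hzP : z ∈ P)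
    (hz1 : z ≠ 1) (hl : Lab i k l) (hzl : z * l = l * z) (hzc : ∀ x ∈ P, x * z = z * x) :
    h.Jp p hp (f.lab hl).1 ≤ P ∧ ∀ g ∈ Subgroup.normalizer (f.grp : Set G), g * l * g⁻¹ = l →
      P.map (MulAut.conj g).toMonoidHom = P := by
  have hzo := PEl.odd hp (pEl_of_mem hP.pg hzP)
  obtain ⟨R, hR, -, hJR, hmax, -⟩ := f.exists_R h hp hzo hz1 hl hzl
  have e := hP.max R hR (hmax P hP.toIP hzc)
  refine ⟨e ▸ hJR, fun g hg hgl => Subgroup.eq_of_le_of_card_ge ?_ ?_⟩
  · refine le_trans (hmax _ (f.map_IP hg hP.toIP) ?_) e.le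
    rintro _ ⟨x, hx, rfl⟩
    show Commute (g * x * g⁻¹) z
    have h1 : Commute (g * x * g⁻¹) (g * z * g⁻¹) := by
      show g * x * g⁻¹ * (g * z * g⁻¹) = g * z * g⁻¹ * (g * x * g⁻¹)
      rw [conj_mul, conj_mul, hzc x hx]
    rcases h.fix_or_invert (f.lab hl).1 (conj_eq_iff.1 hgl) hzo hzl with e' | e' <;> rw [e'] at h1
    · exact h1
    · exact Commute.inv_right_iff.1 h1
  · rw [Subgroup.card_map_of_injective (MulAut.conj g).injective]

theorem center_component (h : Hyp G) (hp : Odd p) {P : Subgroup G} (hP : IP p i k P) (hP1 : P ≠ ⊥) :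
    ∃ l, Lab i k l ∧ ∃ z ∈ P, z ≠ 1 ∧ z * l = l * z ∧ ∀ x ∈ P, x * z = z * x := by
  haveI : Nontrivial P := (Subgroup.nontrivial_iff_ne_bot P).2 hP1
  haveI := hP.pg.center_nontrivial
  obtain ⟨c, hc⟩ := exists_ne (1 : Subgroup.center P)
  set W := P ⊓ Subgroup.centralizer (P : Set G) with hW
  have hW1 : W ≠ ⊥ := fun e => hc (Subtype.ext (Subtype.ext (Subgroup.mem_bot.1 (e ▸
    (⟨(c : P).2, Subgroup.mem_centralizer_iff.2 fun x hx =>
      congrArg Subtype.val (Subgroup.mem_center_iff.1 c.2 ⟨x, hx⟩)⟩ : ((c : P) : G) ∈ W)))))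
  obtain ⟨l, hl, z, hz, hz1, hzl⟩ := f.exists_component (hP.nrm.inf (f.nrm_centralizer hP.nrm))
    ((IP.odd hp hP).of_dvd_nat (Subgroup.card_dvd_of_le inf_le_left)) hW1
  exact ⟨l, hl, z, hz.1, hz1, hzl, fun x hx => Subgroup.mem_centralizer_iff.1 hz.2 x hx⟩

theorem disjoint_aux (h : Hyp G) (hp : Odd p) : ∀ (n : ℕ) (P Q : Subgroup G),
    Nat.card G - Nat.card (P ⊓ Q : Subgroup G) = n → Mx p i k P → Mx p i k Q → P ⊓ Q ≠ ⊥ → P = Q := by
  intro n
  induction n using Nat.strong_induction_on with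
  | _ n ih =>
  intro P Q hn hP hQ hD1
  by_contra hPQ
  haveI : Fact (Nat.Prime 2) := ⟨Nat.prime_two⟩
  set D := P ⊓ Q with hDdef
  have hkey : ∀ M P' : Subgroup G, Mx p i k M → Mx p i k P' → D ≤ M → D ≤ P' → ∀ x ∈ M, x ∈ P' → x ∉ D →
      M = P' := by
    intro M P' hM hP' hDM hDP' x hxM hxP hxD
    have hlt : Nat.card D < Nat.card (M ⊓ P' : Subgroup G) := by
      rcases lt_or_eq_of_le (Subgroup.card_le_of_le (le_inf hDM hDP')) with e | e
      · exact e
      · exact absurd ((Subgroup.eq_of_le_of_card_ge (le_inf hDM hDP') e.ge).ge ⟨hxM, hxP⟩) hxD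
    refine ih _ ?_ M P' rfl hM hP' ?_
    · rw [← hn]
      have := Subgroup.card_le_card_group (M ⊓ P')
      omega
    · intro e
      rw [e, Subgroup.card_bot] at hlt
      have : 0 < Nat.card D := Nat.card_pos
      omega
  have hDn : Nrm i k D := hP.nrm.inf hQ.nrm
  have hDp : IsPGroup p D := hP.pg.to_le inf_le_left
  set K := Subgroup.normalizer (D : Set G) with hKdef
  have hiK : i ∈ K := mem_normalizer_of_maps hDn.1
  have hkK : k ∈ K := mem_normalizer_of_maps hDn.2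
  have hKn : Nrm i k K := ⟨fun x hx => mul_mem (mul_mem hiK hx) (inv_mem hiK),
    fun x hx => mul_mem (mul_mem hkK hx) (inv_mem hkK)⟩
  have htor : ∀ P' : Subgroup G, Mx p i k P' → D < P' →
      ∃ l, ∃ hl : Lab i k l, ∃ u ∈ P', u ∈ h.Jp p hp (f.lab hl).1 ∧ u ∈ K ∧ u ∉ D := by
    intro P' hP' hlt
    by_contra hcon
    push Not at hcon
    refine (CfsgLib.Coprime.lt_normalizer_inf_of_lt hP'.pg hlt).not_ge (f.nrm_le (hP'.nrm.inf hKn)
      ((IP.odd hp hP'.toIP).of_dvd_nat (Subgroup.card_dvd_of_le inf_le_left)) fun l hl x hx hxl => ?_)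
    exact hcon l hl x hx.1 ⟨hxl, pEl_of_mem hP'.pg hx.1⟩ hx.2
  have hDP : D < P := lt_of_le_of_ne inf_le_left fun e => hPQ (hP.max Q hQ.toIP (e ▸ inf_le_right)).symm
  have hDQ : D < Q := lt_of_le_of_ne inf_le_right fun e => hPQ (hQ.max P hP.toIP (e ▸ inf_le_left))
  have huniq : ∀ (l : G) (hl : Lab i k l) (M₁ M₂ : Subgroup G), Mx p i k M₁ → Mx p i k M₂ → D ≤ M₁ →
      D ≤ M₂ → ∀ u₁ ∈ M₁, u₁ ∈ h.Jp p hp (f.lab hl).1 → u₁ ∈ K → u₁ ∉ D →
      ∀ u₂ ∈ M₂, u₂ ∈ h.Jp p hp (f.lab hl).1 → u₂ ∈ K → u₂ ∉ D → M₁ = M₂ := by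
    intro l hl M₁ M₂ h1 h2 hD1 hD2 u₁ hu₁ hu₁J hu₁K hu₁D u₂ hu₂ hu₂J hu₂K hu₂D
    set U := h.Jp p hp (f.lab hl).1 ⊓ K with hU
    have hUp : IsPGroup p U := h.Jp_isPGroup.to_le inf_le_left
    have hL : IP p i k (D ⊔ U) := ⟨hDp.to_sup_of_normal_left' hUp inf_le_right,
      hDn.sup ((f.Jp_IP h hp hl).nrm.inf hKn)⟩
    obtain ⟨M, hM, hle⟩ := f.exists_max hL
    have e1 := hkey M M₁ hM h1 (le_sup_left.trans hle) hD1 u₁
      (hle (Subgroup.mem_sup_right ⟨hu₁J, hu₁K⟩)) hu₁ hu₁D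
    have e2 := hkey M M₂ hM h2 (le_sup_left.trans hle) hD2 u₂
      (hle (Subgroup.mem_sup_right ⟨hu₂J, hu₂K⟩)) hu₂ hu₂D
    exact e1.symm.trans e2
  obtain ⟨a, ha, uP, huP, huPJ, huPK, huPD⟩ := htor P hP hDP
  obtain ⟨b, hb, uQ, huQ, huQJ, huQK, huQD⟩ := htor Q hQ hDQ
  have hab : a ≠ b := by
    rintro rfl
    exact hPQ (huniq a ha P Q hP hQ inf_le_left inf_le_right uP huP huPJ huPK huPD uQ huQ huQJ huQK huQD)
  obtain ⟨fab, hc, hca, hcb⟩ := f.lab_frame ha hb hab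
  -- the central part of `D`
  set W := D ⊓ Subgroup.centralizer (D : Set G) with hWdef
  have hWn : Nrm i k W := hDn.inf (f.nrm_centralizer hDn)
  have hWc : ∀ v ∈ W, ∀ w ∈ W, v * w = w * v := fun v hv w hw => Subgroup.mem_centralizer_iff.1 hw.2 v hv.1
  have hW1 : W ≠ ⊥ := by
    obtain ⟨l, hl, z, hz, hz1, -, hzc⟩ := f.center_component h hp ⟨hDp, hDn⟩ hD1
    exact fun e => hz1 (Subgroup.mem_bot.1 (e ▸ (⟨hz, Subgroup.mem_centralizer_iff.2 hzc⟩ : z ∈ W)))
  have hWp : IsPGroup p W := hDp.to_le inf_le_left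
  have hstep : ∀ (P' Q' : Subgroup G) (a b : G) (ha : Lab i k a) (hb : Lab i k b), a ≠ b →
      Mx p i k P' → P' ⊓ Q' = D →
      ∀ u ∈ P', u ∈ h.Jp p hp (f.lab ha).1 → u ∈ K → u ∉ D →
      ∀ u' ∈ Q', u' ∈ h.Jp p hp (f.lab hb).1 → u' ∉ D →
      (∀ w ∈ W, w * a = a * w) ∨ ((∀ y, y * (a * b) = a * b * y → PEl p y → y ∈ P') ∧
        ∃ z ∈ W, z ≠ 1 ∧ z * (a * b) = a * b * z) := by
    intro P' Q' a b ha hb hab hP' hPQD u hu huJ huK huD u' hu' hu'J hu'D
    by_cases hWa : ∀ w ∈ W, w * a = a * w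
    · exact Or.inl hWa
    push Not at hWa
    obtain ⟨w, hw, hwa⟩ := hWa
    have ha2 := f.lab ha
    let W' : Subgroup G :=
      { carrier := {w | w ∈ W ∧ a * w * a⁻¹ = w⁻¹}
        one_mem' := ⟨one_mem _, by group⟩
        mul_mem' := by
          rintro x y ⟨hx, ex⟩ ⟨hy, ey⟩
          refine ⟨mul_mem hx hy, ?_⟩
          rw [← conj_mul, ex, ey, mul_inv_rev, hWc _ (inv_mem hx) _ (inv_mem hy)]
        inv_mem' := by
          rintro x ⟨hx, ex⟩
          refine ⟨inv_mem hx, ?_⟩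
          rw [show a * x⁻¹ * a⁻¹ = (a * x * a⁻¹)⁻¹ by group, ex] }
    have hW'1 : W' ≠ ⊥ := by
      have hae : a * w * a⁻¹ ∈ W := f.nrm_lab hWn ha w hw
      have he : w⁻¹ * (a * w * a⁻¹) ∈ W' := ⟨mul_mem (inv_mem hw) hae, by
        calc a * (w⁻¹ * (a * w * a⁻¹)) * a⁻¹ = (a * w * a⁻¹)⁻¹ * ((a * a) * w * (a * a)⁻¹) := by group
          _ = (w⁻¹ * (a * w * a⁻¹))⁻¹ := by rw [mul_self ha2.1]; group⟩
      intro e
      rw [e, Subgroup.mem_bot, inv_mul_eq_one] at he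
      exact hwa (conj_eq_iff.1 he.symm).symm
    have hW'p : IsPGroup p W' := hWp.to_le fun x hx => hx.1
    have huD' : ∀ x ∈ D, u⁻¹ * x * u⁻¹⁻¹ ∈ D := fun x hx =>
      (Subgroup.mem_normalizer_iff.1 (inv_mem huK) x).1 hx
    have huW' : ∀ x ∈ W', u * x * u⁻¹ ∈ W' := by
      rintro x ⟨hx, ex⟩
      refine ⟨⟨(Subgroup.mem_normalizer_iff.1 huK x).1 hx.1, centralizer_conj huD' hx.2⟩, ?_⟩
      have hau : Commute a u := huJ.1.symm
      calc a * (u * x * u⁻¹) * a⁻¹ = (a * u) * x * (a * u)⁻¹ := by group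
        _ = (u * a) * x * (u * a)⁻¹ := by rw [hau.eq]
        _ = u * (a * x * a⁻¹) * u⁻¹ := by group
        _ = (u * x * u⁻¹)⁻¹ := by rw [ex]; group
    have hW'n : Nrm i k W' := by
      constructor <;> rintro x ⟨hx, ex⟩
      · refine ⟨hWn.1 x hx, ?_⟩
        have hai : a * i = i * a := ha2.2.1
        calc a * (i * x * i⁻¹) * a⁻¹ = (a * i) * x * (a * i)⁻¹ := by group
          _ = i * (a * x * a⁻¹) * i⁻¹ := by rw [hai]; group
          _ = (i * x * i⁻¹)⁻¹ := by rw [ex]; group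
      · refine ⟨hWn.2 x hx, ?_⟩
        have hak : a * k = k * a := ha2.2.2
        calc a * (k * x * k⁻¹) * a⁻¹ = (a * k) * x * (a * k)⁻¹ := by group
          _ = k * (a * x * a⁻¹) * k⁻¹ := by rw [hak]; group
          _ = (k * x * k⁻¹)⁻¹ := by rw [ex]; group
    have huo : Odd (orderOf u) := PEl.odd hp huJ.2
    have hiu := h.fix_or_invert ha2.1 ha2.2.1.symm huo huJ.1
    have hku := h.fix_or_invert ha2.1 ha2.2.2.symm huo huJ.1
    have hCun : Nrm i k (Subgroup.centralizer ({u} : Set G)) := by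
      have key : ∀ g : G, (g * u * g⁻¹ = u ∨ g * u * g⁻¹ = u⁻¹) → ∀ x ∈ Subgroup.centralizer ({u} : Set G),
          g * x * g⁻¹ ∈ Subgroup.centralizer ({u} : Set G) := by
        intro g hg x hx
        refine mem_C.2 ?_
        have h1 : Commute (g * x * g⁻¹) (g * u * g⁻¹) := by
          show g * x * g⁻¹ * (g * u * g⁻¹) = g * u * g⁻¹ * (g * x * g⁻¹)
          rw [conj_mul, conj_mul, mem_C.1 hx]
        rcases hg with e | e <;> rw [e] at h1
        · exact h1.eq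
        · exact (Commute.inv_right_iff.1 h1).eq
      exact ⟨key i hiu, key k hku⟩
    obtain ⟨c0, hc0, hc01, hc0u⟩ := exists_comm_of_normalizes hW'p hW'1 huJ.2 huW'
    obtain ⟨m, hm, z, hz, hz1, hzm⟩ := f.exists_component (hW'n.inf hCun)
      ((odd_card_of_isPGroup hp hW'p).of_dvd_nat (Subgroup.card_dvd_of_le inf_le_left))
      (fun e => hc01 (Subgroup.mem_bot.1 (e ▸ (⟨hc0, mem_C.2 hc0u.symm⟩ : c0 ∈ W' ⊓ Subgroup.centralizer ({u} : Set G)))))
    have hzo : Odd (orderOf z) := PEl.odd hp (pEl_of_mem hW'p hz.1)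
    have hma : m ≠ a := by
      rintro rfl
      have e := hz.1.2
      rw [conj_eq_iff.2 hzm.symm] at e
      exact hz1 (eq_one_or_self_mul_self hzo e.symm)
    obtain ⟨R, hR, -, hJR, hmax, -⟩ := f.exists_R h hp hzo hz1 hm hzm
    have hDR : D ≤ R := hmax D ⟨hDp, hDn⟩ fun x hx =>
      Subgroup.mem_centralizer_iff.1 hz.1.1.2 x hx
    have huR : u ∈ R := hmax _ (f.zpowers_IP huJ.2 hiu hku) (fun x hx => by
      obtain ⟨n, rfl⟩ := Subgroup.mem_zpowers_iff.1 hx
      exact ((show Commute u z from (mem_C.1 hz.2).symm).zpow_left n).eq) (Subgroup.mem_zpowers u)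
    obtain ⟨M, hM, hRM⟩ := f.exists_max hR
    have hMP : M = P' := hkey M P' hM hP' (hDR.trans hRM) (hPQD ▸ inf_le_left) u (hRM huR) hu huD
    have hJP : h.Jp p hp (f.lab hm).1 ≤ P' := fun x hx => hMP ▸ hRM (hJR hx)
    rcases f.lab_cases ha hb hab hm with e | e | e
    · exact absurd e hma
    · subst e
      exact absurd (hPQD ▸ (⟨hJP hu'J, hu'⟩ : u' ∈ P' ⊓ Q')) hu'D
    · subst e
      exact Or.inr ⟨fun y hy hy' => hJP ⟨hy, hy'⟩, z, hz.1.1, hz1, hzm⟩
  have hcomm_ab : b * a = a * b := f.lab_comm hb ha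
  have hWodd : ∀ z ∈ W, Odd (orderOf z) := fun z hz => PEl.odd hp (pEl_of_mem hWp hz)
  obtain ⟨hJP, hJQ⟩ : (∀ y, y * (a * b) = a * b * y → PEl p y → y ∈ P) ∧
      ∀ y, y * (a * b) = a * b * y → PEl p y → y ∈ Q := by
    have h1 := hstep P Q a b ha hb hab hP rfl uP huP huPJ huPK huPD uQ huQ huQJ huQD
    have h2 := hstep Q P b a hb ha hab.symm hQ (inf_comm _ _) uQ huQ huQJ huQK huQD uP huP huPJ huPD
    rw [hcomm_ab] at h2
    rcases h1 with h1 | ⟨h1, z, hz, hz1, hzc⟩ <;> rcases h2 with h2 | ⟨h2, z', hz', hz'1, hz'c⟩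
    · exfalso
      obtain ⟨w, hw, hw1⟩ := W.bot_or_exists_ne_one.resolve_left hW1
      exact hw1 (h.odd_one fab.hi fab.hk fab.comm.symm fab.ne.symm (hWodd w hw) (h1 w hw) (h2 w hw))
    · exfalso
      exact hz'1 (h.odd_one (f.lab ha).1 (f.lab hc).1 (f.lab_comm hc ha) hca (hWodd z' hz') (h1 z' hz') hz'c)
    · exfalso
      exact hz1 (h.odd_one (f.lab hb).1 (f.lab hc).1 (f.lab_comm hc hb) hcb (hWodd z hz) (h2 z hz) hzc)
    · exact ⟨h1, h2⟩
  have hcD : ∀ y, y ∈ h.Jp p hp (f.lab hc).1 → y ∈ D := fun y hy => ⟨hJP y hy.1 hy.2, hJQ y hy.1 hy.2⟩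
  -- an element of `N(D)` exchanging the labels of `P` and `Q`
  obtain ⟨g, hgK, hgN, hgne⟩ : ∃ g ∈ K, g ∈ Subgroup.normalizer (f.grp : Set G) ∧
      ∃ l, Lab i k l ∧ g * l * g⁻¹ ≠ l := by
    have hVK : f.grp ≤ K := f.grp_le_normalizer hDn
    have hnontriv : ∀ g : G, g ∈ Subgroup.normalizer (f.grp : Set G) → g ∉ f.grp →
        ∃ l, Lab i k l ∧ g * l * g⁻¹ ≠ l := by
      intro g _ hgV
      by_contra hcon
      push Not at hcon
      exact hgV (f.mem_grp_of_fix h hcon)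
    obtain ⟨S, hS⟩ := (f.grp_isPGroup.of_equiv (Subgroup.subgroupOfEquivOfLe hVK).symm).exists_le_sylow
    by_cases hSV : (S : Subgroup K) = f.grp.subgroupOf K
    · by_contra hcon
      obtain ⟨S', N, hN, hcp⟩ := CfsgLib.Fusion.Abelian.npc_of_normalizer_le_centralizer S (by
        intro x hx
        by_contra hxC
        change x ∈ Subgroup.normalizer ((S : Subgroup K) : Set K) at hx
        change x ∉ Subgroup.centralizer ((S : Subgroup K) : Set K) at hxC
        rw [hSV] at hx hxC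
        refine hcon ⟨x, x.2, mem_normalizer_of_maps fun y hy => ?_, hnontriv x ?_ ?_⟩
        · exact (Subgroup.mem_normalizer_iff.1 hx ⟨y, hVK hy⟩).1 hy
        · exact mem_normalizer_of_maps fun y hy => (Subgroup.mem_normalizer_iff.1 hx ⟨y, hVK hy⟩).1 hy
        · intro hxV
          refine hxC (Subgroup.mem_centralizer_iff.2 fun y hy => Subtype.ext ?_)
          haveI := f.grp_comm
          exact congrArg (fun w : f.grp => (w : G)) (mul_comm' (⟨(y : G), hy⟩ : f.grp) ⟨(x : G), hxV⟩))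
      haveI := hN
      have hNodd : Odd (Nat.card N) := by
        rw [← hcp.index_eq_card, Nat.odd_iff]
        have := S'.not_dvd_index
        omega
      set X := N.map K.subtype with hX
      have hXn : Nrm i k X := by
        constructor
        · rintro _ ⟨x, hx, rfl⟩; exact ⟨_, hN.conj_mem x hx ⟨i, hiK⟩, rfl⟩
        · rintro _ ⟨x, hx, rfl⟩; exact ⟨_, hN.conj_mem x hx ⟨k, hkK⟩, rfl⟩
      have hXodd : Odd (Nat.card X) := by rw [hX, CfsgLib.Coprime.card_map_subtype]; exact hNodd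
      have hoddX : ∀ x ∈ K, Odd (orderOf x) → x ∈ X := by
        intro x hx hxo
        refine ⟨⟨x, hx⟩, (QuotientGroup.eq_one_iff _).1 ?_, rfl⟩
        obtain ⟨e, he⟩ := S'.2.exists_card_eq
        refine two_odd_one (k := e) ?_ ?_
        · rw [← he, ← hcp.symm.index_eq_card, Subgroup.index_eq_card]
          exact pow_card_eq_one'
        · refine (show Odd (orderOf (⟨x, hx⟩ : K)) by rw [← Subgroup.orderOf_coe]; exact hxo).of_dvd_nat ?_
          exact orderOf_map_dvd (QuotientGroup.mk' N) _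
      obtain ⟨R, hR, hRn, -, hPR, hQR, -⟩ := f.join h (P := P ⊓ K) (Q := Q ⊓ K) hXn hXodd
        (hP.pg.to_le inf_le_left) (hP.nrm.inf hKn)
        (fun x hx => hoddX x hx.2 (PEl.odd hp (pEl_of_mem hP.pg hx.1)))
        (hQ.pg.to_le inf_le_left) (hQ.nrm.inf hKn)
        (fun x hx => hoddX x hx.2 (PEl.odd hp (pEl_of_mem hQ.pg hx.1)))
      obtain ⟨M, hM, hRM⟩ := f.exists_max ⟨hR, hRn⟩
      have hDM : D ≤ M := fun x hx => hRM (hPR ⟨hx.1, Subgroup.le_normalizer hx⟩)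
      exact hPQ ((hkey M P hM hP hDM inf_le_left uP (hRM (hPR ⟨huP, huPK⟩)) huP huPD).symm.trans
        (hkey M Q hM hQ hDM inf_le_right uQ (hRM (hQR ⟨huQ, huQK⟩)) huQ huQD))
    · obtain ⟨x, hxS, hxV, hxN, -⟩ := exists_normalizing_sq S.2 (lt_of_le_of_ne hS (Ne.symm hSV))
      have hxN' : (x : G) ∈ Subgroup.normalizer (f.grp : Set G) := mem_normalizer_of_maps fun y hy =>
        (Subgroup.mem_normalizer_iff.1 hxN ⟨y, hVK hy⟩).1 hy
      exact ⟨x, x.2, hxN', hnontriv x hxN' hxV⟩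
  have hgJ : ∀ l m (hl : Lab i k l) (hm : Lab i k m), g * l * g⁻¹ = m → ∀ u,
      u ∈ h.Jp p hp (f.lab hl).1 → g * u * g⁻¹ ∈ h.Jp p hp (f.lab hm).1 := by
    intro l m hl hm e u hu
    refine ⟨?_, hu.2.conj g⟩
    rw [← e, conj_mul, conj_mul, hu.1]
  have hgD : ∀ u, u ∉ D → g * u * g⁻¹ ∉ D := fun u hu hc =>
    hu ((Subgroup.mem_normalizer_iff.1 hgK u).2 hc)
  have htorab : ∀ l (hl : Lab i k l), ∀ u, u ∈ h.Jp p hp (f.lab hl).1 → u ∉ D →
      g * l * g⁻¹ = a ∨ g * l * g⁻¹ = b := by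
    intro l hl u hu huD
    rcases f.lab_cases ha hb hab (f.norm_lab hgN hl) with e | e | e
    · exact Or.inl e
    · exact Or.inr e
    · exact absurd (hcD _ (hgJ l _ hl hc e u hu)) (hgD u huD)
  have hga := htorab a ha uP huPJ huPD
  have hgb := htorab b hb uQ huQJ huQD
  have hgab : g * a * g⁻¹ = b ∧ g * b * g⁻¹ = a := by
    rcases hga with e | e <;> rcases hgb with e' | e'
    · exact absurd (mul_left_cancel (mul_right_cancel (e.trans e'.symm))) hab
    · exfalso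
      obtain ⟨l, hl, hne⟩ := hgne
      rcases f.lab_cases ha hb hab hl with rfl | rfl | rfl
      · exact hne e
      · exact hne e'
      · exact hne (by rw [← conj_mul, e, e'])
    · exact ⟨e, e'⟩
    · exact absurd (mul_left_cancel (mul_right_cancel (e.trans e'.symm))) hab
  obtain ⟨hgab, hgba⟩ := hgab
  have hgc : g * (a * b) * g⁻¹ = a * b := by rw [← conj_mul, hgab, hgba, hcomm_ab]
  have hgD' : ∀ x ∈ D, g⁻¹ * x * g ∈ D := fun x hx => by
    have := (Subgroup.mem_normalizer_iff.1 (inv_mem hgK) x).1 hx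
    rwa [inv_inv] at this
  have hgP : P.map (MulAut.conj g).toMonoidHom = Q :=
    huniq b hb _ Q (f.map_Mx hgN hP) hQ (fun x hx => mem_map_conj.2 (hgD' x hx).1) inf_le_right
      (g * uP * g⁻¹) ⟨uP, huP, rfl⟩ (hgJ a b ha hb hgab uP huPJ)
      (mul_mem (mul_mem hgK huPK) (inv_mem hgK)) (hgD uP huPD) uQ huQ huQJ huQK huQD
  obtain ⟨m, hm, z, hzP, hz1, hzm, hzc⟩ := f.center_component h hp hP.toIP fun e => hD1 (by
    rw [hDdef, e, bot_inf_eq])
  obtain ⟨hmJ, hminv⟩ := f.max_central h hp hP hzP hz1 hm hzm hzc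
  rcases f.lab_cases ha hb hab hm with e | e | e
  · subst e
    obtain ⟨w, hwN, hwac⟩ := f.transitive h ha hc
    set P' := P.map (MulAut.conj w).toMonoidHom with hP'
    have hP'm : Mx p i k P' := f.map_Mx hwN hP
    have hzc' : ∀ x ∈ P', x * (w * z * w⁻¹) = w * z * w⁻¹ * x := by
      rintro _ ⟨x, hx, rfl⟩
      show w * x * w⁻¹ * (w * z * w⁻¹) = w * z * w⁻¹ * (w * x * w⁻¹)
      rw [conj_mul, conj_mul, hzc x hx]
    obtain ⟨hcJ', hinv'⟩ := f.max_central h hp hP'm (z := w * z * w⁻¹) ⟨z, hzP, rfl⟩ (conj_ne_one hz1) hc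
      (by rw [← hwac, conj_mul, conj_mul, hzm]) hzc'
    have hgP' := hinv' g hgN hgc
    have hall : ∀ l, Lab i k l → ∀ x, x * l = l * x → PEl p x → x ∈ P' := by
      -- the image of `a * b` under `w`
      have hd : w * (m * b) * w⁻¹ = m ∨ w * (m * b) * w⁻¹ = b := by
        rcases f.lab_cases ha hb hab (f.norm_lab hwN hc) with e | e | e
        · exact Or.inl e
        · exact Or.inr e
        · exact absurd (mul_left_cancel (mul_right_cancel (e.trans hwac.symm))) hca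
      have hdP : ∀ x, x * (w * (m * b) * w⁻¹) = w * (m * b) * w⁻¹ * x → PEl p x → x ∈ P' := by
        intro x hx hx'
        refine mem_map_conj.2 (hJP _ ?_ (by simpa using hx'.conj w⁻¹))
        calc w⁻¹ * x * w * (m * b) = w⁻¹ * (x * (w * (m * b) * w⁻¹)) * w := by group
          _ = w⁻¹ * (w * (m * b) * w⁻¹ * x) * w := by rw [hx]
          _ = _ := by group
      have hswap : ∀ d, (∀ x, x * d = d * x → PEl p x → x ∈ P') →
          ∀ x, x * (g * d * g⁻¹) = g * d * g⁻¹ * x → PEl p x → x ∈ P' := by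
        intro d hd x hx hx'
        rw [← hgP']
        refine mem_map_conj.2 (hd _ ?_ (by simpa using hx'.conj g⁻¹))
        calc g⁻¹ * x * g * d = g⁻¹ * (x * (g * d * g⁻¹)) * g := by group
          _ = g⁻¹ * (g * d * g⁻¹ * x) * g := by rw [hx]
          _ = _ := by group
      intro l hl x hx hx'
      rcases hd with e | e <;> rw [e] at hdP <;>
        rcases f.lab_cases ha hb hab hl with rfl | rfl | rfl
      · exact hdP x hx hx'
      · exact hswap _ hdP x (by rw [hgab]; exact hx) hx'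
      · exact hcJ' ⟨hx, hx'⟩
      · exact hswap _ hdP x (by rw [hgba]; exact hx) hx'
      · exact hdP x hx hx'
      · exact hcJ' ⟨hx, hx'⟩
    have hle : ∀ P₀, IP p i k P₀ → P₀ ≤ P' := fun P₀ hP₀ => f.nrm_le hP₀.nrm (IP.odd hp hP₀)
      fun l hl x hx hxl => hall l hl x hxl (pEl_of_mem hP₀.pg hx)
    exact hPQ ((hP.max P' hP'm.toIP (hle P hP.toIP)).symm.trans (hQ.max P' hP'm.toIP (hle Q hQ.toIP)))
  · subst e
    exact huQD ⟨hmJ huQJ, huQ⟩
  · subst e
    exact hPQ ((hminv g hgN hgc).symm.trans hgP)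

/-- Distinct maximal invariant `p`-subgroups meet trivially. -/
theorem disjoint (h : Hyp G) (hp : Odd p) {P Q : Subgroup G} (hP : Mx p i k P) (hQ : Mx p i k Q)
    (hne : P ⊓ Q ≠ ⊥) : P = Q :=
  f.disjoint_aux h hp _ P Q rfl hP hQ hne

end Fr

/-- An invariant `p`-subgroup containing the `p`-parts of all three centralizers. -/
structure Full (p : ℕ) (i k : G) (R : Subgroup G) : Prop extends IP p i k R where
  all : ∀ l, Lab i k l → ∀ x, x * l = l * x → PEl p x → x ∈ R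

theorem Full.le (f : Fr i k) {p : ℕ} [Fact p.Prime] (hp : Odd p) {R P : Subgroup G} (hR : Full p i k R)
    (hP : IP p i k P) : P ≤ R :=
  f.nrm_le hP.nrm (Fr.IP.odd hp hP) fun l hl x hx hxl => hR.all l hl x hxl (pEl_of_mem hP.pg hx)

/-- An invariant `p`-subgroup with components for two involutions yields a full one. -/
theorem Fr.dichotomy (f : Fr i k) {p : ℕ} [Fact p.Prime] (h : Hyp G) (hp : Odd p) {P : Subgroup G}
    (hP : IP p i k P) {a b x y : G} (ha : Lab i k a) (hb : Lab i k b) (hab : a ≠ b) (hx : x ∈ P)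
    (hx1 : x ≠ 1) (hxa : x * a = a * x) (hy : y ∈ P) (hy1 : y ≠ 1) (hyb : y * b = b * y) :
    ∃ R, Full p i k R := by
  obtain ⟨M, hM, hPM⟩ := f.exists_max hP
  have hJ : ∀ l (hl : Lab i k l) (v : G), v ∈ M → v ≠ 1 → v * l = l * v → h.Jp p hp (f.lab hl).1 ≤ M := by
    intro l hl v hv hv1 hvl
    obtain ⟨M', hM', hle⟩ := f.exists_max (f.Jp_IP h hp hl)
    have e := f.disjoint h hp hM' hM (fun e => hv1 (Subgroup.mem_bot.1 (e ▸
      (⟨hle ⟨hvl, pEl_of_mem hM.pg hv⟩, hv⟩ : v ∈ M' ⊓ M))))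
    exact e ▸ hle
  have hJa := hJ a ha x (hPM hx) hx1 hxa
  have hJb := hJ b hb y (hPM hy) hy1 hyb
  obtain ⟨-, hc, hca, hcb⟩ := f.lab_frame ha hb hab
  obtain ⟨g, hgN, hgac⟩ := f.transitive h ha hc
  refine ⟨M, hM.toIP, fun l hl v hvl hv => ?_⟩
  rcases f.lab_cases ha hb hab hl with rfl | rfl | rfl
  · exact hJa ⟨hvl, hv⟩
  · exact hJb ⟨hvl, hv⟩
  have hgy : g * y * g⁻¹ ∈ M := by
    have h1 : g * y * g⁻¹ * (g * b * g⁻¹) = g * b * g⁻¹ * (g * y * g⁻¹) := by rw [conj_mul, conj_mul, hyb]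
    have hv' : PEl p (g * y * g⁻¹) := (pEl_of_mem hP.pg hy).conj g
    rcases f.lab_cases ha hb hab (f.norm_lab hgN hb) with e | e | e <;> rw [e] at h1
    · exact hJa ⟨h1, hv'⟩
    · exact hJb ⟨h1, hv'⟩
    · exact absurd (mul_left_cancel (mul_right_cancel (e.trans hgac.symm))) hab.symm
  have e := f.disjoint h hp (f.map_Mx hgN hM) hM (fun e => by
    have hm : g * y * g⁻¹ ∈ M.map (MulAut.conj g).toMonoidHom ⊓ M := ⟨⟨y, hPM hy, rfl⟩, hgy⟩
    rw [e, Subgroup.mem_bot] at hm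
    exact conj_ne_one hy1 hm)
  rw [← e]
  refine mem_map_conj.2 (hJa ⟨?_, by simpa using hv.conj g⁻¹⟩)
  calc g⁻¹ * v * g * a = g⁻¹ * (v * (g * a * g⁻¹)) * g := by group
    _ = g⁻¹ * (g * a * g⁻¹ * v) * g := by rw [hgac, hvl]
    _ = _ := by group

end CfsgLib.Characterizations.DGroup
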