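import Cfsg.Agent.Lib.Characterizations.DGroup.Basic
import Cfsg.Agent.Lib.Characterizations.IIGroup.Extension
import Cfsg.Agent.Lib.NumberTheory.SwapClosure
import Cfsg.Agent.Lib.Involution.ZStar.Basic

/-!
# Recognition of `PSL(2, q)` and `PGL(2, q)` from the centralizers of involutions
-/

set_option autoImplicit false

namespace CfsgLib.Characterizations.DGroup

open CfsgLib.Involution.Dihedral

universe u

variable {G : Type u} [Group G] [Finite G]

omit [Finite G] in
theorem conj_mem_of_cyclic {x g y : G} {Y : Subgroup G} (hY : Y ≤ Subgroup.zpowers x)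
    (hg : g * x * g⁻¹ ∈ Subgroup.zpowers x) (hy : y ∈ Y) : g * y * g⁻¹ ∈ Y := by
  obtain ⟨i, rfl⟩ := Subgroup.mem_zpowers_iff.1 (hY hy)
  obtain ⟨k, hk⟩ := Subgroup.mem_zpowers_iff.1 hg
  rw [← _root_.conj_zpow, ← hk, ← zpow_mul, mul_comm, zpow_mul]
  exact zpow_mem hy k

omit [Finite G] in
theorem normalizer_le_of_cyclic {X Y : Subgroup G} (hX : IsCyclic X) (hY : Y ≤ X) :
    Subgroup.normalizer (X : Set G) ≤ Subgroup.normalizer (Y : Set G) := by
  obtain ⟨x, hx⟩ := hX.exists_generator
  have hXx : X = Subgroup.zpowers (x : G) := by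
    refine le_antisymm (fun z hz => ?_) (Subgroup.zpowers_le.2 x.2)
    obtain ⟨k, hk⟩ := Subgroup.mem_zpowers_iff.1 (hx ⟨z, hz⟩)
    exact Subgroup.mem_zpowers_iff.2 ⟨k, by simpa using congrArg Subtype.val hk⟩
  obtain ⟨x, hxX⟩ := x
  simp only at hXx
  subst hXx
  intro g hg
  have key : ∀ c ∈ Subgroup.normalizer (Subgroup.zpowers x : Set G), ∀ y ∈ Y, c * y * c⁻¹ ∈ Y :=
    fun c hc y hy => conj_mem_of_cyclic hY
      ((Subgroup.mem_normalizer_iff.1 hc _).1 (Subgroup.mem_zpowers _)) hy
  rw [Subgroup.mem_normalizer_iff]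
  refine fun y => ⟨key g hg y, fun hy => ?_⟩
  simpa [mul_assoc] using key g⁻¹ (inv_mem hg) _ hy

omit [Finite G] in
theorem Cfg.le_normalizer {j s : G} {B : Subgroup G} (h : Cfg j B s) {Y : Subgroup G} (hY : Y ≤ B)
    {g : G} (hg : g * j = j * g) : g ∈ Subgroup.normalizer (Y : Set G) := by
  have key : ∀ g : G, g * j = j * g → ∀ y ∈ Y, g * y * g⁻¹ ∈ Y := by
    intro g hg y hy
    by_cases hgB : g ∈ B
    · rwa [h.comm g hgB y (hY hy), mul_inv_cancel_right]
    · rw [h.out_inv hg hgB (hY hy)]; exact inv_mem hy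
  rw [Subgroup.mem_normalizer_iff]
  refine fun y => ⟨key g hg y, fun hy => ?_⟩
  have h' : g⁻¹ * j = j * g⁻¹ := (show Commute g j from hg).inv_left.eq
  simpa [mul_assoc] using key g⁻¹ h' _ hy

theorem ii_of_good (hG : Good G) : IIGroup.Ii G := by
  intro X hX heven Y hYX hY
  obtain ⟨x, hx⟩ := hX.exists_generator
  have hXx : X = Subgroup.zpowers (x : G) := by
    refine le_antisymm (fun z hz => ?_) (Subgroup.zpowers_le.2 x.2)
    obtain ⟨k, hk⟩ := Subgroup.mem_zpowers_iff.1 (hx ⟨z, hz⟩)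
    exact Subgroup.mem_zpowers_iff.2 ⟨k, by simpa using congrArg Subtype.val hk⟩
  refine le_antisymm (normalizer_le_of_cyclic hX hYX) ?_
  obtain ⟨x, hxX⟩ := x
  simp only at hXx
  clear hx hxX
  subst hXx
  have hev : ¬ Odd (orderOf x) := by
    rw [← Nat.card_zpowers]; exact Nat.not_odd_iff_even.2 heven
  obtain ⟨n, hn⟩ := exists_invol_pow hev
  set i := x ^ n with hi
  obtain ⟨B, s, h, h1, hTI⟩ := hG i hn
  have hxi : x * i = i * x := (Commute.self_pow x n).eq
  by_cases hxB : x ∈ B
  · have hXB : Subgroup.zpowers x ≤ B := Subgroup.zpowers_le.2 hxB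
    intro g hg
    refine h.le_normalizer hXB ?_
    obtain ⟨⟨y, hy⟩, hy1⟩ := (Subgroup.ne_bot_iff_exists_ne_one).1 hY
    have hy1' : y ≠ 1 := fun e => hy1 (Subtype.ext e)
    have hgy : g * y * g⁻¹ ∈ Y := (Subgroup.mem_normalizer_iff.1 hg y).1 hy
    by_cases hyo : Odd (orderOf y)
    · have hyo' : Odd (orderOf (g * y * g⁻¹)) := by rwa [CfsgLib.Involution.Dihedral.orderOf_conj]
      set i' := g * i * g⁻¹ with hi'
      have hgyB := hXB (hYX hgy)
      have hcy : i' * (g * y * g⁻¹) = g * y * g⁻¹ * i' := by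
        simp only [hi']
        rw [show g * i * g⁻¹ * (g * y * g⁻¹) = g * (i * y) * g⁻¹ by group, ← h.mem_comm (hXB (hYX hy))]
        group
      have hi'i : i' * i = i * i' :=
        hTI _ hyo' (conj_ne_one hy1') (h.mem_comm hgyB) i' hcy
      have hi'2 : orderOf i' = 2 := by rw [hi', CfsgLib.Involution.Dihedral.orderOf_conj, hn]
      have hi'B : i' ∈ B := by
        by_contra hnB
        have e := h.out_inv hi'i hnB hgyB
        rw [conj_eq_iff.2 hcy] at e
        exact conj_ne_one hy1' (odd_one_of_sq hyo' (mul_eq_one_iff_eq_inv.2 e))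
      exact conj_eq_iff.1 (h1 i' hi'B hi'2)
    · obtain ⟨m, hm⟩ := exists_invol_pow hyo
      have e1 : y ^ m = i := h1 _ (pow_mem (hXB (hYX hy)) m) hm
      have e2 : (g * y * g⁻¹) ^ m = g * i * g⁻¹ := by rw [_root_.conj_pow, e1]
      refine conj_eq_iff.1 (h1 _ ?_ (by rw [CfsgLib.Involution.Dihedral.orderOf_conj, hn]))
      rw [← e2]
      exact pow_mem (hXB (hYX hgy)) m
  · have hx2 := h.out_order hxi hxB
    have hYe : Y = Subgroup.zpowers x := by
      refine le_antisymm hYX (Subgroup.zpowers_le.2 ?_)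
      obtain ⟨⟨y, hy⟩, hy1⟩ := (Subgroup.ne_bot_iff_exists_ne_one).1 hY
      obtain ⟨k, hk⟩ := Subgroup.mem_zpowers_iff.1 (hYX hy)
      rcases Int.even_or_odd k with ⟨l, rfl⟩ | ⟨l, rfl⟩
      · exact absurd (Subtype.ext (show y = 1 by
          rw [← hk, zpow_add, ← (Commute.refl x).mul_zpow, mul_self hx2, one_zpow])) hy1
      · rw [zpow_add_one, zpow_mul, zpow_two, mul_self hx2, one_zpow, one_mul] at hk
        exact hk ▸ hy
    rw [hYe]

theorem isSolvable_perm_of_card_le_four {α : Type*} [Finite α] (h : Nat.card α ≤ 4) :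
    Group.IsSolvable (Equiv.Perm α) := by
  classical
  haveI := Fintype.ofFinite α
  let f : α ↪ Fin 4 := (Fintype.equivFin α).toEmbedding.trans
    (Fin.castLEEmb (by rwa [← Nat.card_eq_fintype_card]))
  haveI := CfsgLib.NumberTheory.SwapClosure.isSolvable_perm_fin_four
  exact Group.isSolvable_of_isSolvable_injective
    (f := Equiv.Perm.viaEmbeddingHom f) (Equiv.Perm.viaEmbeddingHom_injective f)

/-- A small normal subgroup containing an involution with solvable centralizer forces solvability. -/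
theorem solvable_of_small_normal {E : Subgroup G} (hE : E.Normal) {i : G} (hiE : i ∈ E)
    (hC : Group.IsSolvable (Subgroup.centralizer ({i} : Set G))) (hcard : Nat.card E ≤ 4) :
    Group.IsSolvable G := by
  haveI := hE
  haveI := isSolvable_perm_of_card_le_four (α := E) hcard
  let f : G →* Equiv.Perm E := (MulAut.toPerm (M := E)).comp (MulAut.conjNormal (H := E))
  haveI : Group.IsSolvable f.ker := by
    have hle : f.ker ≤ Subgroup.centralizer ({i} : Set G) := by
      intro g hg
      have := congrArg Subtype.val (Equiv.congr_fun hg ⟨i, hiE⟩)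
      exact mem_C.2 (conj_eq_iff.1 this)
    exact Group.isSolvable_of_isSolvable_injective (Subgroup.inclusion_injective hle)
  exact Group.isSolvable_of_ker_le_range f.ker.subtype f (by rw [Subgroup.range_subtype])

theorem exists_elementary_normal (hO : Cfsg.oddCore G = ⊥) {N : Subgroup G} (hN : N.Normal)
    (hs : Group.IsSolvable N) (hN1 : N ≠ ⊥) :
    ∃ E : Subgroup G, E.Normal ∧ (∀ x ∈ E, x * x = 1) ∧ ∃ i ∈ E, orderOf i = 2 := by
  classical
  obtain ⟨A, ⟨hAn, hA1, hAN⟩, hmin⟩ : ∃ A, Minimal (fun A : Subgroup G => A.Normal ∧ A ≠ ⊥ ∧ A ≤ N) A :=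
    (Set.toFinite {A : Subgroup G | A.Normal ∧ A ≠ ⊥ ∧ A ≤ N}).exists_minimal ⟨N, hN, hN1, le_rfl⟩
  haveI := hAn
  have hcomm : ∀ a ∈ A, ∀ b ∈ A, a * b = b * a := by
    have hlt : ⁅A, A⁆ < A := by
      haveI := hs
      haveI : Group.IsSolvable A :=
        Group.isSolvable_of_isSolvable_injective (Subgroup.inclusion_injective hAN)
      haveI : Nontrivial A := (Subgroup.nontrivial_iff_ne_bot A).2 hA1
      have h1 := Group.IsSolvable.commutator_lt_top_of_nontrivial A
      rw [← Subgroup.map_subtype_commutator A]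
      conv_rhs => rw [← Subgroup.range_subtype A, MonoidHom.range_eq_map]
      exact (Subgroup.map_lt_map_iff_of_injective A.subtype_injective).mpr h1
    have hbot : ⁅A, A⁆ = ⊥ := by
      by_contra hne
      exact absurd (hmin ⟨inferInstance, hne, hlt.le.trans hAN⟩ hlt.le) hlt.not_ge
    intro a ha b hb
    exact commutatorElement_eq_one_iff_mul_comm.1 (Subgroup.mem_bot.1
      (hbot ▸ Subgroup.commutator_mem_commutator ha hb))
  obtain ⟨y, hy, hyo⟩ : ∃ y ∈ A, ¬ Odd (orderOf y) := by
    by_contra hcon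
    push Not at hcon
    refine hA1 (le_bot_iff.1 (hO ▸ CfsgLib.Involution.ZStar.le_oddCore hAn ?_))
    by_contra hev
    obtain ⟨z, hz⟩ := exists_prime_orderOf_dvd_card' (G := A) 2
      (even_iff_two_dvd.1 (Nat.not_odd_iff_even.1 hev))
    have := hcon z z.2
    rw [Subgroup.orderOf_coe, hz] at this
    exact absurd this (by decide)
  obtain ⟨n, hn⟩ := exists_invol_pow hyo
  refine ⟨{ carrier := {x | x ∈ A ∧ x * x = 1}
            one_mem' := ⟨A.one_mem, one_mul 1⟩
            mul_mem' := fun {a b} ha hb => ⟨mul_mem ha.1 hb.1, by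
              rw [mul_assoc, ← mul_assoc b, hcomm b hb.1 a ha.1, mul_assoc a b b, hb.2, mul_one, ha.2]⟩
            inv_mem' := fun {a} ha => ⟨inv_mem ha.1, by rw [← mul_inv_rev, ha.2, inv_one]⟩ },
    ⟨fun x hx g => ⟨hAn.conj_mem x hx.1 g, ?_⟩⟩, fun x hx => hx.2, y ^ n, ⟨pow_mem hy n, mul_self hn⟩, hn⟩
  rw [show g * x * g⁻¹ * (g * x * g⁻¹) = g * (x * x) * g⁻¹ by group, hx.2, mul_one, mul_inv_cancel]

theorem Cfg.card_elementary_le {j s : G} {B : Subgroup G} (h : Cfg j B s) (h1 : One j B) {E : Subgroup G}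
    (hE : ∀ x ∈ E, x * x = 1) (hjE : j ∈ E) : Nat.card E ≤ 4 := by
  classical
  have hEc : ∀ x ∈ E, ∀ y ∈ E, x * y = y * x := by
    intro x hx y hy
    have e : ∀ z ∈ E, z⁻¹ = z := fun z hz => inv_eq_of_mul_eq_one_left (hE z hz)
    rw [← e (x * y) (mul_mem hx hy), mul_inv_rev, e x hx, e y hy]
  have hB : ∀ x ∈ E, x ∈ B → x = 1 ∨ x = j := by
    intro x hx hxB
    by_cases hx1 : x = 1
    · exact Or.inl hx1
    · exact Or.inr (h1 x hxB (orderOf_eq_two (hE x hx) hx1))
  by_cases hall : ∀ x ∈ E, x ∈ B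
  · have : (E : Set G) ⊆ {1, j} := fun x hx => by
      rcases hB x hx (hall x hx) with e | e <;> simp [e]
    calc Nat.card E = (E : Set G).ncard := (Nat.card_coe_set_eq _)
      _ ≤ ({1, j} : Set G).ncard := Set.ncard_le_ncard this (Set.toFinite _)
      _ ≤ 4 := le_trans (Set.ncard_insert_le _ _) (by simp)
  · push Not at hall
    obtain ⟨u, hu, huB⟩ := hall
    have : (E : Set G) ⊆ {1, j, u, u * j} := fun x hx => by
      by_cases hxB : x ∈ B
      · rcases hB x hx hxB with e | e <;> simp [e]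
      · have hmem : u * x ∈ B := by
          by_contra hn
          obtain ⟨b, hb, e⟩ := h.out_eq (hEc u hu j hjE) huB
          obtain ⟨c, hc, e'⟩ := h.out_eq (hEc x hx j hjE) hxB
          refine hn ?_
          rw [e, e', show b * s * (c * s) = b * (s * c * s⁻¹) * (s * s) by group, mul_self h.hs, mul_one]
          exact mul_mem hb (h.inv_mem_conj hc)
        have hx' : x = u * (u * x) := by rw [← mul_assoc, hE u hu, one_mul]
        rcases hB _ (mul_mem hu hx) hmem with e | e <;> rw [e] at hx' <;> simp [hx']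
    calc Nat.card E = (E : Set G).ncard := (Nat.card_coe_set_eq _)
      _ ≤ ({1, j, u, u * j} : Set G).ncard := Set.ncard_le_ncard this (Set.toFinite _)
      _ ≤ 4 := by
        refine le_trans (Set.ncard_insert_le _ _) ?_
        refine le_trans (Nat.add_le_add_right (Set.ncard_insert_le _ _) _) ?_
        refine le_trans (Nat.add_le_add_right (Nat.add_le_add_right (Set.ncard_insert_le _ _) _) _) ?_
        simp

theorem no_solvable_normal (hO : Cfsg.oddCore G = ⊥) (hns : ¬ Group.IsSolvable G) (hG : Good G)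
    (N : Subgroup G) (hN : N.Normal) (hs : Group.IsSolvable N) : N = ⊥ := by
  by_contra hN1
  obtain ⟨E, hEn, hE2, i, hiE, hi⟩ := exists_elementary_normal hO hN hs hN1
  obtain ⟨B, s, h, h1, -⟩ := hG i hi
  exact hns (solvable_of_small_normal hEn hiE h.solvable_C (h.card_elementary_le h1 hE2 hiE))

theorem final_of_good (hO : Cfsg.oddCore G = ⊥) (hns : ¬ Group.IsSolvable G) (hG : Good G) :
    ∃ (F : Type) (_ : Field F) (_ : Fintype F), 3 < Fintype.card F ∧
      (Nonempty (G ≃* Matrix.ProjectiveSpecialLinearGroup (Fin 2) F) ∨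
        Nonempty (G ≃* Matrix.ProjGenLinGroup (Fin 2) F)) := by
  haveI : Nontrivial G := by
    by_contra hn
    haveI := not_nontrivial_iff_subsingleton.1 hn
    exact hns inferInstance
  exact IIGroup.main (ii_of_good hG) (no_solvable_normal hO hns hG)

/-- The same when the centralizers of involutions are elementary abelian. -/
theorem final_of_elementary (hns : ¬ Group.IsSolvable G)
    (hC : ∀ i : G, orderOf i = 2 → ∀ c : G, c * i = i * c → c * c = 1)
    (hss : ∀ N : Subgroup G, N.Normal → Group.IsSolvable ↥N → N = ⊥) :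
    ∃ (F : Type) (_ : Field F) (_ : Fintype F), 3 < Fintype.card F ∧
      (Nonempty (G ≃* Matrix.ProjectiveSpecialLinearGroup (Fin 2) F) ∨
        Nonempty (G ≃* Matrix.ProjGenLinGroup (Fin 2) F)) := by
  haveI : Nontrivial G := by
    by_contra hn
    haveI := not_nontrivial_iff_subsingleton.1 hn
    exact hns inferInstance
  refine IIGroup.main ?_ hss
  intro X hX heven Y hYX hY
  obtain ⟨x, hx⟩ := hX.exists_generator
  have hev : ¬ Odd (orderOf (x : G)) := by
    rw [Subgroup.orderOf_coe, orderOf_eq_card_of_forall_mem_zpowers hx]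
    exact Nat.not_odd_iff_even.2 heven
  obtain ⟨n, hn⟩ := exists_invol_pow hev
  have hxx : orderOf (x : G) ∣ 2 := orderOf_dvd_of_pow_eq_one (by
    rw [pow_two]; exact hC _ hn _ (Commute.self_pow (x : G) n).eq)
  have hXc : Nat.card X = 2 := by
    rw [Subgroup.orderOf_coe, orderOf_eq_card_of_forall_mem_zpowers hx] at hxx
    rcases (Nat.dvd_prime Nat.prime_two).1 hxx with e | e
    · rw [e] at heven; exact absurd heven (by decide)
    · exact e
  rw [Subgroup.eq_of_le_of_card_ge hYX]
  rw [hXc]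
  exact (Subgroup.one_lt_card_iff_ne_bot (H := Y)).2 hY

end CfsgLib.Characterizations.DGroup
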