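import Cfsg.Agent.Lib.Characterizations.DGroup.TwoPart
import Cfsg.Agent.Lib.Characterizations.DGroup.Final
import Cfsg.Agent.Lib.Involution.ZStar.Main
import Cfsg.Agent.Lib.OddOrder.Final.Main

/-!
# The case of an elementary abelian Sylow 2-subgroup of order at least eight
-/

set_option autoImplicit false

namespace CfsgLib.Characterizations.DGroup

open CfsgLib.Involution.Dihedral

universe u

variable {G : Type u} [Group G] [Finite G]

theorem no_solvable_normal_elementary (hO : Cfsg.oddCore G = ⊥) (hns : ¬ Group.IsSolvable G)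
    (S : Sylow 2 G) (hS : ∀ a ∈ (S : Subgroup G), ∀ b ∈ (S : Subgroup G), a * b = b * a)
    (hC : ∀ i : G, orderOf i = 2 → ∀ c : G, c * i = i * c → c * c = 1)
    (N : Subgroup G) (hN : N.Normal) (hs : Group.IsSolvable N) : N = ⊥ := by
  haveI : Fact (Nat.Prime 2) := ⟨Nat.prime_two⟩
  by_contra hN1
  obtain ⟨E, hEn, hE2, i, hiE, hi⟩ := exists_elementary_normal hO hN hs hN1
  set C := Subgroup.centralizer ({i} : Set G) with hCdef
  have hCcomm : ∀ a ∈ C, ∀ b ∈ C, a * b = b * a := by
    intro a ha b hb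
    have e : ∀ z ∈ C, z⁻¹ = z := fun z hz => inv_eq_of_mul_eq_one_left (hC i hi z (mem_C.1 hz))
    rw [← e (a * b) (mul_mem ha hb), mul_inv_rev, e a ha, e b hb]
  have hEC : ∀ e ∈ E, e ∈ C := fun e he => mem_C.2 (by
    have h1 : ∀ z ∈ E, z⁻¹ = z := fun z hz => inv_eq_of_mul_eq_one_left (hE2 z hz)
    rw [← h1 (e * i) (mul_mem he hiE), mul_inv_rev, h1 i hiE, h1 e he])
  have hCeq : C = Subgroup.centralizer (E : Set G) := by
    refine le_antisymm (fun c hc => Subgroup.mem_centralizer_iff.2 fun e he => hCcomm e (hEC e he) c hc)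
      fun c hc => mem_C.2 (Subgroup.mem_centralizer_iff.1 hc i hiE).symm
  haveI := hEn
  haveI hCn : C.Normal := by rw [hCeq]; infer_instance
  have hCp : IsPGroup 2 C := fun c => ⟨1, Subtype.ext (by
    show (c : G) ^ 2 ^ 1 = 1
    rw [pow_one, pow_two]; exact hC i hi c (mem_C.1 c.2))⟩
  have hle : (S : Subgroup G) ≤ C := fun x hx =>
    mem_C.2 (hS x hx i (hCp.le_sylow_of_normal S (mem_C.2 rfl)))
  have hodd : Odd (Nat.card (G ⧸ C)) := by
    rw [← Subgroup.index_eq_card, Nat.odd_iff, ← Nat.two_dvd_ne_zero]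
    exact fun h => S.not_dvd_index (h.trans (Subgroup.index_dvd_of_le hle))
  refine hns ((Group.isSolvable_iff_subgroup_quotient C).2 ⟨?_, CfsgLib.OddOrder.Final.oddSolvable _ hodd⟩)
  exact Group.isSolvable_of_comm fun a b => Subtype.ext (hCcomm a a.2 b b.2)

theorem prod_mem_iff_even {B : Subgroup G} {T : Subgroup G} [IsMulCommutative T] {ι : Type*}
    (hout : ∀ a ∈ T, ∀ b ∈ T, a ∉ B → b ∉ B → a * b ∈ B) (f : ι → T) (S : Finset ι)
    (hf : ∀ i ∈ S, (f i : G) ∉ B) :
    letI : CommGroup T := { (inferInstance : Group T) with mul_comm := mul_comm' }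
    (((∏ i ∈ S, f i : T) : G) ∈ B ↔ Even S.card) := by
  classical
  letI : CommGroup T := { (inferInstance : Group T) with mul_comm := mul_comm' }
  induction S using Finset.induction_on with
  | empty => simp
  | insert a S ha ih =>
    have h0 : (((∏ i ∈ S, f i : T) : G) ∈ B ↔ Even S.card) :=
      ih fun i hi => hf i (Finset.mem_insert_of_mem hi)
    rw [Finset.prod_insert ha, Finset.card_insert_of_notMem ha, Nat.even_add_one, ← h0, Subgroup.coe_mul]
    have h1 := hf a (Finset.mem_insert_self a S)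
    constructor
    · intro h2 h3
      exact h1 ((Subgroup.mul_mem_cancel_right B h3).1 h2)
    · intro h3
      exact hout _ (f a).2 _ (∏ i ∈ S, f i).2 h1 h3

theorem elementary_case (hO : Cfsg.oddCore G = ⊥) (hns : ¬ Group.IsSolvable G) {j s : G} {B : Subgroup G}
    (h : Cfg j B s) (hbig : ∃ x ∈ h.Bt, x ≠ 1 ∧ x ≠ j) (hel : ∀ y ∈ h.Bt, y * y = 1) :
    ∃ (N : Subgroup G) (_ : N.Normal), (Nat.card N = 1 ∨ Nat.card N = 2) ∧
      ∃ (F : Type) (_ : Field F) (_ : Fintype F), 3 < Fintype.card F ∧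
        (Nonempty (G ⧸ N ≃* Matrix.ProjectiveSpecialLinearGroup (Fin 2) F) ∨
          Nonempty (G ⧸ N ≃* Matrix.ProjGenLinGroup (Fin 2) F)) := by
  classical
  haveI : Fact (Nat.Prime 2) := ⟨Nat.prime_two⟩
  obtain ⟨P, hP⟩ := h.T2_sylow hbig
  have hTsq : ∀ x ∈ h.T2, x * x = 1 := by
    intro x hx
    by_cases hxB : x ∈ B
    · exact hel x (h.Bt_of_mem_T2 hx hxB)
    · exact h.out_sq (h.T2_comm_j hx) hxB
  have hTc : ∀ x ∈ h.T2, ∀ y ∈ h.T2, x * y = y * x := by
    intro x hx y hy
    have e : ∀ z ∈ h.T2, z⁻¹ = z := fun z hz => inv_eq_of_mul_eq_one_left (hTsq z hz)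
    rw [← e (x * y) (mul_mem hx hy), mul_inv_rev, e x hx, e y hy]
  have hPc : ∀ x ∈ (P : Subgroup G), ∀ y ∈ (P : Subgroup G), x * y = y * x := by rw [hP]; exact hTc
  -- every involution is conjugate into `T2`
  have hconj : ∀ x : G, TwoEl x → ∃ g : G, g * x * g⁻¹ ∈ h.T2 := by
    rintro x ⟨k, hk⟩
    have hp : IsPGroup 2 (Subgroup.zpowers x) := by
      obtain ⟨i, -, hi⟩ := (Nat.dvd_prime_pow Nat.prime_two).1 (orderOf_dvd_of_pow_eq_one hk)
      exact IsPGroup.of_card (n := i) (by rw [Nat.card_zpowers, hi])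
    obtain ⟨Q, hQ⟩ := hp.exists_le_sylow
    obtain ⟨g, hg⟩ := MulAction.exists_smul_eq G Q P
    refine ⟨g, ?_⟩
    rw [← hP, ← hg]
    exact ⟨x, hQ (Subgroup.mem_zpowers x), rfl⟩
  set T := h.T2 with hTdef
  have hsq' : ∀ x : G, TwoEl x → x * x = 1 := by
    intro x hx
    obtain ⟨g, hg⟩ := hconj x hx
    have := hTsq _ hg
    rwa [show g * x * g⁻¹ * (g * x * g⁻¹) = g * (x * x) * g⁻¹ by group, conj_eq_one_iff] at this
  by_cases hSig : ∀ t ∈ T, t ≠ 1 → ∀ g : G, g * t = t * g ↔ g * j = j * g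
  · -- all involutions have elementary abelian centralizers
    have hCj : ∀ g : G, g * j = j * g → g * g = 1 := by
      intro g hg
      by_cases hgB : g ∈ B
      · have h1 := h.hinv g hgB
        rw [conj_eq_iff.2 ((hSig s h.s_mem_T2 (ne_one h.hs) g).2 hg).symm] at h1
        exact mul_eq_one_iff_eq_inv.2 h1
      · exact h.out_sq hg hgB
    have hC : ∀ i : G, orderOf i = 2 → ∀ c : G, c * i = i * c → c * c = 1 := by
      intro i hi c hc
      obtain ⟨g, hg⟩ := hconj i (twoEl_of_sq (mul_self hi))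
      have hc' : g * c * g⁻¹ * (g * i * g⁻¹) = g * i * g⁻¹ * (g * c * g⁻¹) := by
        rw [conj_mul, hc, conj_mul]
      have := hCj _ ((hSig _ hg (conj_ne_one (ne_one hi)) _).1 hc')
      rwa [show g * c * g⁻¹ * (g * c * g⁻¹) = g * (c * c) * g⁻¹ by group, conj_eq_one_iff] at this
    obtain ⟨F, iF, iFF, h3, he⟩ := final_of_elementary hns hC
      (no_solvable_normal_elementary hO hns P hPc hC)
    refine ⟨⊥, inferInstance, Or.inl Subgroup.card_bot, F, iF, iFF, h3, ?_⟩
    rcases he with he | he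
    · exact Or.inl (he.map fun e => QuotientGroup.quotientBot.trans e)
    · exact Or.inr (he.map fun e => QuotientGroup.quotientBot.trans e)
  · -- an involution of `T` with another centralizer
    push Not at hSig
    obtain ⟨v0, hv0T, hv01, g0, hg0⟩ := hSig
    set N := Subgroup.normalizer (T : Set G) with hN
    have hTN : T ≤ N := Subgroup.le_normalizer
    obtain ⟨c, hc, hc1, hcj⟩ := hbig
    have hTout : ∀ y ∈ T, y ∉ B → y * s ∈ B := fun y hy hyB => (h.hH y (h.T2_comm_j hy)).resolve_left hyB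
    have hout : ∀ a ∈ T, ∀ b ∈ T, a ∉ B → b ∉ B → a * b ∈ B := by
      intro a ha b hb haB hbB
      have e : a * b = a * s * (s * (b * s) * s⁻¹) := by
        calc a * b = a * (s * s) * b := by rw [mul_self h.hs, mul_one]
          _ = _ := by group
      rw [e]
      exact mul_mem (hTout a ha haB) (h.inv_mem_conj (hTout b hb hbB))
    have hCN : ∀ n ∈ N, ∀ g : G, g * j = j * g ↔ n * g * n⁻¹ * j = j * (n * g * n⁻¹) := by
      intro n hn
      have hnT : ∀ y ∈ T, n * y * n⁻¹ ∈ T := fun y hy => (Subgroup.mem_normalizer_iff.1 hn y).1 hy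
      obtain ⟨b, hb, hb2, hnb⟩ : ∃ b ∈ B, orderOf b = 2 ∧ n * b * n⁻¹ ∈ B := by
        by_contra hcon
        push Not at hcon
        have hc2 : orderOf c = 2 := orderOf_eq_two (hel c hc) hc1
        have hjc2 : orderOf (j * c) = 2 := orderOf_eq_two (hel _ (mul_mem h.j_mem_Bt hc)) fun e =>
          hcj ((mul_eq_one_iff_eq_inv.1 e).trans (inv_eq hc2)).symm
        refine hcon _ (mul_mem h.hjB hc.1) hjc2 ?_
        rw [show n * (j * c) * n⁻¹ = n * j * n⁻¹ * (n * c * n⁻¹) by group]
        exact hout _ (hnT j (h.Bt_le_T2 h.j_mem_Bt)) _ (hnT c (h.Bt_le_T2 hc)) (hcon j h.hjB h.hj)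
          (hcon c hc.1 hc2)
      intro g
      rw [← h.hcent b hb hb2 g, ← h.hcent _ hnb (by rw [CfsgLib.Involution.Dihedral.orderOf_conj, hb2]) _,
        conj_mul, conj_mul, mul_left_inj, mul_right_inj]
    have hnB : ∀ n ∈ N, n * v0 * n⁻¹ ∉ B := by
      intro n hn hin
      have h2 : orderOf (n * v0 * n⁻¹) = 2 := orderOf_eq_two (hTsq _ ((Subgroup.mem_normalizer_iff.1 hn _).1 hv0T))
        (conj_ne_one hv01)
      have h1 := h.hcent _ hin h2 (n * g0 * n⁻¹)
      rw [← hCN n hn g0, conj_mul, conj_mul, mul_left_inj, mul_right_inj] at h1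
      tauto
    -- the product of the conjugates of `v0`
    haveI : IsMulCommutative T := ⟨⟨fun a b => Subtype.ext (hTc a a.2 b b.2)⟩⟩
    letI : CommGroup T := { (inferInstance : Group T) with mul_comm := mul_comm' }
    let L := T.subgroupOf N
    let f : N ⧸ L → T := Quotient.lift
      (fun n : N => (⟨(n : G) * v0 * (n : G)⁻¹, (Subgroup.mem_normalizer_iff.1 n.2 _).1 hv0T⟩ : T))
      (fun a b hab => Subtype.ext (by
        have hd : ((a⁻¹ * b : N) : G) ∈ T := (QuotientGroup.leftRel_apply (s := L)).1 hab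
        have e := hTc _ hd v0 hv0T
        show (a : G) * v0 * (a : G)⁻¹ = (b : G) * v0 * (b : G)⁻¹
        calc (a : G) * v0 * (a : G)⁻¹ = (a : G) * (((a⁻¹ * b : N) : G) * v0 * (((a⁻¹ * b : N) : G))⁻¹) * (a : G)⁻¹ := by
              rw [conj_eq_iff.2 e]
          _ = _ := by push_cast; group))
    haveI : Fintype (N ⧸ L) := Fintype.ofFinite _
    set v : T := ∏ q : N ⧸ L, f q with hv
    have hvB : (v : G) ∉ B := by
      rw [hv, prod_mem_iff_even hout f Finset.univ fun q _ => by
        induction q using QuotientGroup.induction_on with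
        | _ n => exact hnB n n.2]
      rw [Finset.card_univ, ← Nat.card_eq_fintype_card, ← Subgroup.index_eq_card,
        even_iff_two_dvd]
      have h2 : ¬ 2 ∣ T.index := by
        have := P.not_dvd_index
        rwa [hP] at this
      intro hd
      exact h2 (hd.trans (Subgroup.relIndex_dvd_index_of_le hTN))
    have hvN : ∀ n ∈ N, n * (v : G) * n⁻¹ = (v : G) := by
      intro n hn
      let φ : T →* T := MonoidHom.mk' (fun y => ⟨n * y * n⁻¹, (Subgroup.mem_normalizer_iff.1 hn _).1 y.2⟩)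
        fun a b => Subtype.ext (by simp [mul_assoc])
      have h1 : φ v = v := by
        rw [hv, map_prod]
        refine Fintype.prod_equiv (MulAction.toPerm (⟨n, hn⟩ : N)) _ _ fun q => ?_
        induction q using QuotientGroup.induction_on with
        | _ m =>
          refine Subtype.ext ?_
          show n * ((m : G) * v0 * (m : G)⁻¹) * n⁻¹ = (n * (m : G)) * v0 * (n * (m : G))⁻¹
          group
      exact congrArg Subtype.val h1
    have hvT : (v : G) ∈ T := v.2
    have hv2 : orderOf (v : G) = 2 := orderOf_eq_two (hTsq _ hvT) fun e => hvB (e ▸ B.one_mem)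
    have hfus : ∀ x ∈ T, ∀ g : G, g * x * g⁻¹ ∈ T → ∃ n ∈ N, n * x * n⁻¹ = g * x * g⁻¹ := by
      intro x hx g hg
      have hmem : ∀ y ∈ T, y ∈ Subgroup.centralizer ((P : Subgroup G) : Set G) := fun y hy =>
        Subgroup.mem_centralizer_iff.2 fun p hp => hTc p (hP ▸ hp) y hy
      obtain ⟨n, hn, he⟩ := Sylow.conj_eq_normalizer_conj_of_mem_centralizer P x g⁻¹ (hmem x hx)
        (by rw [inv_inv]; exact hmem _ hg)
      refine ⟨n⁻¹, inv_mem (by rw [hN, ← hP]; exact hn), ?_⟩
      rw [inv_inv] at he ⊢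
      exact he.symm
    have hvc : ∀ g : G, (v : G) * g = g * (v : G) := by
      obtain ⟨M, hMn, hModd, hMc⟩ := CfsgLib.Involution.ZStar.exists_odd_normal_of_sylow P hv2
        (show (v : G) ∈ (P : Subgroup G) by rw [hP]; exact hvT) (fun g hg => by
          have hg' : g * (v : G) * g⁻¹ ∈ T := (le_of_eq hP) hg
          obtain ⟨n, hn, e⟩ := hfus _ hvT g hg'
          rw [← e]; exact hvN n hn)
      intro g
      have h1 := hMc g
      rw [show M = ⊥ from le_bot_iff.1 ((CfsgLib.Involution.ZStar.le_oddCore hMn hModd).trans hO.le), Subgroup.mem_bot,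
        mul_inv_eq_one, mul_inv_eq_iff_eq_mul] at h1
      exact h1
    have hvcent : (v : G) ∈ Subgroup.center G := Subgroup.mem_center_iff.2 fun g => (hvc g).symm
    have hBel : ∀ b ∈ B, b * b = 1 := by
      intro b hb
      have h1 := h.out_inv (h.T2_comm_j hvT) hvB hb
      rw [conj_eq_iff.2 (hvc b)] at h1
      exact mul_eq_one_iff_eq_inv.2 h1
    have hCj : ∀ g : G, g * j = j * g → g ∈ T := by
      intro g hg
      by_cases hgB : g ∈ B
      · exact Or.inl (h.sq_mem_Bt hgB (hBel g hgB))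
      · exact Or.inr (h.sq_mem_Bt ((h.hH g hg).resolve_left hgB) (hBel _ ((h.hH g hg).resolve_left hgB)))
    -- pass to the quotient by `v`
    set W := Subgroup.zpowers (v : G) with hW
    haveI hWn : W.Normal := ⟨fun a ha g => by
      obtain ⟨i, rfl⟩ := Subgroup.mem_zpowers_iff.1 ha
      rw [← ((show Commute (v : G) g from hvc g).zpow_left i).eq, mul_inv_cancel_right]; exact ha⟩
    set π := QuotientGroup.mk' W with hπ
    have hWc : Nat.card W = 2 := by rw [hW, Nat.card_zpowers, hv2]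
    have hWmem : ∀ x ∈ W, x = 1 ∨ x = (v : G) := fun x hx => by
      rcases Nat.card_eq_two_iff.1 hWc with ⟨a, b, hab, hu⟩
      obtain ⟨i, rfl⟩ := Subgroup.mem_zpowers_iff.1 hx
      rcases Int.even_or_odd i with ⟨l, rfl⟩ | ⟨l, rfl⟩
      · exact Or.inl (by rw [zpow_add, ← (Commute.refl (v : G)).mul_zpow, mul_self hv2, one_zpow])
      · exact Or.inr (by rw [zpow_add_one, zpow_mul, zpow_two, mul_self hv2, one_zpow, one_mul])
    have hπeq : ∀ x y : G, π x = π y → y = x ∨ y = x * (v : G) := by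
      intro x y hxy
      rcases hWmem _ ((QuotientGroup.eq (s := W)).1 hxy) with e | e
      · exact Or.inl (inv_mul_eq_one.1 e).symm
      · exact Or.inr (by rw [← e, mul_inv_cancel_left])
    have hlift : ∀ q : G ⧸ W, orderOf q = 2 → ∃ g ω : G, ω ∈ B ∧ orderOf ω = 2 ∧ π (g * ω * g⁻¹) = q := by
      intro q hq
      obtain ⟨x, rfl⟩ := QuotientGroup.mk'_surjective W q
      have hx4 : TwoEl x := by
        refine ⟨2, ?_⟩
        have h1 : x * x ∈ W := (QuotientGroup.eq_one_iff _).1 (by
          show π (x * x) = 1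
          rw [map_mul]; exact mul_self hq)
        rw [show (2 : ℕ) ^ 2 = 2 + 2 from rfl, pow_add, pow_two]
        rcases hWmem _ h1 with e | e <;> rw [e]
        · rw [one_mul]
        · exact mul_self hv2
      obtain ⟨g, hg⟩ := hconj x hx4
      have hx1 : g * x * g⁻¹ ∉ W := fun hc => ne_one hq ((QuotientGroup.eq_one_iff _).2 (by
        have := hWn.conj_mem _ hc g⁻¹
        rwa [show g⁻¹ * (g * x * g⁻¹) * g⁻¹⁻¹ = x by group] at this))
      by_cases hb : g * x * g⁻¹ ∈ B
      · refine ⟨g⁻¹, _, hb, orderOf_eq_two (hTsq _ hg) fun e => hx1 (e ▸ W.one_mem), ?_⟩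
        congr 1; group
      · refine ⟨g⁻¹, g * x * g⁻¹ * (v : G), hout _ hg _ hvT hb hvB,
          orderOf_eq_two (hTsq _ (mul_mem hg hvT)) fun e => hx1 ?_, ?_⟩
        · rw [eq_inv_of_mul_eq_one_left e]; exact inv_mem (Subgroup.mem_zpowers _)
        · have hv1 : π (v : G) = 1 := (QuotientGroup.eq_one_iff _).2 (Subgroup.mem_zpowers _)
          simp only [map_mul, map_inv, hv1, mul_one]
          group
          rfl
    have hC : ∀ q : G ⧸ W, orderOf q = 2 → ∀ c : G ⧸ W, c * q = q * c → c * c = 1 := by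
      intro q hq cq hcq
      obtain ⟨g, ω, hω, hω2, rfl⟩ := hlift q hq
      obtain ⟨y, rfl⟩ := QuotientGroup.mk'_surjective W cq
      set d := g⁻¹ * y * g with hd
      have hdd : π (d * ω * d⁻¹) = π ω := by
        simp only [hd, map_mul, map_inv, π] at hcq ⊢
        have e := hcq
        calc _ = (QuotientGroup.mk' W g)⁻¹ * (QuotientGroup.mk' W y * (QuotientGroup.mk' W g * QuotientGroup.mk' W ω * (QuotientGroup.mk' W g)⁻¹)) * (QuotientGroup.mk' W y)⁻¹ * QuotientGroup.mk' W g := by group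
          _ = _ := by rw [e]; group
      have hωT : ω ∈ T := h.Bt_le_T2 (h.sq_mem_Bt hω (mul_self hω2))
      have hdT : d * ω = ω * d := by
        rcases hπeq _ _ hdd with e | e
        · exact conj_eq_iff.1 e.symm
        · exfalso
          have e' : d * ω * d⁻¹ = ω * (v : G) := by
            conv_rhs => rw [e, mul_assoc _ (v : G) (v : G), mul_self hv2, mul_one]
          obtain ⟨n, hn, hne⟩ := hfus ω hωT d (by rw [e']; exact mul_mem hωT hvT)
          rw [e'] at hne
          -- `n²` centralizes `ω`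
          have hnn : n * n ∈ T := hCj _ ((h.hcent ω hω hω2 _).1 (conj_eq_iff.1 (by
            rw [show n * n * ω * (n * n)⁻¹ = n * (n * ω * n⁻¹) * n⁻¹ by group, hne,
              show n * (ω * (v : G)) * n⁻¹ = n * ω * n⁻¹ * (n * (v : G) * n⁻¹) by group, hne, hvN n hn,
              mul_assoc, mul_self hv2, mul_one])))
          have hnT : n ∈ T := by
            have hz : IsPGroup 2 (Subgroup.zpowers n) := by
              obtain ⟨i, -, hi⟩ := (Nat.dvd_prime_pow Nat.prime_two).1 (orderOf_dvd_of_pow_eq_one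
                (show n ^ 2 ^ 2 = 1 by rw [show (2 : ℕ) ^ 2 = 2 + 2 from rfl, pow_add, pow_two]; exact hTsq _ hnn))
              exact IsPGroup.of_card (n := i) (by rw [Nat.card_zpowers, hi])
            have hsup : IsPGroup 2 (T ⊔ Subgroup.zpowers n : Subgroup G) :=
              h.T2_isPGroup.to_sup_of_normal_left' hz (Subgroup.zpowers_le.2 hn)
            have := P.3 hsup (by rw [hP]; exact le_sup_left)
            rw [← hP, ← this]
            exact Subgroup.mem_sup_right (Subgroup.mem_zpowers n)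
          rw [hTc n hnT ω hωT, mul_inv_cancel_right] at hne
          exact ne_one hv2 (mul_eq_left.1 hne.symm)
      have := hTsq _ (hCj d ((h.hcent ω hω hω2 d).1 hdT))
      rw [show d * d = g⁻¹ * (y * y) * g by rw [hd]; group] at this
      rw [← map_mul, show y * y = g * (g⁻¹ * (y * y) * g) * g⁻¹ by group, this, mul_one, mul_inv_cancel, map_one]
    have hO' : Cfsg.oddCore (G ⧸ W) = ⊥ := CfsgLib.Involution.ZStar.oddCore_quotient_central hO hv2 hvcent
    have hns' : ¬ Group.IsSolvable (G ⧸ W) := fun hs =>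
      hns ((Group.isSolvable_iff_subgroup_quotient W).2 ⟨inferInstance, hs⟩)
    have hsurj : Function.Surjective π := QuotientGroup.mk'_surjective W
    obtain ⟨F, iF, iFF, h3, he⟩ := final_of_elementary hns' hC
      (no_solvable_normal_elementary hO' hns' (P.mapSurjective hsurj) (by
        rintro _ ⟨a, ha, rfl⟩ _ ⟨b, hb, rfl⟩
        rw [← map_mul, ← map_mul, hPc a ha b hb]) hC)
    exact ⟨W, hWn, Or.inr hWc, F, iF, iFF, h3, he⟩

end CfsgLib.Characterizations.DGroup
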