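import Cfsg.Agent.Lib.Characterizations.DGroup.Basic
import Cfsg.Agent.Lib.Coprime.Sylow

/-!
# The Sylow 2-subgroup of `C(j)`
-/

set_option autoImplicit false

namespace CfsgLib.Characterizations.DGroup

open CfsgLib.Involution.Dihedral

variable {G : Type*} [Group G]

/-- A 2-element. -/
def TwoEl (x : G) : Prop := ∃ k : ℕ, x ^ 2 ^ k = 1

theorem twoEl_of_mem {P : Subgroup G} (hP : IsPGroup 2 P) {x : G} (hx : x ∈ P) : TwoEl x := by
  obtain ⟨k, hk⟩ := hP ⟨x, hx⟩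
  exact ⟨k, congrArg Subtype.val hk⟩

theorem twoEl_of_sq {x : G} (h : x * x = 1) : TwoEl x := ⟨1, by rw [pow_one, pow_two, h]⟩

/-- In a 2-group every proper subgroup has a normalizing element whose square lies in it. -/
theorem exists_normalizing_sq [Finite G] {T P : Subgroup G} (hP : IsPGroup 2 P) (hTP : T < P) :
    ∃ x ∈ P, x ∉ T ∧ x ∈ Subgroup.normalizer (T : Set G) ∧ x * x ∈ T := by
  haveI : Fact (Nat.Prime 2) := ⟨Nat.prime_two⟩
  have hlt := CfsgLib.Coprime.lt_normalizer_inf_of_lt hP hTP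
  obtain ⟨y, hy, hyT⟩ := SetLike.exists_of_lt hlt
  obtain ⟨k, hk⟩ := twoEl_of_mem hP hy.1
  classical
  have hex : ∃ i, y ^ 2 ^ i ∈ T := ⟨k, by rw [hk]; exact T.one_mem⟩
  have h0 : Nat.find hex ≠ 0 := fun e => hyT (by
    have := Nat.find_spec hex
    rwa [e, pow_zero, pow_one] at this)
  obtain ⟨i, hi⟩ := Nat.exists_eq_succ_of_ne_zero h0
  refine ⟨y ^ 2 ^ i, pow_mem hy.1 _, Nat.find_min hex (by omega), pow_mem hy.2 _, ?_⟩
  rw [← pow_add, ← two_mul, ← pow_succ']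
  have := Nat.find_spec hex
  rwa [hi] at this

namespace Cfg

variable {j s : G} {B : Subgroup G} (h : Cfg j B s)
include h

/-- The 2-elements of `B`. -/
def Bt : Subgroup G where
  carrier := {x | x ∈ B ∧ TwoEl x}
  one_mem' := ⟨B.one_mem, 0, one_pow _⟩
  mul_mem' := by
    rintro a b ⟨ha, k, hk⟩ ⟨hb, l, hl⟩
    refine ⟨mul_mem ha hb, k + l, ?_⟩
    rw [(show Commute a b from h.comm a ha b hb).mul_pow, pow_add, pow_mul, hk, one_pow, one_mul,
      mul_comm (2 ^ k), pow_mul, hl, one_pow]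
  inv_mem' := by
    rintro a ⟨ha, k, hk⟩
    exact ⟨inv_mem ha, k, by rw [inv_pow, hk, inv_one]⟩

theorem mem_Bt {x : G} : x ∈ h.Bt ↔ x ∈ B ∧ TwoEl x := Iff.rfl

theorem j_mem_Bt : j ∈ h.Bt := ⟨h.hjB, twoEl_of_sq (mul_self h.hj)⟩

theorem sq_mem_Bt {x : G} (hx : x ∈ B) (h2 : x * x = 1) : x ∈ h.Bt := ⟨hx, twoEl_of_sq h2⟩

theorem s_Bt {b : G} (hb : b ∈ h.Bt) : s * b * s⁻¹ ∈ h.Bt := by
  rw [h.hinv b hb.1]; exact inv_mem hb

/-- The Sylow 2-subgroup `Bt ∪ Bt s` of `C(j)`. -/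
def T2 : Subgroup G where
  carrier := {x | x ∈ h.Bt ∨ x * s ∈ h.Bt}
  one_mem' := Or.inl (one_mem _)
  mul_mem' := by
    intro a b ha hb
    have hss := mul_self h.hs
    rcases ha with ha | ha <;> rcases hb with hb | hb
    · exact Or.inl (mul_mem ha hb)
    · refine Or.inr ?_
      rw [mul_assoc]; exact mul_mem ha hb
    · refine Or.inr ?_
      rw [show a * b * s = a * s * (s⁻¹ * b * s) by group, inv_eq h.hs]
      refine mul_mem ha ?_
      have := h.s_Bt hb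
      rwa [inv_eq h.hs] at this
    · refine Or.inl ?_
      have e : a * b = a * s * (s * (b * s) * s⁻¹) := by
        calc a * b = a * (s * s) * b := by rw [hss, mul_one]
          _ = _ := by group
      rw [e]; exact mul_mem ha (h.s_Bt hb)
  inv_mem' := by
    intro a ha
    rcases ha with ha | ha
    · exact Or.inl (inv_mem ha)
    · refine Or.inr ?_
      have hsi := inv_eq h.hs
      have := h.s_Bt (inv_mem ha)
      rw [mul_inv_rev, ← mul_assoc s, hsi, mul_self h.hs, one_mul] at this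
      exact this

theorem mem_T2 {x : G} : x ∈ h.T2 ↔ x ∈ h.Bt ∨ x * s ∈ h.Bt := Iff.rfl

theorem Bt_le_T2 : h.Bt ≤ h.T2 := fun _ hx => Or.inl hx

theorem s_mem_T2 : s ∈ h.T2 := Or.inr (by rw [mul_self h.hs]; exact one_mem _)

theorem Bt_of_mem_T2 {x : G} (hx : x ∈ h.T2) (hxB : x ∈ B) : x ∈ h.Bt := by
  refine hx.resolve_right fun h1 => h.hsB ?_
  exact (B.mul_mem_cancel_left hxB).1 h1.1

theorem T2_comm_j {x : G} (hx : x ∈ h.T2) : x * j = j * x := by
  rcases hx with hx | hx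
  · exact h.mem_comm hx.1
  · refine mem_C.1 ?_
    have e : x = x * s * s := by rw [mul_assoc, mul_self h.hs, mul_one]
    rw [e]
    exact mul_mem (mem_C.2 (h.mem_comm hx.1)) (mem_C.2 h.s_comm)

theorem T2_isPGroup : IsPGroup 2 h.T2 := by
  rintro ⟨x, hx⟩
  obtain ⟨k, hk⟩ : TwoEl x := by
    by_cases hxB : x ∈ B
    · exact (h.Bt_of_mem_T2 hx hxB).2
    · exact twoEl_of_sq (h.out_sq (h.T2_comm_j hx) hxB)
  exact ⟨k, Subtype.ext hk⟩

/-- A 2-subgroup of `C(j)` containing `T2` equals it. -/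
theorem eq_T2 {P : Subgroup G} (hP : IsPGroup 2 P) (hPC : ∀ x ∈ P, x * j = j * x) (hTP : h.T2 ≤ P) :
    P = h.T2 := by
  refine le_antisymm (fun x hx => ?_) hTP
  by_cases hxB : x ∈ B
  · exact Or.inl ⟨hxB, twoEl_of_mem hP hx⟩
  · exact Or.inr ⟨(h.hH x (hPC x hx)).resolve_left hxB,
      twoEl_of_mem hP (mul_mem hx (hTP h.s_mem_T2))⟩

/-- A 2-subgroup containing `T2` and centralizing some involution of `B` is `T2`. -/
theorem eq_T2' {P : Subgroup G} (hP : IsPGroup 2 P) (hTP : h.T2 ≤ P) {ω : G} (hω : ω ∈ B)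
    (h2 : orderOf ω = 2) (hPω : ∀ x ∈ P, x * ω = ω * x) : P = h.T2 :=
  h.eq_T2 hP (fun x hx => (h.hcent ω hω h2 x).1 (hPω x hx)) hTP

/-- `C(ω)` determines `B` when some element of `B` is not an involution. -/
theorem mem_B_of_normal (hne : ∃ b ∈ B, b * b ≠ 1) {g : G}
    (hg : ∀ x : G, x * j = j * x → g * x * g⁻¹ * j = j * (g * x * g⁻¹)) {b : G} (hb : b ∈ B) :
    g * b * g⁻¹ ∈ B := by
  have key : ∀ c ∈ B, c * c ≠ 1 → g * c * g⁻¹ ∈ B := fun c hc hc2 =>
    h.mem_of_sq_ne (hg c (h.mem_comm hc)) (by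
      rw [show g * c * g⁻¹ * (g * c * g⁻¹) = g * (c * c) * g⁻¹ by group]
      exact conj_ne_one hc2)
  by_cases hb2 : b * b = 1
  · obtain ⟨c, hc, hc2⟩ := hne
    have h1 : b * c * (b * c) ≠ 1 := by
      rw [show b * c * (b * c) = b * (c * b) * c by group, h.comm c hc b hb,
        show b * (b * c) * c = b * b * (c * c) by group, hb2, one_mul]
      exact hc2
    have := mul_mem (key _ (mul_mem hb hc) h1) (inv_mem (key c hc hc2))
    rwa [show g * (b * c) * g⁻¹ * (g * c * g⁻¹)⁻¹ = g * b * g⁻¹ by group] at this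
  · exact key b hb hb2

end Cfg

/-- The 2-group `T2` is a Sylow subgroup when `B` has at least four 2-elements. -/
theorem Cfg.T2_sylow [Finite G] {j s : G} {B : Subgroup G} (h : Cfg j B s)
    (hbig : ∃ x ∈ h.Bt, x ≠ 1 ∧ x ≠ j) : ∃ P : Sylow 2 G, (P : Subgroup G) = h.T2 := by
  haveI : Fact (Nat.Prime 2) := ⟨Nat.prime_two⟩
  obtain ⟨P, hTP⟩ := h.T2_isPGroup.exists_le_sylow
  refine ⟨P, ?_⟩
  by_contra hne
  obtain ⟨x, hxP, hxT, hxN, hxx⟩ := exists_normalizing_sq P.2 (lt_of_le_of_ne hTP (Ne.symm hne))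
  -- two involutions of `B` exchanged by conjugation, modulo `T2`
  obtain ⟨b, hb, hb2, hxb⟩ : ∃ b ∈ B, orderOf b = 2 ∧ x * b * x⁻¹ ∈ B := by
    by_contra hcon
    push Not at hcon
    have hTx : ∀ y ∈ h.T2, x * y * x⁻¹ ∈ h.T2 := fun y hy => (Subgroup.mem_normalizer_iff.1 hxN y).1 hy
    by_cases hall : ∀ y ∈ h.Bt, y * y = 1
    · obtain ⟨c, hc, hc1, hcj⟩ := hbig
      have hc2 : orderOf c = 2 := orderOf_eq_two (hall c hc) hc1
      have hjc2 : orderOf (j * c) = 2 := orderOf_eq_two (hall _ (mul_mem h.j_mem_Bt hc)) fun e =>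
        hcj ((mul_eq_one_iff_eq_inv.1 e).trans (inv_eq hc2)).symm
      have h1 := hcon j h.hjB h.hj
      have h2 := hcon c hc.1 hc2
      have h3 := hcon _ (mul_mem h.hjB hc.1) hjc2
      apply h3
      have hout : ∀ y ∈ h.T2, y ∉ B → y * s ∈ B := fun y hy hyB => (h.hH y (h.T2_comm_j hy)).resolve_left hyB
      have m1 := hout _ (hTx j (h.Bt_le_T2 h.j_mem_Bt)) h1
      have m2 := hout _ (hTx c (h.Bt_le_T2 hc)) h2
      have e : x * (j * c) * x⁻¹ = x * j * x⁻¹ * s * (s * (x * c * x⁻¹ * s) * s⁻¹) := by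
        calc x * (j * c) * x⁻¹ = x * j * x⁻¹ * (s * s) * (x * c * x⁻¹) := by rw [mul_self h.hs]; group
          _ = _ := by group
      rw [e]
      exact mul_mem m1 (h.inv_mem_conj m2)
    · push Not at hall
      obtain ⟨c, hc, hc2⟩ := hall
      have key : ∀ y ∈ h.Bt, y * y ≠ 1 → x * y * x⁻¹ ∈ B := fun y hy hy2 =>
        h.mem_of_sq_ne (h.T2_comm_j (hTx y (h.Bt_le_T2 hy))) (by
          rw [show x * y * x⁻¹ * (x * y * x⁻¹) = x * (y * y) * x⁻¹ by group]
          exact conj_ne_one hy2)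
      have h1 : j * c * (j * c) ≠ 1 := by
        rw [show j * c * (j * c) = j * (c * j) * c by group, h.mem_comm hc.1,
          show j * (j * c) * c = j * j * (c * c) by group, mul_self h.hj, one_mul]
        exact hc2
      have := mul_mem (key _ (mul_mem h.j_mem_Bt hc) h1) (inv_mem (key c hc hc2))
      rw [show x * (j * c) * x⁻¹ * (x * c * x⁻¹)⁻¹ = x * j * x⁻¹ by group] at this
      exact hcon j h.hjB h.hj this
  -- `x²` fixes `b`, so `x` fixes a nontrivial element of `B`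
  have hfix : x * (x * b * x⁻¹) * x⁻¹ = b := by
    rw [show x * (x * b * x⁻¹) * x⁻¹ = x * x * b * (x * x)⁻¹ by group]
    by_cases hxB : x * x ∈ B
    · rw [h.comm _ hxB b hb, mul_inv_cancel_right]
    · rw [h.out_inv (h.T2_comm_j hxx) hxB hb, inv_eq hb2]
  obtain ⟨ω, hω, hω2, hωx⟩ : ∃ ω ∈ B, orderOf ω = 2 ∧ x * ω = ω * x := by
    by_cases e : x * b * x⁻¹ = b
    · exact ⟨b, hb, hb2, conj_eq_iff.1 e⟩
    · refine ⟨b * (x * b * x⁻¹), mul_mem hb hxb, orderOf_eq_two ?_ fun e1 => e ?_, conj_eq_iff.1 ?_⟩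
      · have hb' : x * b * x⁻¹ * (x * b * x⁻¹) = 1 := by
          rw [show x * b * x⁻¹ * (x * b * x⁻¹) = x * (b * b) * x⁻¹ by group, mul_self hb2]; group
        rw [mul_assoc, ← mul_assoc (x * b * x⁻¹) b, h.comm _ hxb b hb, mul_assoc b (x * b * x⁻¹), hb',
          mul_one, mul_self hb2]
      · rw [eq_inv_of_mul_eq_one_right e1, inv_eq hb2]
      · rw [show x * (b * (x * b * x⁻¹)) * x⁻¹ = x * b * x⁻¹ * (x * (x * b * x⁻¹) * x⁻¹) by group, hfix,
          h.comm _ hxb b hb]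
  have hP' : h.T2 ⊔ Subgroup.zpowers x = h.T2 := by
    refine h.eq_T2' (P.2.to_le (sup_le hTP (Subgroup.zpowers_le.2 hxP))) le_sup_left hω hω2 ?_
    have hle : h.T2 ⊔ Subgroup.zpowers x ≤ Subgroup.centralizer ({ω} : Set G) :=
      sup_le (fun y hy => mem_C.2 ((h.hcent ω hω hω2 y).2 (h.T2_comm_j hy)))
        (Subgroup.zpowers_le.2 (mem_C.2 hωx))
    exact fun y hy => mem_C.1 (hle hy)
  exact hxT (hP' ▸ Subgroup.mem_sup_right (Subgroup.mem_zpowers x))

end CfsgLib.Characterizations.DGroup
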