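import Cfsg.Agent.S0948
import Cfsg.Agent.S4481
import Cfsg.Agent.S4482
import Cfsg.Agent.Lib.Blocks.FourGroupOrder
import Cfsg.Agent.Lib.Involution.StronglyEmbedded
import Cfsg.Agent.Lib.Involution.ZStar.Basic
import Cfsg.Agent.Lib.Characterizations.DGroup.TwoPart
import Cfsg.Agent.Lib.DegreeTools.Basic

/-!
# Strongly embedded subgroups in groups with a dihedral Sylow 2-subgroup

The order formulas bound the index of a subgroup containing the centralizers of its involutions.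
-/

set_option autoImplicit false

namespace CfsgLib.Characterizations.DGroup

open CfsgLib.Involution.Dihedral

universe u

variable {G : Type u} [Group G]

theorem card_centralizer_subgroup {K : Subgroup G} (s : Set K)
    (hs : Subgroup.centralizer (Subtype.val '' s : Set G) ≤ K) :
    Nat.card (Subgroup.centralizer s) = Nat.card (Subgroup.centralizer (Subtype.val '' s : Set G)) := by
  refine Nat.card_congr ⟨fun c => ⟨((c : K) : G), ?_⟩, fun c => ⟨⟨c, hs c.2⟩, ?_⟩, fun c => rfl, fun c => rfl⟩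
  · refine Subgroup.mem_centralizer_iff.2 ?_
    rintro _ ⟨x, hx, rfl⟩
    exact congrArg Subtype.val (Subgroup.mem_centralizer_iff.1 c.2 x hx)
  · exact Subgroup.mem_centralizer_iff.2 fun x hx =>
      Subtype.ext (Subgroup.mem_centralizer_iff.1 c.2 x ⟨x, hx, rfl⟩)

variable [Finite G]

theorem char_sum_zpowers [Fintype G] (χ : Cfsg.IrrCharacter G) (σ : G) :
    ∃ N : ℕ, ∑ m : Subgroup.zpowers σ, (χ : G → ℂ) m = (orderOf σ : ℂ) * N := by
  classical
  obtain ⟨n, hn⟩ := CfsgLib.Char.IsCharacter.classInner_nat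
    (CfsgLib.Char.IsCharacter.restrict (CfsgLib.Char.isCharacter_irr χ) (Subgroup.zpowers σ))
    (CfsgLib.Char.isCharacter_irr (CfsgLib.DegreeTools.oneChar (Subgroup.zpowers σ)))
  refine ⟨n, ?_⟩
  rw [Cfsg.classInner, inv_mul_eq_iff_eq_mul₀ CfsgLib.Char.card_ne_zero] at hn
  rw [← Nat.card_zpowers, ← hn]
  exact Finset.sum_congr rfl fun m _ => by rw [CfsgLib.DegreeTools.coe_oneChar, map_one, mul_one]

/-- The order of a group with dihedral Sylow 2-subgroups and one class of involutions lies between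
fixed multiples of a number computed from three centralizers. -/
theorem dihedral_bounds (hone : ∀ x y : G, orderOf x = 2 → orderOf y = 2 → IsConj x y) (P : Sylow 2 G)
    {σ τ : G} {k : ℕ} (h : CfsgLib.Involution.DihedralSylow.Gen (P : Subgroup G) σ τ k) (hk : 1 ≤ k) :
    ∃ C : ℚ, C = (Nat.card (Subgroup.centralizer ({σ ^ 2 ^ k} : Set G)) : ℚ) ^ 3 *
        (1 / (Nat.card (Subgroup.centralizer ({σ ^ 2 ^ k, τ} : Set G)) : ℚ) +
          1 / (Nat.card (Subgroup.centralizer ({σ ^ 2 ^ k, σ * τ} : Set G)) : ℚ)) ^ 2 ∧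
      0 < C ∧ 6 * C ≤ 8 * (Nat.card G : ℚ) ∧ 8 * (Nat.card G : ℚ) ≤ 30 * C := by
  classical
  haveI : Fact (Nat.Prime 2) := ⟨Nat.prime_two⟩
  haveI := Fintype.ofFinite G
  obtain ⟨M, hM⟩ := CfsgLib.Blocks.exists_isPModular Nat.prime_two
  have hzσ : Subgroup.zpowers σ ≤ (P : Subgroup G) := Subgroup.zpowers_le.2 h.amem
  have hrN : σ ^ 2 ^ (k + 1) = 1 := by rw [← h.ord]; exact pow_orderOf_eq_one σ
  set f := CfsgLib.Involution.TwoGroupLifts.dihedralHom (N := 2 ^ (k + 1)) σ τ hrN h.bb h.conj with hf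
  have hfi : Function.Injective f :=
    CfsgLib.Involution.TwoGroupLifts.dihedralHom_injective hrN h.bb h.conj h.ord h.nb
  have hrange : f.range = (P : Subgroup G) := by
    have hr : f (DihedralGroup.r 1) = σ := by
      show CfsgLib.Involution.TwoGroupLifts.zp σ (1 : ZMod (2 ^ (k + 1))) = σ
      rw [← Int.cast_one, CfsgLib.Involution.TwoGroupLifts.zp_intCast hrN, zpow_one]
    have hs : f (DihedralGroup.sr 0) = τ := by
      show τ * CfsgLib.Involution.TwoGroupLifts.zp σ (0 : ZMod (2 ^ (k + 1))) = τ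
      rw [CfsgLib.Involution.TwoGroupLifts.zp_zero, mul_one]
    have mσ : σ ∈ f.range := ⟨_, hr⟩
    have mτ : τ ∈ f.range := ⟨_, hs⟩
    refine le_antisymm ?_ fun x hx => ?_
    · rintro _ ⟨d, rfl⟩
      rcases d with i | i
      · exact Subgroup.pow_mem _ h.amem _
      · exact mul_mem h.bmem (Subgroup.pow_mem _ h.amem _)
    · rcases h.cases x hx with ⟨i, rfl⟩ | ⟨i, rfl⟩
      · exact Subgroup.zpow_mem _ mσ i
      · exact mul_mem (Subgroup.zpow_mem _ mσ i) mτ
  have hiso : Nonempty ((P : Subgroup G) ≃* DihedralGroup (2 ^ (k + 2 - 1))) := by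
    rw [show k + 2 - 1 = k + 1 by omega]
    exact ⟨((MonoidHom.ofInjective hfi).trans (MulEquiv.subgroupCongr hrange)).symm⟩
  have hσo : orderOf σ = 2 ^ (k + 2 - 1) := by rw [show k + 2 - 1 = k + 1 by omega]; exact h.ord
  haveI : NeZero (2 ^ (k + 2 - 1)) := ⟨(pow_pos two_pos _).ne'⟩
  obtain ⟨-, χ₁, χ₂, χ₃, χ', δ₁, δ₂, δ₃, hδ₁, -, -, -, hχ₁, -, -, -, -, -, -, hblock, hval, -⟩ :=
    Cfsg.Agent.S4481.result M hM (k + 2) (by omega) P hiso σ h.amem hσo
      (Complex.exp (2 * Real.pi * Complex.I / ((2 ^ (k + 2 - 1) : ℕ) : ℂ)))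
      (Complex.isPrimitiveRoot_exp _ (pow_pos two_pos _).ne')
  have hτ2 : orderOf τ = 2 := orderOf_eq_two h.bb fun e => h.nb (e ▸ one_mem _)
  have hJ : orderOf (σ ^ 2 ^ k) = 2 := by
    have e := CfsgLib.Involution.DihedralSylow.z_orderOf h
    rwa [show ((2 : ℤ) ^ k) = ((2 ^ k : ℕ) : ℤ) by push_cast; rfl, zpow_natCast] at e
  have hστ : orderOf (σ * τ) = 2 := by
    have e := CfsgLib.Involution.DihedralSylow.refl_orderOf h 1
    rwa [zpow_one] at e
  have hgen : Subgroup.closure ({σ, τ} : Set G) = (P : Subgroup G) := by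
    refine le_antisymm ((Subgroup.closure_le _).2 ?_) fun x hx => ?_
    · rintro y (rfl | rfl)
      · exact h.amem
      · exact h.bmem
    · have hσm : σ ∈ Subgroup.closure ({σ, τ} : Set G) := Subgroup.subset_closure (Or.inl rfl)
      rcases h.cases x hx with ⟨i, rfl⟩ | ⟨i, rfl⟩
      · exact Subgroup.zpow_mem _ hσm i
      · exact mul_mem (Subgroup.zpow_mem _ hσm i) (Subgroup.subset_closure (Or.inr rfl))
  obtain ⟨hxne, hord⟩ := Cfsg.Agent.S4482.result M hM (k + 2) (by omega) P σ τ h.amem h.bmem hσo hτ2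
    h.conj hgen ⟨hone _ _ (by simpa using hJ) hτ2, hone _ _ (by simpa using hJ) hστ⟩ χ₁
    (by rw [hblock]; exact Or.inr (Or.inl rfl)) hχ₁ δ₁ hδ₁ (fun l h1 h2 => (hval l h1 h2).1)
  simp only [Nat.add_sub_cancel] at hord
  set x : ℤ := (Cfsg.charDegree (χ₁ : G → ℂ) : ℤ) with hxdef
  -- the degree is congruent to the sign modulo four
  have hcong : (4 : ℤ) ∣ x - δ₁ := by
    obtain ⟨N, hN⟩ := char_sum_zpowers χ₁ σ
    have hv : ∀ m : Subgroup.zpowers σ, m ≠ 1 → (χ₁ : G → ℂ) m = δ₁ := by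
      intro m hm
      obtain ⟨l, hl, hle⟩ : ∃ l, l < orderOf σ ∧ σ ^ l = (m : G) := by
        obtain ⟨l, hl⟩ := (mem_powers_iff_mem_zpowers (x := σ)).2 m.2
        exact ⟨l % orderOf σ, Nat.mod_lt _ (orderOf_pos σ), by rw [pow_mod_orderOf]; exact hl⟩
      rw [← hle]
      refine (hval l (Nat.pos_of_ne_zero fun e => hm (Subtype.ext ?_)) (hσo ▸ hl)).1
      rw [← hle, e, pow_zero]; rfl
    have hsum : ∑ m : Subgroup.zpowers σ, (χ₁ : G → ℂ) m = (x : ℂ) + ((orderOf σ - 1 : ℕ) : ℂ) * δ₁ := by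
      rw [← Finset.sum_erase_add Finset.univ _ (Finset.mem_univ (1 : Subgroup.zpowers σ)), add_comm,
        Finset.sum_congr rfl (g := fun _ => (δ₁ : ℂ)) fun m hm => hv m (Finset.mem_erase.1 hm).1,
        Finset.sum_const, Finset.card_erase_of_mem (Finset.mem_univ _), Finset.card_univ,
        ← Nat.card_eq_fintype_card, Nat.card_zpowers, nsmul_eq_mul]
      congr 1
      rw [show ((1 : Subgroup.zpowers σ) : G) = 1 from rfl, CfsgLib.Blocks.irr_one_eq, hxdef]
      push_cast; rfl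
    rw [hsum, h.ord] at hN
    have hN' : x + ((2 ^ (k + 1) - 1 : ℕ) : ℤ) * δ₁ = ((2 ^ (k + 1) : ℕ) : ℤ) * N := by exact_mod_cast hN
    have h4 : (4 : ℤ) ∣ ((2 ^ (k + 1) : ℕ) : ℤ) := by
      obtain ⟨e, rfl⟩ : ∃ e, k = e + 1 := ⟨k - 1, by omega⟩
      exact ⟨2 ^ e, by push_cast; ring⟩
    rw [Nat.cast_sub (Nat.one_le_two_pow)] at hN'
    obtain ⟨c, hc⟩ := h4
    exact ⟨c * (N - δ₁), by rw [hc] at hN'; push_cast at hN' ⊢; linear_combination hN'⟩
  have hpos : 0 < x := by rw [hxdef]; exact Int.natCast_pos.2 (CfsgLib.Blocks.charDegree_pos χ₁)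
  have hx3 : 3 ≤ x := by
    obtain ⟨c, hc⟩ := hcong
    rcases hδ₁ with e | e <;> subst e <;> omega
  have q1 : (0 : ℚ) < (Nat.card (Subgroup.centralizer ({σ ^ 2 ^ k} : Set G)) : ℚ) := Nat.cast_pos.2 Nat.card_pos
  have q2 : (0 : ℚ) < (Nat.card (Subgroup.centralizer ({σ ^ 2 ^ k, τ} : Set G)) : ℚ) := Nat.cast_pos.2 Nat.card_pos
  have q3 : (0 : ℚ) < (Nat.card (Subgroup.centralizer ({σ ^ 2 ^ k, σ * τ} : Set G)) : ℚ) :=
    Nat.cast_pos.2 Nat.card_pos
  refine ⟨_, rfl, ?_, ?_⟩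
  · positivity
  set C : ℚ := (Nat.card (Subgroup.centralizer ({σ ^ 2 ^ k} : Set G)) : ℚ) ^ 3 *
      (1 / (Nat.card (Subgroup.centralizer ({σ ^ 2 ^ k, τ} : Set G)) : ℚ) +
        1 / (Nat.card (Subgroup.centralizer ({σ ^ 2 ^ k, σ * τ} : Set G)) : ℚ)) ^ 2 with hC
  have hC0 : 0 < C := by positivity
  have hord' : (Nat.card G : ℚ) * ((x : ℚ) - δ₁) ^ 2 = 2 * (x : ℚ) * ((x : ℚ) + δ₁) * C := by
    rw [hxdef, hC]; push_cast; rw [← mul_assoc]; exact hord
  have hx : (3 : ℚ) ≤ (x : ℚ) := by exact_mod_cast hx3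
  have hG : (0 : ℚ) ≤ (Nat.card G : ℚ) := Nat.cast_nonneg _
  rcases hδ₁ with e | e <;> subst e <;> push_cast at hord'
  · have hd : (0 : ℚ) < ((x : ℚ) - 1) ^ 2 := pow_pos (by linarith) 2
    have hx5 : (5 : ℚ) ≤ (x : ℚ) := by
      obtain ⟨c, hc⟩ := hcong
      exact_mod_cast (show (5 : ℤ) ≤ x by omega)
    constructor
    · refine le_of_mul_le_mul_right ?_ hd
      nlinarith [mul_nonneg hC0.le (sub_nonneg.2 hx5), mul_nonneg (mul_nonneg hC0.le (sub_nonneg.2 hx5)) (sub_nonneg.2 hx5)]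
    · refine le_of_mul_le_mul_right ?_ hd
      nlinarith [mul_nonneg hC0.le (sub_nonneg.2 hx5), mul_nonneg (mul_nonneg hC0.le (sub_nonneg.2 hx5)) (sub_nonneg.2 hx5)]
  · have hd : (0 : ℚ) < ((x : ℚ) - (-1)) ^ 2 := pow_pos (by linarith) 2
    constructor
    · refine le_of_mul_le_mul_right ?_ hd
      nlinarith [mul_nonneg hC0.le (sub_nonneg.2 hx), mul_nonneg (mul_nonneg hC0.le (sub_nonneg.2 hx)) (sub_nonneg.2 hx)]
    · refine le_of_mul_le_mul_right ?_ hd
      nlinarith [mul_nonneg hC0.le (sub_nonneg.2 hx), mul_nonneg (mul_nonneg hC0.le (sub_nonneg.2 hx)) (sub_nonneg.2 hx)]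

/-- The same for a four group as Sylow 2-subgroup. -/
theorem four_bounds (hone : ∀ x y : G, orderOf x = 2 → orderOf y = 2 → IsConj x y) (P : Sylow 2 G)
    (hP : Nat.card P = 4) (hexp : ∀ x : P, x * x = 1) {J : G} (hJ : J ∈ (P : Subgroup G))
    (hJ2 : orderOf J = 2) :
    ∃ S : ℚ, 1 / 3 < S ∧ S < 3 ∧
      (Nat.card G : ℚ) * S * (Nat.card (Subgroup.centralizer ((P : Subgroup G) : Set G)) : ℚ) ^ 2 =
        8 * (Nat.card (Subgroup.centralizer ({J} : Set G)) : ℚ) ^ 3 := by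
  classical
  haveI : Fact (Nat.Prime 2) := ⟨Nat.prime_two⟩
  haveI := Fintype.ofFinite G
  obtain ⟨M, hM⟩ := CfsgLib.Blocks.exists_isPModular Nat.prime_two
  have hK : IsKleinFour (P : Subgroup G) := by
    haveI : Nontrivial (P : Subgroup G) := Finite.one_lt_card_iff_nontrivial.1 (by
      rw [show Nat.card (P : Subgroup G) = 4 from hP]; norm_num)
    exact ⟨hP, (Monoid.exponent_eq_prime_iff Nat.prime_two).2 fun g hg => orderOf_eq_two (hexp g) hg⟩
  obtain ⟨ζ₂, ζ₃, ζ₄, ε, hε, h2, h3, h23, h24, h34, hblock, hval, hd2, hd3, hd4, -⟩ :=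
    Cfsg.Agent.S0948.result M hM P hK hone
  obtain ⟨v2, v3, v4⟩ := hval J hJ2
  have hform := CfsgLib.Blocks.FourGroup.order_formula hM P hP hexp hone hJ hJ2
  have ht : ∀ χ : Cfsg.IrrCharacter G, (χ : G → ℂ) ≠ (fun _ => 1) → CfsgLib.Blocks.trivChar G ≠ χ :=
    fun χ hne e => hne (by rw [← e]; exact funext fun g => CfsgLib.Blocks.trivChar_apply g)
  have h4 : (ζ₄ : G → ℂ) ≠ fun _ => 1 := fun e => by
    rw [e] at v4
    norm_num at v4
  have hset : (Cfsg.principalBlock M G).toFinset = {CfsgLib.Blocks.trivChar G, ζ₂, ζ₃, ζ₄} := by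
    ext χ
    rw [Set.mem_toFinset, hblock]
    simp only [Set.mem_setOf_eq, Finset.mem_insert, Finset.mem_singleton]
    refine ⟨fun h => h.imp_left fun e => ?_, fun h => h.imp_left fun e => ?_⟩
    · exact Subtype.ext (e.trans (funext fun g => (CfsgLib.Blocks.trivChar_apply g).symm))
    · rw [e]; exact funext fun g => CfsgLib.Blocks.trivChar_apply g
  rw [hset, Finset.sum_insert (by simp [ht _ h2, ht _ h3, ht _ h4]),
    Finset.sum_insert (by simp [h23, h24]), Finset.sum_insert (by simp [h34]), Finset.sum_singleton,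
    CfsgLib.Blocks.trivChar_apply, CfsgLib.Blocks.trivChar_apply, v2, v3, v4, CfsgLib.Blocks.irr_one_eq,
    CfsgLib.Blocks.irr_one_eq, CfsgLib.Blocks.irr_one_eq] at hform
  set a := Cfsg.charDegree (ζ₂ : G → ℂ)
  set b := Cfsg.charDegree (ζ₃ : G → ℂ)
  set c := Cfsg.charDegree (ζ₄ : G → ℂ)
  have ha : 0 < a := CfsgLib.Blocks.charDegree_pos ζ₂
  have hb : 0 < b := CfsgLib.Blocks.charDegree_pos ζ₃
  have hc : 3 ≤ c := by
    have : 0 < c := CfsgLib.Blocks.charDegree_pos ζ₄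
    omega
  refine ⟨1 + 1 / (a : ℚ) + (ε : ℚ) / (b : ℚ) - 1 / (c : ℚ), ?_, ?_, ?_⟩
  · have h1 : (0 : ℚ) < 1 / (a : ℚ) := by positivity
    have h5 : 1 / (c : ℚ) ≤ 1 / 3 := by
      rw [div_le_div_iff₀ (by exact_mod_cast (show 0 < c by omega)) (by norm_num)]
      have : (3 : ℚ) ≤ c := by exact_mod_cast hc
      linarith
    rcases hε with e | e
    · have : (0 : ℚ) ≤ (ε : ℚ) / (b : ℚ) := by rw [e]; positivity
      linarith
    · have hb3 : (3 : ℚ) ≤ b := by exact_mod_cast (show 3 ≤ b by rw [e] at hd3; omega)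
      have : -(1 / 3 : ℚ) ≤ (ε : ℚ) / (b : ℚ) := by
        rw [e, le_div_iff₀ (by linarith)]; push_cast; linarith
      linarith
  · have h1 : (1 : ℚ) / (a : ℚ) ≤ 1 := by
      rw [div_le_one (by exact_mod_cast ha)]; exact_mod_cast ha
    have h2' : (ε : ℚ) / (b : ℚ) ≤ 1 := by
      rw [div_le_one (by exact_mod_cast hb)]
      rcases hε with e | e <;> rw [e] <;> push_cast
      · exact_mod_cast hb
      · have : (0 : ℚ) ≤ b := Nat.cast_nonneg _
        linarith
    have h5 : (0 : ℚ) < 1 / (c : ℚ) := by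
      have : (0 : ℚ) < c := by exact_mod_cast (show 0 < c by omega)
      positivity
    linarith
  · apply Rat.cast_injective (α := ℂ)
    push_cast
    have hε3 : (ε : ℂ) ^ 3 = (ε : ℂ) := by rcases hε with e | e <;> rw [e] <;> norm_num
    rw [← hform, hε3]
    ring

/-- A proper subgroup containing the centralizers of its involutions, with one class of them. -/
structure Emb (K : Subgroup G) : Prop where
  ne_top : K ≠ ⊤
  cent : ∀ i ∈ K, orderOf i = 2 → ∀ g : G, g * i = i * g → g ∈ K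
  conjK : ∀ i ∈ K, ∀ i' ∈ K, orderOf i = 2 → orderOf i' = 2 → ∃ c ∈ K, c * i * c⁻¹ = i'

namespace Emb

variable {K : Subgroup G} (hK : Emb K)
include hK

theorem se {t : G} (htK : t ∈ K) (ht : orderOf t = 2) : Cfsg.IsStronglyEmbedded K := by
  refine ⟨hK.ne_top, CfsgLib.Involution.Basic.even_of_involution_mem K htK ht, fun g hg => ?_⟩
  refine Nat.not_even_iff_odd.1 fun he => hg ?_
  obtain ⟨s, ⟨hs, a, ha, rfl⟩, hs2⟩ := CfsgLib.Involution.Basic.exists_involution_of_even _ he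
  have hs2' : orderOf (g * a * g⁻¹) = 2 := hs2
  have ha2 : orderOf a = 2 := (CfsgLib.Involution.Dihedral.orderOf_conj g a).symm.trans hs2'
  obtain ⟨c, hc, e⟩ := hK.conjK a ha _ hs ha2 hs2'
  have e' : c * a * c⁻¹ = g * a * g⁻¹ := e
  have hm : c⁻¹ * g ∈ K := hK.cent a ha ha2 _ (by
    rw [← conj_eq_iff]
    calc c⁻¹ * g * a * (c⁻¹ * g)⁻¹ = c⁻¹ * (g * a * g⁻¹) * c := by group
      _ = a := by rw [← e']; group)
  simpa using mul_mem hc hm

theorem conjG {t : G} (htK : t ∈ K) (ht : orderOf t = 2) :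
    ∀ x y : G, orderOf x = 2 → orderOf y = 2 → IsConj x y := fun _ _ hx hy =>
  CfsgLib.Involution.SE.all_conj (hK.se htK ht) hx hy

theorem conjSub : ∀ x y : K, orderOf x = 2 → orderOf y = 2 → IsConj x y := by
  intro x y hx hy
  obtain ⟨c, hc, e⟩ := hK.conjK x x.2 y y.2 (by rw [Subgroup.orderOf_coe, hx]) (by rw [Subgroup.orderOf_coe, hy])
  exact isConj_iff.2 ⟨⟨c, hc⟩, Subtype.ext e⟩

/-- A 2-subgroup of `K` acts freely on the other points. -/
theorem free {P : Subgroup G} (hP : IsPGroup 2 P) (hPK : P ≤ K) {t : G} (htK : t ∈ K) (ht : orderOf t = 2)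
    {x : G ⧸ K} (hx : x ≠ ((1 : G) : G ⧸ K)) {v : G} (hv : v ∈ P) (hvx : v • x = x) : v = 1 := by
  by_contra hv1
  have hev : ¬ Odd (orderOf v) := fun ho => by
    obtain ⟨n, hn⟩ := twoEl_of_mem hP hv
    exact hv1 (two_odd_one hn ho)
  obtain ⟨n, hn⟩ := exists_invol_pow hev
  refine hx (CfsgLib.Involution.SE.fixed_unique (hK.se htK ht) hn ?_ ?_)
  · have hst : v ∈ MulAction.stabilizer G x := hvx
    exact pow_mem hst n
  · rw [CfsgLib.Involution.SE.fixes_mk_iff]
    simpa using pow_mem (hPK hv) n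

theorem card_add_one_le {P : Subgroup G} (hP : IsPGroup 2 P) (hPK : P ≤ K) {t : G} (htK : t ∈ K)
    (ht : orderOf t = 2) {x : G ⧸ K} (hx : x ≠ ((1 : G) : G ⧸ K)) : Nat.card P + 1 ≤ K.index := by
  rw [Subgroup.index_eq_card, ← Finite.card_option]
  refine Nat.card_le_card_of_injective (fun o : Option P => o.elim ((1 : G) : G ⧸ K) fun v => (v : G) • x) ?_
  have h0 : ∀ v : P, (v : G) • x ≠ ((1 : G) : G ⧸ K) := fun v e => hx (by
    rw [← inv_smul_smul (v : G) x, e, MulAction.Quotient.smul_mk, smul_eq_mul, mul_one, QuotientGroup.eq,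
      inv_inv, mul_one]
    exact hPK v.2)
  rintro (_ | v) (_ | w) e
  · rfl
  · exact absurd e.symm (h0 w)
  · exact absurd e (h0 v)
  · refine congrArg some (Subtype.ext ?_)
    have e' : ((v : G)⁻¹ * w) • x = x := by
      rw [mul_smul, inv_smul_eq_iff]; exact (show (v : G) • x = (w : G) • x from e).symm
    exact inv_mul_eq_one.1 (hK.free hP hPK htK ht hx (mul_mem (inv_mem v.2) w.2) e')

theorem exists_point : ∃ x : G ⧸ K, x ≠ ((1 : G) : G ⧸ K) := by
  by_contra h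
  push Not at h
  refine hK.ne_top ((Subgroup.eq_top_iff' K).2 fun z => ?_)
  have := (h z).symm
  rw [QuotientGroup.eq] at this
  simpa using this

/-- No dihedral Sylow 2-subgroup of order at least eight. -/
theorem not_dihedral (P : Sylow 2 G) (hPK : (P : Subgroup G) ≤ K) {σ τ : G} {k : ℕ}
    (h : CfsgLib.Involution.DihedralSylow.Gen (P : Subgroup G) σ τ k) (hk : 1 ≤ k) : False := by
  haveI : Fact (Nat.Prime 2) := ⟨Nat.prime_two⟩
  have hJ2 := CfsgLib.Involution.DihedralSylow.z_orderOf h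
  rw [show ((2 : ℤ) ^ k) = ((2 ^ k : ℕ) : ℤ) by push_cast; rfl, zpow_natCast] at hJ2
  have hJK : σ ^ 2 ^ k ∈ K := pow_mem (hPK h.amem) _
  let PK : Sylow 2 K := P.subtype hPK
  have hmem : ∀ x : K, x ∈ (PK : Subgroup K) ↔ (x : G) ∈ (P : Subgroup G) := fun x => Iff.rfl
  have hK' : CfsgLib.Involution.DihedralSylow.Gen (PK : Subgroup K) ⟨σ, hPK h.amem⟩ ⟨τ, hPK h.bmem⟩ k := by
    refine ⟨(hmem _).2 h.amem, (hmem _).2 h.bmem, by rw [← Subgroup.orderOf_coe]; exact h.ord,
      Subtype.ext h.bb, fun hc => ?_, Subtype.ext h.conj, fun x hx => ?_⟩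
    · obtain ⟨i, hi⟩ := Subgroup.mem_zpowers_iff.1 hc
      refine h.nb (Subgroup.mem_zpowers_iff.2 ⟨i, ?_⟩)
      have := congrArg Subtype.val hi
      rwa [SubgroupClass.coe_zpow] at this
    · rcases h.cases x ((hmem x).1 hx) with ⟨i, e⟩ | ⟨i, e⟩
      · exact Or.inl ⟨i, Subtype.ext (by rw [SubgroupClass.coe_zpow]; exact e)⟩
      · exact Or.inr ⟨i, Subtype.ext (by rw [Subgroup.coe_mul, SubgroupClass.coe_zpow]; exact e)⟩
  obtain ⟨C, hC, hC0, hlo, hhi⟩ := dihedral_bounds (hK.conjG hJK hJ2) P h hk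
  obtain ⟨C', hC', -, hlo', hhi'⟩ := dihedral_bounds hK.conjSub PK hK' hk
  have hσJ : (((⟨σ, hPK h.amem⟩ : K) ^ 2 ^ k : K) : G) = σ ^ 2 ^ k := SubmonoidClass.coe_pow _ _
  have hcK : ∀ y : K, Nat.card (Subgroup.centralizer ({(⟨σ, hPK h.amem⟩ : K) ^ 2 ^ k, y} : Set K)) =
      Nat.card (Subgroup.centralizer ({σ ^ 2 ^ k, (y : G)} : Set G)) := by
    intro y
    rw [card_centralizer_subgroup _ (fun g hg => hK.cent _ hJK hJ2 g
      (Subgroup.mem_centralizer_iff.1 hg _ ⟨(⟨σ, hPK h.amem⟩ : K) ^ 2 ^ k, Or.inl rfl, hσJ⟩).symm),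
      Set.image_pair, hσJ]
  have hcJ : Nat.card (Subgroup.centralizer ({(⟨σ, hPK h.amem⟩ : K) ^ 2 ^ k} : Set K)) =
      Nat.card (Subgroup.centralizer ({σ ^ 2 ^ k} : Set G)) := by
    rw [card_centralizer_subgroup ({(⟨σ, hPK h.amem⟩ : K) ^ 2 ^ k} : Set K) (fun g hg => hK.cent _ hJK hJ2 g
      (Subgroup.mem_centralizer_iff.1 hg _ ⟨(⟨σ, hPK h.amem⟩ : K) ^ 2 ^ k, Set.mem_singleton _, hσJ⟩).symm),
      Set.image_singleton, hσJ]
  rw [hcJ, hcK, hcK] at hC'
  have hCC : C' = C := by rw [hC, hC']; rfl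
  subst hCC
  obtain ⟨x, hx⟩ := hK.exists_point
  have h9 := hK.card_add_one_le P.2 hPK hJK hJ2 hx
  have h8 : 8 ≤ Nat.card (P : Subgroup G) := by
    have hinj : Function.Injective (fun o : Bool × Subgroup.zpowers σ =>
        (⟨cond o.1 (o.2 : G) ((o.2 : G) * τ), by
          cases o.1
          · exact mul_mem (Subgroup.zpowers_le.2 h.amem o.2.2) h.bmem
          · exact Subgroup.zpowers_le.2 h.amem o.2.2⟩ : (P : Subgroup G))) := by
      rintro ⟨a, x⟩ ⟨b, y⟩ e
      have e' := congrArg Subtype.val e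
      cases a <;> cases b <;> simp only [cond] at e'
      · rw [Subtype.ext (mul_right_cancel e')]
      · exact absurd ((Subgroup.mul_mem_cancel_left _ x.2).1 (e' ▸ y.2)) h.nb
      · exact absurd ((Subgroup.mul_mem_cancel_left _ y.2).1 (e'.symm ▸ x.2)) h.nb
      · rw [Subtype.ext e']
    have h1 := Nat.card_le_card_of_injective _ hinj
    rw [Nat.card_prod, Nat.card_zpowers, h.ord, Nat.card_eq_fintype_card (α := Bool), Fintype.card_bool] at h1
    have h4 : 2 ^ 2 ≤ 2 ^ (k + 1) := Nat.pow_le_pow_right two_pos (by omega)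
    omega
  have hcard : (Nat.card G : ℚ) = K.index * (Nat.card K : ℚ) := by
    rw [← Subgroup.card_mul_index K]; push_cast; ring
  have hidx : (9 : ℚ) ≤ (K.index : ℚ) := by exact_mod_cast (show 9 ≤ K.index by omega)
  nlinarith [Nat.cast_nonneg (α := ℚ) (Nat.card K)]

/-- With a four group as Sylow 2-subgroup the index is five. -/
theorem four_index (P : Sylow 2 G) (hPK : (P : Subgroup G) ≤ K) (hP : Nat.card P = 4)
    (hexp : ∀ x : P, x * x = 1) {J : G} (hJ : J ∈ (P : Subgroup G)) (hJ2 : orderOf J = 2) : K.index = 5 := by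
  haveI : Fact (Nat.Prime 2) := ⟨Nat.prime_two⟩
  let PK : Sylow 2 K := P.subtype hPK
  have hPKc : Nat.card PK = 4 := by
    rw [← hP]
    exact Nat.card_congr (Subgroup.subgroupOfEquivOfLe hPK).toEquiv
  have hexpK : ∀ x : PK, x * x = 1 := fun x => Subtype.ext (Subtype.ext
    (show ((x : K) : G) * ((x : K) : G) = 1 from
      congrArg (fun w : (P : Subgroup G) => (w : G)) (hexp ⟨((x : K) : G), x.2⟩)))
  obtain ⟨S, hS1, hS3, hS⟩ := four_bounds (hK.conjG (hPK hJ) hJ2) P hP hexp hJ hJ2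
  obtain ⟨S', hS'1, hS'3, hS'⟩ := four_bounds hK.conjSub PK hPKc hexpK (J := ⟨J, hPK hJ⟩) hJ
    (by rw [← Subgroup.orderOf_coe]; exact hJ2)
  have himg : Subtype.val '' ((PK : Subgroup K) : Set K) = ((P : Subgroup G) : Set G) := by
    ext y
    exact ⟨fun ⟨x, hx, e⟩ => e ▸ hx, fun hy => ⟨⟨y, hPK hy⟩, hy, rfl⟩⟩
  have hsing : Subtype.val '' ({⟨J, hPK hJ⟩} : Set K) = ({J} : Set G) := Set.image_singleton
  rw [card_centralizer_subgroup ((PK : Subgroup K) : Set K) (by
      rw [himg]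
      exact fun g hg => hK.cent J (hPK hJ) hJ2 g (Subgroup.mem_centralizer_iff.1 hg J hJ).symm),
    card_centralizer_subgroup ({⟨J, hPK hJ⟩} : Set K) (by
      rw [hsing]
      exact fun g hg => hK.cent J (hPK hJ) hJ2 g (mem_C.1 hg)), himg, hsing] at hS'
  have hcard : (Nat.card G : ℚ) = K.index * (Nat.card K : ℚ) := by
    rw [← Subgroup.card_mul_index K]; push_cast; ring
  have hc0 : (0 : ℚ) < (Nat.card (Subgroup.centralizer ((P : Subgroup G) : Set G)) : ℚ) ^ 2 :=
    pow_pos (Nat.cast_pos.2 Nat.card_pos) 2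
  have hK0 : (0 : ℚ) < (Nat.card K : ℚ) := Nat.cast_pos.2 Nat.card_pos
  have e : (K.index : ℚ) * S = S' := by
    refine mul_left_cancel₀ (mul_pos hK0 hc0).ne' ?_
    rw [hcard] at hS
    linear_combination hS - hS'
  have hlt : K.index < 9 := by
    have : (K.index : ℚ) < 9 := by nlinarith
    exact_mod_cast this
  have hodd : Odd K.index := by
    rw [Subgroup.index_eq_card]; exact CfsgLib.Involution.SE.odd_index (hK.se (hPK hJ) hJ2)
  obtain ⟨x, hx⟩ := hK.exists_point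
  have h5 := hK.card_add_one_le P.2 hPK (hPK hJ) hJ2 hx
  rw [show Nat.card (P : Subgroup G) = 4 from hP] at h5
  by_contra h5'
  have h7 : K.index = 7 := by
    obtain ⟨m, hm⟩ := hodd
    omega
  haveI := Fintype.ofFinite (G ⧸ K)
  have h0 : ∀ (v : (P : Subgroup G)) (z : G ⧸ K), z ≠ ((1 : G) : G ⧸ K) → (v : G) • z ≠ ((1 : G) : G ⧸ K) :=
    fun v z hz e => hz (by
    rw [← inv_smul_smul (v : G) z, e, MulAction.Quotient.smul_mk, smul_eq_mul, mul_one, QuotientGroup.eq,
      inv_inv, mul_one]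
    exact hPK v.2)
  -- a second free orbit does not fit
  obtain ⟨y, hy, hyx⟩ : ∃ y : G ⧸ K, y ≠ ((1 : G) : G ⧸ K) ∧ ∀ v : (P : Subgroup G), (v : G) • x ≠ y := by
    by_contra hcon
    push Not at hcon
    have : Nat.card (G ⧸ K) ≤ Nat.card (Option (P : Subgroup G)) := by
      refine Nat.card_le_card_of_surjective
        (fun o : Option (P : Subgroup G) => o.elim ((1 : G) : G ⧸ K) fun v => (v : G) • x) fun z => ?_
      by_cases hz : z = ((1 : G) : G ⧸ K)
      · exact ⟨none, hz.symm⟩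
      · obtain ⟨v, hv⟩ := hcon z hz
        exact ⟨some v, hv⟩
    rw [← Subgroup.index_eq_card, Finite.card_option, show Nat.card (P : Subgroup G) = 4 from hP] at this
    omega
  have hinj : Function.Injective (fun o : (P : Subgroup G) ⊕ (P : Subgroup G) =>
      Sum.elim (fun v : (P : Subgroup G) => (v : G) • x) (fun v : (P : Subgroup G) => (v : G) • y) o) := by
    have hfree : ∀ z : G ⧸ K, z ≠ ((1 : G) : G ⧸ K) → ∀ v w : (P : Subgroup G), (v : G) • z = (w : G) • z → v = w :=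
      fun z hz v w e => Subtype.ext (inv_mul_eq_one.1 (hK.free P.2 hPK (hPK hJ) hJ2 hz
        (mul_mem (inv_mem v.2) w.2) (by rw [mul_smul, inv_smul_eq_iff]; exact e.symm)))
    rintro (v | v) (w | w) e <;> simp only [Sum.elim_inl, Sum.elim_inr] at e
    · rw [hfree x hx v w e]
    · exact absurd (by rw [Subgroup.coe_mul, mul_smul, e, Subgroup.coe_inv, inv_smul_smul]) (hyx (w⁻¹ * v))
    · exact absurd (by rw [Subgroup.coe_mul, mul_smul, ← e, Subgroup.coe_inv, inv_smul_smul]) (hyx (v⁻¹ * w))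
    · rw [hfree y hy v w e]
  have h8 := Nat.card_le_card_of_injective _ hinj
  rw [Nat.card_sum, show Nat.card (P : Subgroup G) = 4 from hP, ← Subgroup.index_eq_card] at h8
  omega

/-- So the group embeds in the symmetric group of degree five. -/
theorem four_embed (hO : Cfsg.oddCore G = ⊥) (P : Sylow 2 G) (hPK : (P : Subgroup G) ≤ K) (hP : Nat.card P = 4)
    (hexp : ∀ x : P, x * x = 1) {J : G} (hJ : J ∈ (P : Subgroup G)) (hJ2 : orderOf J = 2) :
    Nat.card G ∣ 120 ∧ ∀ y : G, Odd (orderOf y) → (∀ v ∈ (P : Subgroup G), y * v = v * y) → y = 1 := by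
  haveI : Fact (Nat.Prime 2) := ⟨Nat.prime_two⟩
  have hSE := hK.se (hPK hJ) hJ2
  have h5 := hK.four_index P hPK hP hexp hJ hJ2
  obtain ⟨x, hx⟩ := hK.exists_point
  have hker : ∀ g : G, (∀ z : G ⧸ K, g • z = z) → g = 1 := by
    intro g hg
    set N := (MulAction.toPermHom G (G ⧸ K)).ker with hN
    have hNodd : Odd (Nat.card N) := by
      refine Nat.not_even_iff_odd.1 fun he => ?_
      obtain ⟨t, htN, ht⟩ := CfsgLib.Involution.Basic.exists_involution_of_even N he
      have hfix : ∀ z : G ⧸ K, t • z = z := fun z => Equiv.ext_iff.1 (MonoidHom.mem_ker.1 htN) z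
      exact hx (CfsgLib.Involution.SE.fixed_unique hSE ht (hfix x) (hfix _))
    have hb := CfsgLib.Involution.ZStar.le_oddCore inferInstance hNodd
      (show g ∈ N from MonoidHom.mem_ker.2 (Equiv.ext hg))
    rwa [hO, Subgroup.mem_bot] at hb
  refine ⟨?_, fun y hy hcomm => ?_⟩
  · haveI := Fintype.ofFinite (G ⧸ K)
    have hinj : Function.Injective (MulAction.toPermHom G (G ⧸ K)) :=
      (MonoidHom.ker_eq_bot_iff _).1 ((Subgroup.eq_bot_iff_forall _).2 fun g hg =>
        hker g fun z => Equiv.ext_iff.1 (MonoidHom.mem_ker.1 hg) z)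
    have h1 := Subgroup.card_dvd_of_injective _ hinj
    rwa [Nat.card_perm, ← Subgroup.index_eq_card, h5] at h1
  · have hyJ : Commute y J := hcomm J hJ
    have hy0 : y • ((1 : G) : G ⧸ K) = ((1 : G) : G ⧸ K) :=
      CfsgLib.Involution.SE.commute_fixes hSE hJ2 (by
        rw [CfsgLib.Involution.SE.fixes_mk_iff]; simpa using hPK hJ) hyJ
    haveI := Fintype.ofFinite (G ⧸ K)
    have hinj : Function.Injective (fun o : Option (P : Subgroup G) =>
        o.elim ((1 : G) : G ⧸ K) fun v => (v : G) • x) := by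
      have h0 : ∀ v : (P : Subgroup G), (v : G) • x ≠ ((1 : G) : G ⧸ K) := fun v e => hx (by
        rw [← inv_smul_smul (v : G) x, e, MulAction.Quotient.smul_mk, smul_eq_mul, mul_one, QuotientGroup.eq,
          inv_inv, mul_one]
        exact hPK v.2)
      rintro (_ | v) (_ | w) e
      · rfl
      · exact absurd e.symm (h0 w)
      · exact absurd e (h0 v)
      · refine congrArg some (Subtype.ext (inv_mul_eq_one.1 (hK.free P.2 hPK (hPK hJ) hJ2 hx
          (mul_mem (inv_mem v.2) w.2) ?_)))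
        rw [mul_smul, inv_smul_eq_iff]; exact (show (v : G) • x = (w : G) • x from e).symm
    have hsurj := ((Nat.bijective_iff_injective_and_card _).2 ⟨hinj, by
      rw [Finite.card_option, show Nat.card (P : Subgroup G) = 4 from hP, ← Subgroup.index_eq_card, h5]⟩).2
    obtain ⟨o, ho⟩ := hsurj (y • x)
    rcases o with _ | v
    · exfalso
      refine hx ?_
      rw [← inv_smul_smul y x, ← ho]; simp only [Option.elim_none]; rw [← hy0, inv_smul_smul, hy0]
    simp only [Option.elim] at ho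
    have hvv : (v : G) * v = 1 := congrArg Subtype.val (hexp v)
    have hy2x : (y * y) • x = x := by
      rw [mul_smul, ← ho, smul_smul, hcomm v v.2, mul_smul, ← ho, smul_smul, hvv, one_smul]
    refine odd_one_of_sq hy (hker _ fun z => ?_)
    obtain ⟨o, rfl⟩ := hsurj z
    rcases o with _ | w
    · simp only [Option.elim]; rw [mul_smul, hy0, hy0]
    · simp only [Option.elim]
      rw [smul_smul, (Commute.mul_left (hcomm w w.2) (hcomm w w.2) : Commute (y * y) (w : G)).eq, mul_smul,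
        hy2x]

end Emb

end CfsgLib.Characterizations.DGroup
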