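import Cfsg.Agent.S0217
import Cfsg.Agent.S1458
import Cfsg.Agent.Lib.Components.Signalizer.Balance
import Cfsg.Agent.Lib.Characterizations.DGroup.Disjoint
import Cfsg.Agent.Lib.Characterizations.DGroup.Index

/-!
# One class of involutions: odd elements have their centralizers inside those of involutions
-/

set_option autoImplicit false

namespace CfsgLib.Characterizations.DGroup

open CfsgLib.Involution.Dihedral

universe u

variable {G : Type u} [Group G]

/-- The centre of the Thompson subgroup commutes with injective maps. -/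
theorem centerThompson_map {p : ℕ} {H : Type u} [Group H] (f : H →* G) (hf : Function.Injective f)
    (U : Subgroup H) :
    (Cfsg.centerThompsonOf p U).map f = Cfsg.centerThompsonOf p (U.map f) := by
  set f' : ↥U →* G := f.comp U.subtype with hf'
  have hfi : Function.Injective f' := hf.comp U.subtype_injective
  set J := Cfsg.thompsonSubgroup p ↥U with hJ
  have hJ' : Cfsg.thompsonSubgroupOf p (U.map f) = J.map f' := by
    have hrange : f'.range = U.map f := by
      rw [hf', MonoidHom.range_comp, Subgroup.range_subtype]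
    rw [← hrange, Cfsg.thompsonSubgroupOf,
      ← CfsgLib.Fusion.Thompson.map_thompson_equiv (MonoidHom.ofInjective hfi), Subgroup.map_map]
    rfl
  have e1 := CfsgLib.OddOrder.Puig.map_center_map U.subtype U.subtype_injective J
  have e2 := CfsgLib.OddOrder.Puig.map_center_map f' hfi J
  rw [Cfsg.centerThompsonOf, Cfsg.centerThompsonOf, Cfsg.thompsonSubgroupOf, ← hJ, ← e1, Subgroup.map_map,
    ← hf', hJ']
  exact e2

theorem core_conj [Finite G] {p : ℕ} [Fact p.Prime] (g a : G) {x : G}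
    (hx : x ∈ Cfsg.centralizerPPrimeCore p a) :
    g * x * g⁻¹ ∈ Cfsg.centralizerPPrimeCore p (g * a * g⁻¹) := by
  set C' := Subgroup.centralizer ({g * a * g⁻¹} : Set G) with hC'
  set S := (Cfsg.centralizerPPrimeCore p a).map (MulAut.conj g).toMonoidHom with hS
  have hle : S ≤ C' := by
    rintro _ ⟨y, hy, rfl⟩
    have h1 := mem_C.1 (CfsgLib.Components.Signalizer.centralizerPPrimeCore_le a hy)
    refine mem_C.2 ?_
    show g * y * g⁻¹ * (g * a * g⁻¹) = g * a * g⁻¹ * (g * y * g⁻¹)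
    rw [conj_mul, conj_mul, h1]
  haveI hn : (S.subgroupOf C').Normal := by
    refine ⟨fun y hy c => ?_⟩
    have hc : g⁻¹ * (c : G) * g ∈ Subgroup.centralizer ({a} : Set G) := mem_C.2 (by
      have := mem_C.1 c.2
      calc g⁻¹ * (c : G) * g * a = g⁻¹ * ((c : G) * (g * a * g⁻¹)) * g := by group
        _ = g⁻¹ * (g * a * g⁻¹ * c) * g := by rw [this]
        _ = _ := by group)
    have hy' : g⁻¹ * (y : G) * g ∈ Cfsg.centralizerPPrimeCore p a := mem_map_conj.1 hy
    refine mem_map_conj.2 ?_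
    have := (Subgroup.mem_normalizer_iff.1 (CfsgLib.Components.Signalizer.centralizer_le_normalizer_core a hc) _).1 hy'
    show g⁻¹ * ((c : G) * y * (c : G)⁻¹) * g ∈ _
    rwa [show g⁻¹ * (c : G) * g * (g⁻¹ * (y : G) * g) * (g⁻¹ * (c : G) * g)⁻¹ =
      g⁻¹ * ((c : G) * y * (c : G)⁻¹) * g by group] at this
  have hcop : (Nat.card (S.subgroupOf C')).Coprime p := by
    rw [Nat.card_congr (Subgroup.subgroupOfEquivOfLe hle).toEquiv,
      Subgroup.card_map_of_injective (MulAut.conj g).injective]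
    exact ((Fact.out : p.Prime).coprime_iff_not_dvd.2
      (CfsgLib.Components.Signalizer.not_dvd_centralizerPPrimeCore a)).symm
  have hxS : g * x * g⁻¹ ∈ S := ⟨x, hx, rfl⟩
  exact ⟨⟨g * x * g⁻¹, hle hxS⟩, CfsgLib.Solvable.Cores.le_pPrimeCore hcop hxS, rfl⟩

variable [Finite G]

theorem Cfg.change {j s t : G} {B : Subgroup G} (h : Cfg j B s) (ht : orderOf t = 2) (htj : t * j = j * t)
    (htB : t ∉ B) : Cfg j B t :=
  { hj := h.hj
    hjB := h.hjB
    comm := h.comm
    hs := ht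
    hsB := htB
    hinv := fun b hb => h.out_inv htj htB hb
    hH := fun g hg => by
      by_cases hgB : g ∈ B
      · exact Or.inl hgB
      · exact Or.inr (h.out_mul hg htj hgB htB)
    hcent := h.hcent }

/-- With one class of involutions `T2` is a Sylow subgroup. -/
theorem Hyp.T2_sylow (h : Hyp G) {j s : G} {B : Subgroup G} (hc : Cfg j B s) :
    ∃ P : Sylow 2 G, (P : Subgroup G) = hc.T2 := by
  haveI : Fact (Nat.Prime 2) := ⟨Nat.prime_two⟩
  set C := Subgroup.centralizer ({j} : Set G) with hC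
  obtain ⟨S0⟩ : Nonempty (Sylow 2 G) := inferInstance
  have h2G : 2 ∣ Nat.card G := hc.hj ▸ orderOf_dvd_natCard j
  haveI : Nontrivial (S0 : Subgroup G) := Finite.one_lt_card_iff_nontrivial.1 (by
    have := Nat.le_of_dvd Nat.card_pos (S0.dvd_card_of_dvd_card h2G)
    omega)
  haveI := S0.2.center_nontrivial
  obtain ⟨z, hz⟩ : ∃ z : Subgroup.center (S0 : Subgroup G), orderOf z = 2 := by
    obtain ⟨e, he, hh⟩ :=
      (S0.2.to_subgroup (Subgroup.center (S0 : Subgroup G))).nontrivial_iff_card.1 inferInstance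
    exact exists_prime_orderOf_dvd_card' 2 (by rw [hh]; exact dvd_pow_self 2 (by omega))
  obtain ⟨d, hd⟩ := isConj_iff.1 (h.conj ((z : (S0 : Subgroup G)) : G) j
    (by rw [Subgroup.orderOf_coe, Subgroup.orderOf_coe]; exact hz) hc.hj)
  have hle : (S0 : Subgroup G).map (MulAut.conj d).toMonoidHom ≤ C := by
    rintro _ ⟨x, hx, rfl⟩
    refine mem_C.2 ?_
    show d * x * d⁻¹ * j = j * (d * x * d⁻¹)
    rw [← hd, conj_mul, conj_mul,
      show x * ((z : (S0 : Subgroup G)) : G) = ((z : (S0 : Subgroup G)) : G) * x from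
        congrArg Subtype.val (Subgroup.mem_center_iff.1 z.2 ⟨x, hx⟩)]
  obtain ⟨Q', hQ'⟩ := ((S0.2.map (MulAut.conj d).toMonoidHom).of_equiv
    (Subgroup.subgroupOfEquivOfLe hle).symm).exists_le_sylow
  have hTC : hc.T2 ≤ C := fun x hx => mem_C.2 (hc.T2_comm_j hx)
  obtain ⟨Q, hQ⟩ := (hc.T2_isPGroup.of_equiv (Subgroup.subgroupOfEquivOfLe hTC).symm).exists_le_sylow
  have hQT : (Q : Subgroup C).map C.subtype = hc.T2 := hc.eq_T2 (Q.2.map _)
    (fun x hx => mem_C.1 (Subgroup.map_subtype_le _ hx)) fun x hx => ⟨⟨x, hTC hx⟩, hQ hx, rfl⟩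
  obtain ⟨S, hS⟩ := hc.T2_isPGroup.exists_le_sylow
  refine ⟨S, (Subgroup.eq_of_le_of_card_ge hS ?_).symm⟩
  have h3 := Subgroup.card_le_of_le hQ'
  rw [Nat.card_congr (Subgroup.subgroupOfEquivOfLe hle).toEquiv,
    Subgroup.card_map_of_injective (MulAut.conj d).injective, S0.card_eq_multiplicity,
    Q'.card_eq_multiplicity, ← Q.card_eq_multiplicity] at h3
  rw [S.card_eq_multiplicity, ← hQT, CfsgLib.Coprime.card_map_subtype]
  exact h3

theorem solvable_centralizer_odd (h : Hyp G) {y : G} (hy : Odd (orderOf y)) (hy1 : y ≠ 1) :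
    Group.IsSolvable (Subgroup.centralizer ({y} : Set G)) := by
  haveI : Fact (Nat.Prime 2) := ⟨Nat.prime_two⟩
  set C := Subgroup.centralizer ({y} : Set G) with hC
  set N := (oddC y).subgroupOf C with hN
  haveI hNn : N.Normal := ⟨fun x hx c => oddC_conj (Or.inl (conj_eq_iff.2 (mem_C.1 c.2))) hx⟩
  haveI : Group.IsSolvable N := CfsgLib.OddOrder.Final.oddSolvable _ (by
    rw [hN, Nat.card_congr (Subgroup.subgroupOfEquivOfLe (show oddC y ≤ C from
      fun x hx => mem_C.2 (oddC_comm hx))).toEquiv]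
    exact oddC_odd h hy hy1)
  have h2 : IsPGroup 2 (C ⧸ N) := by
    intro q
    obtain ⟨x, rfl⟩ := QuotientGroup.mk'_surjective N q
    obtain ⟨a, b, ⟨k, hk⟩, hb, hab⟩ := split x
    refine ⟨k, ?_⟩
    have hb1 : QuotientGroup.mk' N (x ^ b) = 1 := (QuotientGroup.eq_one_iff _).2
      (mem_oddC (hb.of_dvd_nat (orderOf_map_dvd C.subtype _)) (mem_C.1 (x ^ b).2))
    rw [← hab, map_mul, hb1, mul_one, ← map_pow, hk, map_one]
  haveI : Group.IsNilpotent (C ⧸ N) := h2.isNilpotent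
  exact (Group.isSolvable_iff_subgroup_quotient N).2 ⟨inferInstance, inferInstance⟩

variable {i k : G}

namespace Full

variable {p : ℕ} [Fact p.Prime] {R : Subgroup G}

theorem normalizes (f : Fr i k) (hp : Odd p) (hR : Full p i k R) :
    Subgroup.normalizer (f.grp : Set G) ≤ Subgroup.normalizer (R : Set G) := fun g hg =>
  mem_normalizer_of_maps fun x hx =>
    hR.le f hp (f.map_IP hg hR.toIP) ⟨x, hx, rfl⟩

theorem center_all (f : Fr i k) (h : Hyp G) (hp : Odd p) (hR : Full p i k R) (hR1 : R ≠ ⊥) {l : G}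
    (hl : Lab i k l) : ∃ z ∈ R, z ≠ 1 ∧ z * l = l * z ∧ z ^ p = 1 ∧ ∀ x ∈ R, x * z = z * x := by
  obtain ⟨c, hc, z, hzR, hz1, hzc, hzR'⟩ := f.center_component h hp hR.toIP hR1
  obtain ⟨g, hg, hgl⟩ := f.transitive h hc hl
  have hgR := hR.normalizes f hp hg
  obtain ⟨n, hn⟩ := pEl_of_mem hR.pg hzR
  obtain ⟨e, -, he⟩ := (Nat.dvd_prime_pow (Fact.out : p.Prime)).1 (orderOf_dvd_of_pow_eq_one hn)
  obtain ⟨e', rfl⟩ : ∃ e', e = e' + 1 := Nat.exists_eq_add_one.2 (Nat.pos_of_ne_zero fun h0 => by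
    rw [h0, pow_zero, orderOf_eq_one_iff] at he
    exact hz1 he)
  set w := z ^ p ^ e' with hw
  have hwp : w ^ p = 1 := by rw [hw, ← pow_mul, ← pow_succ, ← he, pow_orderOf_eq_one]
  have hw1 : w ≠ 1 := fun e0 => by
    have h1 := orderOf_dvd_of_pow_eq_one e0
    rw [he, Nat.pow_dvd_pow_iff_le_right (Fact.out : p.Prime).one_lt] at h1
    omega
  refine ⟨g * w * g⁻¹, (Subgroup.mem_normalizer_iff.1 hgR w).1 (pow_mem hzR _), conj_ne_one hw1, ?_, ?_, ?_⟩
  · rw [← hgl, conj_mul, conj_mul, ((show Commute z c from hzc).pow_left (p ^ e')).eq]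
  · rw [_root_.conj_pow, hwp, mul_one, mul_inv_cancel]
  · intro x hx
    have hx' : g⁻¹ * x * g ∈ R := by
      have := (Subgroup.mem_normalizer_iff.1 (inv_mem hgR) x).1 hx
      rwa [inv_inv] at this
    have h1 : g⁻¹ * x * g * w = w * (g⁻¹ * x * g) :=
      ((show Commute (g⁻¹ * x * g) z from hzR' _ hx').pow_right (p ^ e')).eq
    calc x * (g * w * g⁻¹) = g * (g⁻¹ * x * g * w) * g⁻¹ := by group
      _ = g * (w * (g⁻¹ * x * g)) * g⁻¹ := by rw [h1]
      _ = _ := by group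

theorem T_normalizes (f : Fr i k) (h : Hyp G) (hp : Odd p) (hR : Full p i k R) (hR1 : R ≠ ⊥) {l : G}
    (hl : Lab i k l) {T : Subgroup G} (hT : IsPGroup 2 T) (hTl : ∀ x ∈ T, x * l = l * x) (hVT : f.grp ≤ T) :
    T ≤ Subgroup.normalizer (R : Set G) := by
  haveI : Fact (Nat.Prime 2) := ⟨Nat.prime_two⟩
  obtain ⟨z, hzR, hz1, hzl, -, hzc⟩ := hR.center_all f h hp hR1 hl
  have hzo : Odd (orderOf z) := PEl.odd hp (pEl_of_mem hR.pg hzR)
  obtain ⟨R', hR', -, -, hmax, hR'c⟩ := f.exists_R h hp hzo hz1 hl hzl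
  have hRR : R = R' := le_antisymm (hmax R hR.toIP hzc) (hR.le f hp hR')
  subst hRR
  set O := oddC z with hO
  have hTO : T ≤ Subgroup.normalizer (O : Set G) := fun t ht => mem_normalizer_of_maps fun x hx =>
    oddC_conj (h.fix_or_invert (f.lab hl).1 (hTl t ht) hzo hzl) hx
  have hcop : (Nat.card T).Coprime (Nat.card O) := by
    obtain ⟨n, hn⟩ := hT.exists_card_eq
    rw [hn]
    exact (Nat.coprime_two_left.2 (oddC_odd h hzo hz1)).pow_left n
  have hTs : Group.IsSolvable T := by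
    haveI : Group.IsNilpotent T := hT.isNilpotent
    infer_instance
  obtain ⟨P, hP⟩ := CfsgLib.Coprime.exists_invariant_sylow hTO hcop (Or.inl hTs) p
  set P' := (P : Subgroup O).map O.subtype with hP'
  have hP'ip : IP p i k P' := ⟨P.2.map _,
    fun x hx => (Subgroup.mem_normalizer_iff.1 (hP (hVT (f.mem_grp.2 (Or.inr (Or.inl rfl))))) x).1 hx,
    fun x hx => (Subgroup.mem_normalizer_iff.1 (hP (hVT (f.mem_grp.2 (Or.inr (Or.inr (Or.inl rfl)))))) x).1 hx⟩
  have e : P' = R := Subgroup.eq_of_le_of_card_ge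
    (hmax P' hP'ip fun x hx => oddC_comm (Subgroup.map_subtype_le _ hx))
    (by rw [hP', CfsgLib.Coprime.card_map_subtype, P.card_eq_multiplicity, hR'c])
  exact e ▸ hP

end Full

set_option maxHeartbeats 1600000 in
/-- No full invariant `p`-subgroup. -/
theorem no_full (h : Hyp G) (hO : Cfsg.oddCore G = ⊥) {j s : G} {B : Subgroup G} (hc : Cfg j B s)
    (h1 : One j B) {p : ℕ} [Fact p.Prime] (hp : Odd p) {R : Subgroup G} (hR : Full p j s R)
    (hR1 : R ≠ ⊥) : False := by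
  haveI : Fact (Nat.Prime 2) := ⟨Nat.prime_two⟩
  have hp2 : p ≠ 2 := by rintro rfl; exact absurd hp (by decide)
  have f : Fr j s := ⟨hc.hj, hc.hs, hc.s_comm.symm, fun e => hc.hsB (e ▸ hc.hjB)⟩
  have hlj : Lab j s j := Or.inl rfl
  obtain ⟨P2, hP2⟩ := h.T2_sylow hc
  set T := hc.T2 with hT
  have hjT : j ∈ T := hc.Bt_le_T2 hc.j_mem_Bt
  have hsT : s ∈ T := hc.s_mem_T2
  have hVT : f.grp ≤ T := (Subgroup.closure_le _).2 (by
    rintro y (rfl | rfl)
    · exact hjT
    · exact hsT)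
  have hTR : T ≤ Subgroup.normalizer (R : Set G) :=
    hR.T_normalizes f h hp hR1 hlj hc.T2_isPGroup (fun x hx => hc.T2_comm_j hx) hVT
  -- involutions of `T` are conjugate to `j` in the normalizer of `R`
  have hfus : ∀ t ∈ T, orderOf t = 2 → ∃ g ∈ Subgroup.normalizer (R : Set G), g * t * g⁻¹ = j := by
    intro t htT ht
    by_cases htB : t ∈ B
    · exact ⟨1, one_mem _, by rw [one_mul, inv_one, mul_one, h1 t htB ht]⟩
    have f' : Fr j t := ⟨hc.hj, ht, (hc.T2_comm_j htT).symm, fun e => htB (e ▸ hc.hjB)⟩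
    have hip : IP p j t R := ⟨hR.pg, hR.nrm.1,
      fun x hx => (Subgroup.mem_normalizer_iff.1 (hTR htT) x).1 hx⟩
    obtain ⟨z, hzR, hz1, hzj, -, -⟩ := hR.center_all f h hp hR1 hlj
    obtain ⟨l, hl, hlne, x, hxR, hx1, hxl⟩ :
        ∃ l, Lab j t l ∧ l ≠ j ∧ ∃ x ∈ R, x ≠ 1 ∧ x * l = l * x := by
      by_contra hcon
      push Not at hcon
      have hle : R ≤ Subgroup.centralizer ({j} : Set G) :=
        f'.nrm_le hip.nrm (odd_card_of_isPGroup hp hR.pg) fun l hl x hx hxl => by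
          by_cases hlj' : l = j
          · subst hlj'; exact mem_C.2 hxl
          · by_cases hx1 : x = 1
            · rw [hx1]; exact one_mem _
            · exact absurd hxl (hcon l hl hlj' x hx hx1)
      obtain ⟨z', hz'R, hz'1, hz's, -, -⟩ := hR.center_all f h hp hR1 (Or.inr (Or.inl rfl) : Lab j s s)
      exact hz'1 (h.odd_one f.hi f.hk f.comm.symm f.ne.symm (PEl.odd hp (pEl_of_mem hR.pg hz'R))
        (mem_C.1 (hle hz'R)) hz's)
    obtain ⟨R', hR'⟩ := f'.dichotomy h hp hip (Or.inl rfl) hl hlne.symm hzR hz1 hzj hxR hx1 hxl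
    have hR'1 : R' ≠ ⊥ := fun e => hz1 (Subgroup.mem_bot.1 (e ▸ hR'.all j (Or.inl rfl) z hzj
      (pEl_of_mem hR.pg hzR)))
    have hVT' : f'.grp ≤ T := (Subgroup.closure_le _).2 (by
      rintro y (rfl | rfl)
      · exact hjT
      · exact htT)
    have hTR' := hR'.T_normalizes f' h hp hR'1 (Or.inl rfl) hc.T2_isPGroup (fun x hx => hc.T2_comm_j hx) hVT'
    have e : R = R' := le_antisymm (hR'.le f' hp hip) (hR.le f hp ⟨hR'.pg, hR'.nrm.1,
      fun x hx => (Subgroup.mem_normalizer_iff.1 (hTR' hsT) x).1 hx⟩)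
    subst e
    obtain ⟨g, hg, hgj⟩ := f'.transitive h (Or.inr (Or.inl rfl) : Lab j t t) (Or.inl rfl : Lab j t j)
    exact ⟨g, hR'.normalizes f' hp hg, hgj⟩
  -- the signalizer functor
  obtain ⟨z, hzR, hz1, hzj, hzp, hzc⟩ := hR.center_all f h hp hR1 hlj
  obtain ⟨z₂, hz₂R, hz₂1, hz₂s, hz₂p, hz₂c⟩ := hR.center_all f h hp hR1 (Or.inr (Or.inl rfl) : Lab j s s)
  obtain ⟨z₃, hz₃R, hz₃1, hz₃l, hz₃p, hz₃c⟩ :=
    hR.center_all f h hp hR1 (Or.inr (Or.inr rfl) : Lab j s (j * s))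
  set Z := Cfsg.centerThompsonOf p R with hZdef
  have hZR : Z ≤ R := inf_le_left.trans (CfsgLib.Fusion.Thompson.thompsonSubgroupOf_le _)
  have hZc : ∀ a ∈ Z, ∀ b ∈ Z, a * b = b * a := fun a ha b hb =>
    Subgroup.mem_centralizer_iff.1 hb.2 a ha.1
  have hcentZ : ∀ w ∈ R, w ^ p = 1 → (∀ x ∈ R, x * w = w * x) → w ∈ Z := by
    intro w hw hwp hwc
    obtain ⟨A₀, hA₀⟩ := CfsgLib.Fusion.Thompson.exists_maxEA (p := p) (G := ↥R)
    have hwA : (⟨w, hw⟩ : R) ∈ A₀ := CfsgLib.Fusion.Thompson.mem_of_pow_eq_one_of_centralizes hA₀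
      (Subgroup.mem_centralizer_iff.2 fun a _ => Subtype.ext (hwc a a.2)) (Subtype.ext hwp)
    exact ⟨⟨⟨w, hw⟩, le_sSup hA₀ hwA, rfl⟩, Subgroup.mem_centralizer_iff.2 fun x hx =>
      hwc x (CfsgLib.Fusion.Thompson.thompsonSubgroupOf_le _ hx)⟩
  let A : Subgroup G :=
    { carrier := {a | a ∈ Z ∧ a ^ p = 1}
      one_mem' := ⟨one_mem _, one_pow _⟩
      mul_mem' := by
        rintro a b ⟨ha, ha'⟩ ⟨hb, hb'⟩
        exact ⟨mul_mem ha hb, by rw [(show Commute a b from hZc a ha b hb).mul_pow, ha', hb', one_mul]⟩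
      inv_mem' := by
        rintro a ⟨ha, ha'⟩
        exact ⟨inv_mem ha, by rw [inv_pow, ha', inv_one]⟩ }
  have hAcomm : ∀ a ∈ A, ∀ b ∈ A, a * b = b * a := fun a ha b hb => hZc a ha.1 b hb.1
  have hAexp : ∀ a ∈ A, a ^ p = 1 := fun a ha => ha.2
  have hAp : IsPGroup p A := fun a => ⟨1, Subtype.ext (by rw [SubgroupClass.coe_pow, pow_one]; exact hAexp a a.2)⟩
  have hAodd : ∀ a ∈ A, Odd (orderOf a) := fun a ha => PEl.odd hp ⟨1, by rw [pow_one]; exact ha.2⟩
  have hz₁A : z ∈ A := ⟨hcentZ z hzR hzp hzc, hzp⟩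
  have hz₂A : z₂ ∈ A := ⟨hcentZ z₂ hz₂R hz₂p hz₂c, hz₂p⟩
  have hz₃A : z₃ ∈ A := ⟨hcentZ z₃ hz₃R hz₃p hz₃c, hz₃p⟩
  have hA3 : p ^ 3 ∣ Nat.card A := by
    haveI : NeZero p := ⟨(Fact.out : p.Prime).ne_zero⟩
    haveI : IsMulCommutative A := ⟨⟨fun a b => Subtype.ext (hAcomm a a.2 b b.2)⟩⟩
    have hord : ∀ {w : G}, w ^ p = 1 → w ≠ 1 → orderOf w = p := fun hw hw1 => orderOf_eq_prime hw hw1
    -- three independent cyclic subgroups
    let φ : ↥(Subgroup.zpowers z) × ↥(Subgroup.zpowers z₂) × ↥(Subgroup.zpowers z₃) → A :=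
      fun v => ⟨(v.1 : G) * v.2.1 * v.2.2, mul_mem (mul_mem (Subgroup.zpowers_le.2 hz₁A v.1.2)
        (Subgroup.zpowers_le.2 hz₂A v.2.1.2)) (Subgroup.zpowers_le.2 hz₃A v.2.2.2)⟩
    have hinj : Function.Injective φ := by
      rintro ⟨a, b, c⟩ ⟨a', b', c'⟩ e
      have e' : (a : G) * b * c = a' * b' * c' := congrArg Subtype.val e
      have inA : ∀ {w x : G}, w ∈ A → x ∈ Subgroup.zpowers w → x ∈ A := fun hw hx => Subgroup.zpowers_le.2 hw hx
      set α := (a : G) * (a' : G)⁻¹ with hα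
      set β := (b : G) * (b' : G)⁻¹ with hβ
      set γ := (c : G) * (c' : G)⁻¹ with hγ
      have hαm : α ∈ Subgroup.zpowers z := mul_mem a.2 (inv_mem a'.2)
      have hβm : β ∈ Subgroup.zpowers z₂ := mul_mem b.2 (inv_mem b'.2)
      have hγm : γ ∈ Subgroup.zpowers z₃ := mul_mem c.2 (inv_mem c'.2)
      have hprod : α * β * γ = 1 := by
        have cA : ∀ x ∈ A, ∀ y ∈ A, Commute x y := fun x hx y hy => hAcomm x hx y hy
        have ha := inA hz₁A a.2; have ha' := inA hz₁A a'.2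
        have hb := inA hz₂A b.2; have hb' := inA hz₂A b'.2
        have hcA := inA hz₃A c.2; have hc' := inA hz₃A c'.2
        calc α * β * γ = (a : G) * ((a' : G)⁻¹ * b) * ((b' : G)⁻¹ * c) * (c' : G)⁻¹ := by rw [hα, hβ, hγ]; group
          _ = (a : G) * (b * (a' : G)⁻¹) * (c * (b' : G)⁻¹) * (c' : G)⁻¹ := by
            rw [((cA _ ha' _ hb).inv_left).eq, ((cA _ hb' _ hcA).inv_left).eq]
          _ = (a : G) * b * ((a' : G)⁻¹ * c) * (b' : G)⁻¹ * (c' : G)⁻¹ := by group
          _ = (a : G) * b * (c * (a' : G)⁻¹) * (b' : G)⁻¹ * (c' : G)⁻¹ := by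
            rw [((cA _ ha' _ hcA).inv_left).eq]
          _ = (a : G) * b * c * ((c' : G) * b' * a')⁻¹ := by group
          _ = (a : G) * b * c * ((a' : G) * b' * c')⁻¹ := by
            have hrev : (c' : G) * b' * a' = a' * b' * c' := by
              rw [hAcomm _ (mul_mem hc' hb') _ ha', hAcomm _ hc' _ hb', mul_assoc]
            rw [hrev]
          _ = 1 := by rw [← e', mul_inv_cancel]
      clear_value α β γ
      have hzl3 : ∀ {w x l : G}, w * l = l * w → x ∈ Subgroup.zpowers w → x * l = l * x := by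
        intro w x l hwl hx
        obtain ⟨n, rfl⟩ := Subgroup.mem_zpowers_iff.1 hx
        exact ((show Commute w l from hwl).zpow_left n).eq
      have hodd3 : ∀ {w x : G}, w ∈ A → x ∈ Subgroup.zpowers w → Odd (orderOf x) :=
        fun hw hx => hAodd _ (inA hw hx)
      have hjfix : j * α * j⁻¹ = α := conj_eq_iff.2 (hzl3 hzj hαm).symm
      have hjβ : j * β * j⁻¹ = β⁻¹ :=
        h.inverts hc.hs hc.hj hc.s_comm.symm f.ne (hodd3 hz₂A hβm) (hzl3 hz₂s hβm)
      have hjγ : j * γ * j⁻¹ = γ⁻¹ :=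
        h.inverts f.ik hc.hj (f.lab (Or.inr (Or.inr rfl))).2.1.symm (fun e0 => ne_one f.hk (left_eq_mul.1 e0))
          (hodd3 hz₃A hγm) (hzl3 hz₃l hγm)
      have hcαβγ : β * γ = α⁻¹ := by rw [eq_inv_iff_mul_eq_one, hAcomm _ (mul_mem (inA hz₂A hβm) (inA hz₃A hγm)) _ (inA hz₁A hαm), ← mul_assoc, hprod]
      have hα1 : α = 1 := by
        refine odd_one_of_sq (hodd3 hz₁A hαm) ?_
        have h2 : j * (β * γ) * j⁻¹ = (β * γ)⁻¹ := by
          rw [← conj_mul, hjβ, hjγ, mul_inv_rev, hAcomm _ (inv_mem (inA hz₂A hβm)) _ (inv_mem (inA hz₃A hγm))]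
        rw [hcαβγ, inv_inv, show j * α⁻¹ * j⁻¹ = (j * α * j⁻¹)⁻¹ by group, hjfix] at h2
        exact inv_eq_iff_mul_eq_one.1 h2
      rw [hα1, one_mul] at hprod
      have hβ1 : β = 1 := by
        refine h.odd_one hc.hs f.ik (f.lab (Or.inr (Or.inr rfl))).2.2 (fun e0 => ne_one f.hi (mul_eq_right.1 e0))
          (hodd3 hz₂A hβm) (hzl3 hz₂s hβm) ?_
        rw [eq_inv_of_mul_eq_one_left hprod]
        exact ((show Commute γ (j * s) from hzl3 hz₃l hγm).inv_left).eq
      rw [hβ1, one_mul] at hprod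
      refine Prod.ext (Subtype.ext (mul_inv_eq_one.1 (hα.symm.trans hα1)))
        (Prod.ext (Subtype.ext (mul_inv_eq_one.1 (hβ.symm.trans hβ1)))
          (Subtype.ext (mul_inv_eq_one.1 (hγ.symm.trans hprod))))
    have h3 := Nat.card_le_card_of_injective φ hinj
    rw [Nat.card_prod, Nat.card_prod, Nat.card_zpowers, Nat.card_zpowers, Nat.card_zpowers, hord hzp hz1,
      hord hz₂p hz₂1, hord hz₃p hz₃1] at h3
    obtain ⟨n, hn⟩ := hAp.exists_card_eq
    rw [hn] at h3 ⊢
    refine Nat.pow_dvd_pow p ?_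
    by_contra hlt
    have : p ^ n < p ^ 3 := Nat.pow_lt_pow_right (Fact.out : p.Prime).one_lt (by omega)
    rw [pow_succ, pow_two, mul_assoc] at this
    omega
  let θ : G → Subgroup G := fun a => Cfsg.centralizerPPrimeCore p a ⊓ oddC a
  have hθodd : ∀ a ∈ A, a ≠ 1 → Odd (Nat.card (θ a)) := fun a ha ha1 =>
    (oddC_odd h (hAodd a ha) ha1).of_dvd_nat (Subgroup.card_dvd_of_le inf_le_right)
  have hθinv : ∀ a ∈ A, a ≠ 1 → ∀ b ∈ A, ∀ x ∈ θ a, b * x * b⁻¹ ∈ θ a := by
    intro a ha _ b hb x hx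
    exact ⟨(Subgroup.mem_normalizer_iff.1 (CfsgLib.Components.Signalizer.centralizer_le_normalizer_core a
      (mem_C.2 (hAcomm b hb a ha))) x).1 hx.1, oddC_conj (Or.inl (conj_eq_iff.2 (hAcomm b hb a ha))) hx.2⟩
  have hbal : ∀ a ∈ A, a ≠ 1 → ∀ b ∈ A, b ≠ 1 → θ a ⊓ Subgroup.centralizer {b} ≤ θ b := by
    intro a ha ha1 b hb hb1 x hx
    haveI := solvable_centralizer_odd h (hAodd b hb) hb1
    refine ⟨CfsgLib.Components.Signalizer.core_inf_centralizer_le (hAcomm a ha b hb)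
      (orderOf_eq_prime (hAexp a ha) ha1) CfsgLib.Components.Signalizer.pLayer_eq_bot_of_isSolvable
      ⟨hx.1.1, hx.2⟩, mem_oddC (odd_orderOf_mem (hθodd a ha ha1) hx.1) (mem_C.1 hx.2)⟩
  obtain ⟨hYp, hYC⟩ := Cfsg.Agent.S0217.result A hAcomm hAexp (Nat.le_of_dvd Nat.card_pos hA3) θ
    (fun a _ _ => inf_le_left.trans (CfsgLib.Components.Signalizer.centralizerPPrimeCore_le a))
    (fun a _ _ hd => CfsgLib.Components.Signalizer.not_dvd_centralizerPPrimeCore a
      (hd.trans (Subgroup.card_dvd_of_le inf_le_left))) hθinv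
    (fun a ha ha1 => CfsgLib.OddOrder.Final.oddSolvable _ (hθodd a ha ha1)) hbal
  set Y := ⨆ a : {a : G // a ∈ A ∧ a ≠ 1}, θ a with hY
  have hAY : ∀ n ∈ Subgroup.normalizer (A : Set G), n ∈ Subgroup.normalizer (Y : Set G) := by
    intro n hn
    have hle : Y ≤ Y.comap (MulAut.conj n).toMonoidHom := by
      refine iSup_le fun a => fun x hx => ?_
      refine Subgroup.mem_iSup_of_mem ⟨n * (a : G) * n⁻¹, (Subgroup.mem_normalizer_iff.1 hn _).1 a.2.1,
        conj_ne_one a.2.2⟩ ⟨core_conj n (a : G) hx.1, ?_⟩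
      show n * x * n⁻¹ ∈ oddC (n * (a : G) * n⁻¹)
      have hm : (oddC (a : G)).map (MulAut.conj n).toMonoidHom ≤ oddC (n * (a : G) * n⁻¹) := by
        rw [oddC, MonoidHom.map_closure]
        refine Subgroup.closure_mono ?_
        rintro _ ⟨w, ⟨hw, hwa⟩, rfl⟩
        refine ⟨?_, ?_⟩
        · show Odd (orderOf (MulAut.conj n w))
          rwa [MulAut.conj_apply, CfsgLib.Involution.Dihedral.orderOf_conj]
        · show n * w * n⁻¹ * (n * (a : G) * n⁻¹) = n * (a : G) * n⁻¹ * (n * w * n⁻¹)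
          rw [conj_mul, conj_mul, hwa]
      exact hm ⟨x, hx.2, rfl⟩
    exact mem_normalizer_of_maps fun x hx => hle hx
  have hYodd : Odd (Nat.card Y) := by
    rw [Nat.odd_iff, ← Nat.two_dvd_ne_zero]
    intro h2
    have hAY' : A ≤ Subgroup.normalizer (Y : Set G) := fun a ha =>
      hAY a (Subgroup.le_normalizer ha)
    have hcop : (Nat.card A).Coprime (Nat.card Y) := by
      obtain ⟨n, hn⟩ := hAp.exists_card_eq
      rw [hn]
      exact ((Fact.out : p.Prime).coprime_iff_not_dvd.2 hYp).pow_left n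
    have hAs : Group.IsSolvable A := Group.isSolvable_of_comm fun a b => Subtype.ext (hAcomm a a.2 b b.2)
    obtain ⟨U, hU⟩ := CfsgLib.Coprime.exists_invariant_sylow hAY' hcop (Or.inl hAs) 2
    set U' := (U : Subgroup Y).map Y.subtype with hU'
    haveI : IsMulCommutative A := ⟨⟨fun a b => Subtype.ext (hAcomm a a.2 b b.2)⟩⟩
    have hnc : ¬ IsCyclic A := by
      intro hcyc
      obtain ⟨g, hg⟩ := hcyc.exists_generator
      have h' : Nat.card A ∣ p := by
        rw [← orderOf_eq_card_of_forall_mem_zpowers hg]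
        exact orderOf_dvd_of_pow_eq_one (Subtype.ext (hAexp g g.2))
      have h3 := Nat.le_of_dvd (Fact.out : p.Prime).pos (hA3.trans h')
      have : p < p ^ 3 := lt_self_pow₀ (Fact.out : p.Prime).one_lt (by norm_num)
      omega
    have hgen := CfsgLib.Coprime.iSup_centralizer_singleton hnc hU
      (CfsgLib.Coprime.coprime_of_le hcop le_rfl (Subgroup.map_subtype_le _))
    have hbot : U' = ⊥ := by
      rw [← hgen]
      refine le_bot_iff.1 (iSup₂_le fun a ha x hx => Subgroup.mem_bot.2 ?_)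
      have hxθ : x ∈ θ a := by
        rw [← hYC a ha.1 ha.2]
        exact ⟨Subgroup.map_subtype_le _ hx.1, hx.2⟩
      obtain ⟨n, hn⟩ := twoEl_of_mem (U.2.map Y.subtype) hx.1
      exact two_odd_one hn (odd_orderOf_mem (hθodd a ha.1 ha.2) hxθ)
    have h4 : Nat.card U' = 1 := by rw [hbot, Subgroup.card_bot]
    rw [hU', CfsgLib.Coprime.card_map_subtype] at h4
    have := U.dvd_card_of_dvd_card h2
    rw [h4] at this
    exact absurd this (by decide)
  -- the subgroup containing all centralizers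
  obtain ⟨X, hX1, hXodd, hRX, hOX⟩ : ∃ X : Subgroup G, X ≠ ⊥ ∧ Odd (Nat.card X) ∧
      Subgroup.normalizer (R : Set G) ≤ Subgroup.normalizer (X : Set G) ∧
      oddC z ≤ Subgroup.normalizer (X : Set G) := by
    have hRZ : Subgroup.normalizer (R : Set G) ≤ Subgroup.normalizer (Z : Set G) :=
      CfsgLib.OddOrder.ZJ.centerThompsonOf_normalizer R
    have hZA : Subgroup.normalizer (Z : Set G) ≤ Subgroup.normalizer (A : Set G) := fun n hn =>
      mem_normalizer_of_maps fun x hx => ⟨(Subgroup.mem_normalizer_iff.1 hn x).1 hx.1, by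
        rw [_root_.conj_pow, hx.2, mul_one, mul_inv_cancel]⟩
    -- the factorization of `oddC z`
    set O := oddC z with hOdef
    have hzo : Odd (orderOf z) := PEl.odd hp (pEl_of_mem hR.pg hzR)
    have hOodd : Odd (Nat.card O) := oddC_odd h hzo hz1
    obtain ⟨R', hR', hR'z, -, hmax, hR'c⟩ := f.exists_R h hp hzo hz1 hlj hzj
    have hRR : R = R' := le_antisymm (hmax R hR.toIP hzc) (hR.le f hp hR')
    subst hRR
    have hRO : R ≤ O := fun x hx => mem_oddC (PEl.odd hp (pEl_of_mem hR.pg hx)) (hzc x hx)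
    let S : Sylow p O := Sylow.ofCard (R.subgroupOf O) (by
      rw [Nat.card_congr (Subgroup.subgroupOfEquivOfLe hRO).toEquiv, hR'c])
    have hS : (S : Subgroup O).map O.subtype = R := by
      rw [Sylow.coe_ofCard, Subgroup.subgroupOf_map_subtype]
      exact inf_eq_left.2 hRO
    haveI : Group.IsSolvable O := CfsgLib.OddOrder.Final.oddSolvable _ hOodd
    have hnorm := Cfsg.Agent.S1458.result hOodd p S
    set ZO := Cfsg.centerThompsonOf p (S : Subgroup O) with hZO
    set L := Cfsg.pPrimeCore p O with hL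
    have hZmap : ZO.map O.subtype = Z := by
      rw [hZO, centerThompson_map _ O.subtype_injective, hS]
    haveI hLn : L.Normal := inferInstance
    have hLθ : L.map O.subtype ≤ θ z := by
      have hle : L.map O.subtype ≤ Subgroup.centralizer ({z} : Set G) :=
        (Subgroup.map_subtype_le _).trans fun x hx => mem_C.2 (oddC_comm hx)
      refine le_inf ?_ (Subgroup.map_subtype_le _)
      haveI hn' : ((L.map O.subtype).subgroupOf (Subgroup.centralizer ({z} : Set G))).Normal := by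
        refine ⟨fun x hx c => ?_⟩
        have hcO : (c : G) ∈ Subgroup.normalizer (O : Set G) := mem_normalizer_of_maps fun y hy =>
          oddC_conj (Or.inl (conj_eq_iff.2 (mem_C.1 c.2))) hy
        exact (Subgroup.mem_normalizer_iff.1
          (CfsgLib.Components.map_subtype_normal_of_characteristic (C := L) hcO) _).1 hx
      intro x hx
      refine ⟨⟨x, hle hx⟩, CfsgLib.Solvable.Cores.le_pPrimeCore ?_ (show (⟨x, hle hx⟩ :
        Subgroup.centralizer ({z} : Set G)) ∈ (L.map O.subtype).subgroupOf _ from hx), rfl⟩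
      rw [Nat.card_congr (Subgroup.subgroupOfEquivOfLe hle).toEquiv, CfsgLib.Coprime.card_map_subtype]
      exact CfsgLib.Solvable.Cores.coprime_card_pPrimeCore p
    have hfac : ∀ y : O, ∃ l ∈ L, ∃ n ∈ Subgroup.normalizer (ZO : Set O), y = l * n := by
      intro y
      set W := ZO ⊔ L with hW
      haveI hWn : W.Normal := hnorm
      have hZS : ZO ≤ (S : Subgroup O) := inf_le_left.trans (CfsgLib.Fusion.Thompson.thompsonSubgroupOf_le _)
      have hZp : IsPGroup p ZO := S.2.to_le hZS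
      have hcard : Nat.card W = Nat.card ZO * Nat.card L := by
        obtain ⟨m, hm⟩ := hZp.exists_card_eq
        have hcop : (Nat.card ZO).Coprime (Nat.card L) := by
          rw [hm]
          exact (CfsgLib.Solvable.Cores.coprime_card_pPrimeCore p).symm.pow_left m
        rw [hW, sup_comm, mul_comm]
        exact CfsgLib.Coprime.card_sup_of_le_normalizer (by rw [Subgroup.normalizer_eq_top]; exact le_top)
          (Subgroup.disjoint_of_coprime_natCard hcop.symm)
      let P : Sylow p W := Sylow.ofCard (ZO.subgroupOf W) (by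
        rw [Nat.card_congr (Subgroup.subgroupOfEquivOfLe (le_sup_left : ZO ≤ W)).toEquiv, hcard]
        obtain ⟨m, hm⟩ := hZp.exists_card_eq
        rw [hm, Nat.factorization_mul (pow_pos (Fact.out : p.Prime).pos _).ne' Nat.card_pos.ne',
          Finsupp.add_apply, (Fact.out : p.Prime).factorization_pow, Finsupp.single_eq_same,
          Nat.factorization_eq_zero_of_not_dvd ((Fact.out : p.Prime).coprime_iff_not_dvd.1
            (CfsgLib.Solvable.Cores.coprime_card_pPrimeCore p).symm), add_zero])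
      have hF := Sylow.normalizer_sup_eq_top P
      rw [Sylow.coe_ofCard, Subgroup.subgroupOf_map_subtype, inf_eq_left.2 (le_sup_left : ZO ≤ W)] at hF
      have htop : L ⊔ Subgroup.normalizer (ZO : Set O) = ⊤ := top_unique (hF ▸ sup_le le_sup_right
        (sup_le (Subgroup.le_normalizer.trans le_sup_right) le_sup_left))
      obtain ⟨l, hl, n, hn, e⟩ := Subgroup.mem_sup_of_normal_left.1 (htop.ge (Subgroup.mem_top y))
      exact ⟨l, hl, n, hn, e.symm⟩
    have hnZ : ∀ n : O, n ∈ Subgroup.normalizer (ZO : Set O) → (n : G) ∈ Subgroup.normalizer (Z : Set G) := by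
      intro n hn
      refine mem_normalizer_of_maps fun x hx => ?_
      rw [← hZmap] at hx ⊢
      obtain ⟨w, hw, rfl⟩ := hx
      exact ⟨_, (Subgroup.mem_normalizer_iff.1 hn w).1 hw, rfl⟩
    have hzA1 : z ∈ A ∧ z ≠ 1 := ⟨hz₁A, hz1⟩
    by_cases hYb : Y = ⊥
    · refine ⟨Z, fun e => hz1 (Subgroup.mem_bot.1 (e ▸ hz₁A.1)),
        (odd_card_of_isPGroup hp hR.pg).of_dvd_nat (Subgroup.card_dvd_of_le hZR), hRZ, fun y hy => ?_⟩
      obtain ⟨l, hl, n, hn, e⟩ := hfac ⟨y, hy⟩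
      have hl1 : (l : G) = 1 := by
        have := Subgroup.mem_iSup_of_mem (S := fun a : {a : G // a ∈ A ∧ a ≠ 1} => θ a) ⟨z, hzA1⟩
          (hLθ ⟨l, hl, rfl⟩)
        rw [← hY, hYb, Subgroup.mem_bot] at this
        exact this
      have ey : y = (l : G) * n := congrArg Subtype.val e
      rw [ey, hl1, one_mul]
      exact hnZ n hn
    · refine ⟨Y, hYb, hYodd, fun g hg => hAY g (hZA (hRZ hg)), fun y hy => ?_⟩
      obtain ⟨l, hl, n, hn, e⟩ := hfac ⟨y, hy⟩
      have ey : y = (l : G) * n := congrArg Subtype.val e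
      rw [ey]
      exact mul_mem (Subgroup.le_normalizer (Subgroup.mem_iSup_of_mem
        (S := fun a : {a : G // a ∈ A ∧ a ≠ 1} => θ a) ⟨z, hzA1⟩ (hLθ ⟨l, hl, rfl⟩)))
        (hAY _ (hZA (hnZ n hn)))
  set K := Subgroup.normalizer (X : Set G) with hKdef
  have hTK : T ≤ K := hTR.trans hRX
  have hKtop : K ≠ ⊤ := by
    intro e
    haveI : X.Normal := Subgroup.normalizer_eq_top_iff.1 e
    exact hX1 (le_bot_iff.1 (hO ▸ CfsgLib.Involution.ZStar.le_oddCore inferInstance hXodd))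
  have hJK : ∀ x : G, Odd (orderOf x) → x * j = j * x → x ∈ K := fun x hx hxj =>
    hOX (mem_oddC hx (h.odd_comm hc.hj hx (PEl.odd hp (pEl_of_mem hR.pg hzR)) hxj hzj))
  have hBK : ∀ b ∈ B, b ∈ K := by
    intro b hb
    obtain ⟨a, e, hk, he, hae⟩ := split b
    rw [← hae]
    exact mul_mem (hTK (Or.inl ⟨pow_mem hb a, hk⟩)) (hJK _ he (hc.mem_comm (pow_mem hb e)))
  have hCK : ∀ g : G, g * j = j * g → g ∈ K := by
    intro g hg
    rcases hc.hH g hg with hgB | hgB
    · exact hBK g hgB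
    · have := mul_mem (hBK _ hgB) (inv_mem (hTK hsT))
      rwa [mul_inv_cancel_right] at this
  have hP2K : (P2 : Subgroup G) ≤ K := hP2 ▸ hTK
  have hKj : ∀ u ∈ K, orderOf u = 2 → ∃ c ∈ K, c * u * c⁻¹ = j := by
    intro u hu hu2
    have hup : IsPGroup 2 (Subgroup.zpowers (⟨u, hu⟩ : K)) := IsPGroup.of_card (n := 1) (by
      rw [Nat.card_zpowers, ← Subgroup.orderOf_coe, pow_one]; exact hu2)
    obtain ⟨Q, hQ⟩ := hup.exists_le_sylow
    obtain ⟨c, hcQ⟩ := MulAction.exists_smul_eq K Q (P2.subtype hP2K)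
    have hmem : (c * ⟨u, hu⟩ * c⁻¹ : K) ∈ ((P2.subtype hP2K : Sylow 2 K) : Subgroup K) := by
      rw [← hcQ]
      exact ⟨⟨u, hu⟩, hQ (Subgroup.mem_zpowers _), rfl⟩
    have hmem' : (c : G) * u * (c : G)⁻¹ ∈ T := (le_of_eq hP2) hmem
    obtain ⟨g, hg, hgj⟩ := hfus _ hmem' (by rw [CfsgLib.Involution.Dihedral.orderOf_conj, hu2])
    refine ⟨g * c, mul_mem (hRX hg) c.2, ?_⟩
    rw [← hgj]; group
  have hE : Emb K := by
    refine ⟨hKtop, fun u hu hu2 g hg => ?_, fun u hu u' hu' hu2 hu'2 => ?_⟩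
    · obtain ⟨c, hcK, e⟩ := hKj u hu hu2
      have h2 := hCK (c * g * c⁻¹) (by rw [← e, conj_mul, conj_mul, hg])
      have := mul_mem (mul_mem (inv_mem hcK) h2) hcK
      rwa [show c⁻¹ * (c * g * c⁻¹) * c = g by group] at this
    · obtain ⟨c, hcK, e⟩ := hKj u hu hu2
      obtain ⟨c', hc'K, e'⟩ := hKj u' hu' hu'2
      refine ⟨c'⁻¹ * c, mul_mem (inv_mem hc'K) hcK, ?_⟩
      rw [show c'⁻¹ * c * u * (c'⁻¹ * c)⁻¹ = c'⁻¹ * (c * u * c⁻¹) * c' by group, e, ← e']
      group
  -- the shape of `T`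
  haveI hBtc : IsCyclic hc.Bt := CfsgLib.Recognition.AbelianCentraliser.isCyclic_of_one_involution
    (hc.T2_isPGroup.to_le hc.Bt_le_T2) (fun a b => Subtype.ext (hc.comm _ a.2.1 _ b.2.1))
    fun a b ha hb => Subtype.ext ((h1 a a.2.1 (by rw [Subgroup.orderOf_coe, ha])).trans
      (h1 b b.2.1 (by rw [Subgroup.orderOf_coe, hb])).symm)
  obtain ⟨σ, hσ⟩ := hBtc.exists_generator
  obtain ⟨m, hm⟩ := (hc.T2_isPGroup.to_le hc.Bt_le_T2).exists_card_eq
  obtain ⟨m', rfl⟩ : ∃ m', m = m' + 1 := Nat.exists_eq_add_one.2 (Nat.pos_of_ne_zero fun h0 => by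
    rw [h0, pow_zero] at hm
    haveI := (Nat.card_eq_one_iff_unique.1 hm).1
    exact ne_one hc.hj (congrArg Subtype.val (Subsingleton.elim (⟨j, hc.j_mem_Bt⟩ : hc.Bt) 1)))
  have hgen : CfsgLib.Involution.DihedralSylow.Gen (P2 : Subgroup G) (σ : G) s m' := by
    rw [hP2]
    refine ⟨hc.Bt_le_T2 σ.2, hsT, by
      rw [Subgroup.orderOf_coe, orderOf_eq_card_of_forall_mem_zpowers hσ, hm], mul_self hc.hs,
      fun hs' => hc.hsB ((Subgroup.zpowers_le.2 σ.2 hs').1), hc.hinv _ σ.2.1, fun x hx => ?_⟩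
    rcases hx with hx | hx
    · obtain ⟨i, hi⟩ := Subgroup.mem_zpowers_iff.1 (hσ ⟨x, hx⟩)
      exact Or.inl ⟨i, by rw [← SubgroupClass.coe_zpow, hi]⟩
    · obtain ⟨i, hi⟩ := Subgroup.mem_zpowers_iff.1 (hσ ⟨x * s, hx⟩)
      exact Or.inr ⟨i, by rw [← SubgroupClass.coe_zpow, hi, mul_assoc, mul_self hc.hs, mul_one]⟩
  by_cases hm0 : 1 ≤ m'
  · exact hE.not_dihedral P2 hP2K hgen hm0
  · have hm' : m' = 0 := by omega
    subst hm'
    have hexp : ∀ x ∈ T, x * x = 1 := by
      intro x hx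
      by_cases hxB : x ∈ B
      · have e : (⟨x, hc.Bt_of_mem_T2 hx hxB⟩ : hc.Bt) ^ Nat.card hc.Bt = 1 := pow_card_eq_one'
        rw [hm, zero_add, pow_one, pow_two] at e
        exact congrArg Subtype.val e
      · exact hc.out_sq (hc.T2_comm_j hx) hxB
    have hcard : Nat.card (P2 : Subgroup G) = 4 := by
      have hTV : T = f.grp := by
        refine le_antisymm (fun x hx => f.mem_grp.2 ?_) hVT
        have hinner : ∀ y ∈ hc.Bt, y = 1 ∨ y = j := fun y hy => by
          by_cases hy1 : y = 1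
          · exact Or.inl hy1
          · exact Or.inr (h1 y hy.1 (orderOf_eq_two (hexp y (hc.Bt_le_T2 hy)) hy1))
        rcases hx with hx | hx
        · rcases hinner x hx with e | e
          · exact Or.inl e
          · exact Or.inr (Or.inl e)
        · have e0 : x = x * s * s := by rw [mul_assoc, mul_self hc.hs, mul_one]
          rcases hinner _ hx with e | e <;> rw [e] at e0
          · exact Or.inr (Or.inr (Or.inl (by rw [e0, one_mul])))
          · exact Or.inr (Or.inr (Or.inr e0))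
      rw [hP2, hTV, f.grp_card]
    obtain ⟨h120, -⟩ := hE.four_embed hO P2 hP2K hcard
      (fun x => Subtype.ext (hexp x ((le_of_eq hP2) x.2))) ((le_of_eq hP2.symm) hjT) hc.hj
    have h3 : p ^ 3 ∣ 120 := hA3.trans ((Subgroup.card_subgroup_dvd_card A).trans h120)
    have hp5 : p ≤ 4 := by
      by_contra hlt
      have : 5 ^ 3 ≤ p ^ 3 := Nat.pow_le_pow_left (by omega) 3
      have := Nat.le_of_dvd (by norm_num) h3
      omega
    obtain ⟨q, hq⟩ := hp
    have : p = 3 := by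
      have := (Fact.out : p.Prime).two_le
      omega
    subst this
    norm_num at h3

/-- **One class of involutions.** -/
theorem ti_of_hyp (h : Hyp G) (hO : Cfsg.oddCore G = ⊥) {j s : G} {B : Subgroup G} (hc : Cfg j B s)
    (h1 : One j B) : TI j := by
  refine ti_of_odd hc h1 fun y hy hy1 hyj x hx hxy => ?_
  have f : Fr j s := ⟨hc.hj, hc.hs, hc.s_comm.symm, fun e => hc.hsB (e ▸ hc.hjB)⟩
  have hXn : Nrm j s (oddC y) :=
    ⟨fun w hw => oddC_conj (h.fix_or_invert hc.hj rfl hy hyj) hw,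
      fun w hw => oddC_conj (h.fix_or_invert hc.hj hc.s_comm hy hyj) hw⟩
  have hXo := oddC_odd h hy hy1
  have hle : oddC y ≤ Subgroup.centralizer ({j} : Set G) := by
    refine f.nrm_le hXn hXo fun l hl w hw hwl => ?_
    by_cases hlj : l = j
    · subst hlj; exact mem_C.2 hwl
    by_cases hw1 : w = 1
    · rw [hw1]; exact one_mem _
    exfalso
    obtain ⟨q, hq, hqd⟩ := Nat.exists_prime_and_dvd (mt orderOf_eq_one_iff.1 hw1)
    haveI := Fact.mk hq
    have hwo : Odd (orderOf w) := odd_orderOf_mem hXo hw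
    have hqodd : Odd q := hwo.of_dvd_nat hqd
    set w' := w ^ (orderOf w / q) with hw'
    have hw'q : orderOf w' = q := orderOf_pow_orderOf_div (orderOf_pos w).ne' hqd
    have hw'p : PEl q w' := ⟨1, by rw [pow_one, ← hw'q, pow_orderOf_eq_one]⟩
    have hw'1 : w' ≠ 1 := fun e => by
      rw [e, orderOf_one] at hw'q
      exact hq.one_lt.ne hw'q
    have hw'l : w' * l = l * w' := ((show Commute w l from hwl).pow_left _).eq
    obtain ⟨g, hg, hgl⟩ := f.transitive h hl (Or.inl rfl : Lab j s j)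
    set e := g * w' * g⁻¹ with he
    have hep : PEl q e := hw'p.conj g
    have hej : e * j = j * e := by rw [← hgl, he, conj_mul, conj_mul, hw'l]
    have heX : e ∈ oddC y := mem_oddC (PEl.odd hqodd hep) (h.odd_comm hc.hj (PEl.odd hqodd hep) hy hej hyj)
    have hl2 := f.lab hl
    have i1 := f.zpowers_IP hw'p (h.fix_or_invert hl2.1 hl2.2.1.symm (PEl.odd hqodd hw'p) hw'l)
      (h.fix_or_invert hl2.1 hl2.2.2.symm (PEl.odd hqodd hw'p) hw'l)
    have i2 := f.zpowers_IP hep (h.fix_or_invert hc.hj rfl (PEl.odd hqodd hep) hej)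
      (h.fix_or_invert hc.hj hc.s_comm (PEl.odd hqodd hep) hej)
    obtain ⟨R0, hR0, hR0n, -, hwR, heR, -⟩ := f.join h hXn hXo i1.pg i1.nrm
      (Subgroup.zpowers_le.2 (pow_mem hw _)) i2.pg i2.nrm (Subgroup.zpowers_le.2 heX)
    obtain ⟨R, hR⟩ := f.dichotomy h hqodd ⟨hR0, hR0n⟩ hl (Or.inl rfl : Lab j s j) hlj
      (hwR (Subgroup.mem_zpowers w')) hw'1 hw'l (heR (Subgroup.mem_zpowers e)) (conj_ne_one hw'1) hej
    exact no_full h hO hc h1 hqodd hR fun e0 =>
      hw'1 (Subgroup.mem_bot.1 (e0 ▸ hR.all l hl w' hw'l hw'p))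
  exact mem_C.1 (hle (mem_oddC hx hxy))

end CfsgLib.Characterizations.DGroup
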