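import Cfsg.Agent.Lib.Characterizations.DGroup.Odd
import Cfsg.Agent.Lib.Involution.ZStar.Basic

/-!
# The subgroup generated by the odd elements and Sylow 2-subgroups
-/

set_option autoImplicit false

namespace CfsgLib.Characterizations.DGroup

open CfsgLib.Involution.Dihedral

universe u

variable {G : Type u} [Group G] [Finite G]

theorem mem_oddGen {x : G} (hx : Odd (orderOf x)) : x ∈ oddGen G := Subgroup.subset_closure hx

theorem pow_two_mem_oddGen (g : G) : ∃ k : ℕ, g ^ 2 ^ k ∈ oddGen G := by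
  obtain ⟨a, b, ⟨k, hk⟩, hb, hab⟩ := split g
  refine ⟨k, ?_⟩
  rw [← hab, ((Commute.refl g).pow_pow a b).mul_pow, hk, one_mul]
  exact pow_mem (mem_oddGen hb) _

/-- A Sylow 2-subgroup meets every coset of a normal subgroup of 2-power index. -/
theorem exists_sylow_mul (P : Sylow 2 G) (N : Subgroup G) [N.Normal]
    (hN : ∀ g : G, ∃ k : ℕ, g ^ 2 ^ k ∈ N) (g : G) : ∃ x ∈ (P : Subgroup G), x⁻¹ * g ∈ N := by
  haveI : Fact (Nat.Prime 2) := ⟨Nat.prime_two⟩
  have hp : IsPGroup 2 (G ⧸ N) := by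
    intro q
    obtain ⟨x, rfl⟩ := QuotientGroup.mk'_surjective N q
    obtain ⟨k, hk⟩ := hN x
    exact ⟨k, by rw [← map_pow]; exact (QuotientGroup.eq_one_iff _).2 hk⟩
  set P' := P.mapSurjective (QuotientGroup.mk'_surjective N) with hP'
  have h1 : (P' : Subgroup (G ⧸ N)) = ⊤ :=
    (P'.3 (hp.to_subgroup ⊤) le_top).symm
  obtain ⟨x, hx, e⟩ : QuotientGroup.mk' N g ∈ (P : Subgroup G).map (QuotientGroup.mk' N) := by
    rw [← Sylow.coe_mapSurjective (QuotientGroup.mk'_surjective N), ← hP', h1]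
    exact Subgroup.mem_top _
  exact ⟨x, hx, QuotientGroup.eq.1 e⟩

/-- The intersection of a Sylow 2-subgroup with a normal subgroup is a Sylow subgroup of it. -/
theorem sylow_inf (P : Sylow 2 G) (N : Subgroup G) [N.Normal] :
    ∃ Q : Sylow 2 N, ∀ x : N, x ∈ (Q : Subgroup N) ↔ (x : G) ∈ (P : Subgroup G) := by
  haveI : Fact (Nat.Prime 2) := ⟨Nat.prime_two⟩
  have hp : IsPGroup 2 ((P : Subgroup G).subgroupOf N) := P.2.comap_subtype
  obtain ⟨Q, hle⟩ := hp.exists_le_sylow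
  refine ⟨Q, fun x => ⟨fun hx => ?_, fun hx => hle hx⟩⟩
  have hc := CfsgLib.Coprime.card_sylow_inf_normal P N
  have h1 : Nat.card ((P : Subgroup G).subgroupOf N) = 2 ^ (Nat.card N).factorization 2 := by
    rw [← hc, ← Subgroup.subgroupOf_map_subtype, CfsgLib.Coprime.card_map_subtype]
  have h2 : (P : Subgroup G).subgroupOf N = (Q : Subgroup N) :=
    Subgroup.eq_of_le_of_card_ge hle (by rw [h1, Q.card_eq_multiplicity])
  exact (h2.ge hx : x ∈ (P : Subgroup G).subgroupOf N)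

theorem exists_conj_mem_sylow (P : Sylow 2 G) {x : G} (hx : TwoEl x) :
    ∃ g : G, g * x * g⁻¹ ∈ (P : Subgroup G) := by
  haveI : Fact (Nat.Prime 2) := ⟨Nat.prime_two⟩
  have hp : IsPGroup 2 (Subgroup.zpowers x) := isPGroup_zpowers hx
  obtain ⟨Q, hQ⟩ := hp.exists_le_sylow
  obtain ⟨g, hg⟩ := MulAction.exists_smul_eq G Q P
  exact ⟨g, by rw [← hg]; exact ⟨x, hQ (Subgroup.mem_zpowers x), rfl⟩⟩

theorem twoEl_of_order {x : G} (hx : orderOf x = 2) : TwoEl x := twoEl_of_sq (mul_self hx)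

theorem oddCore_subgroup_bot (hO : Cfsg.oddCore G = ⊥) (K : Subgroup G) [K.Normal] :
    Cfsg.oddCore K = ⊥ := by
  haveI : (Cfsg.oddCore K).Characteristic := inferInstanceAs (Cfsg.pPrimeCore 2 K).Characteristic
  have h1 : Odd (Nat.card ((Cfsg.oddCore K).map K.subtype)) := by
    rw [CfsgLib.Coprime.card_map_subtype]
    exact CfsgLib.Involution.ZStar.odd_card_oddCore
  have h2 := (CfsgLib.Involution.ZStar.le_oddCore (G := G) inferInstance h1).trans hO.le
  rwa [le_bot_iff, Subgroup.map_eq_bot_iff_of_injective _ K.subtype_injective] at h2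

theorem not_isCyclic_sylow (hns : ¬ Group.IsSolvable G) (Q : Sylow 2 G) : ¬ IsCyclic Q := by
  haveI : Fact (Nat.Prime 2) := ⟨Nat.prime_two⟩
  have hFT : CfsgLib.FTApps.OddSolvable.{u} := CfsgLib.OddOrder.Final.oddSolvable
  intro hc
  have h2 : 2 ∣ Nat.card G := by
    by_contra h2
    exact hns (hFT _ (Nat.odd_iff.2 (by omega)))
  exact hns (CfsgLib.FTApps.solvable_of_npc hFT (CfsgLib.Fusion.Abelian.npc_of_normalizer_le_centralizer Q
    (hc.normalizer_le_centralizer ((Nat.minFac_eq_two_iff _).2 h2))))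

/-- A subgroup in which only `1` and `j` commute with `j` has a complement of odd order to `⟨j⟩`. -/
theorem exists_odd_half {D : Subgroup G} {j : G} (hjD : j ∈ D) (hj : orderOf j = 2)
    (hsmall : ∀ x ∈ D, x * j = j * x → TwoEl x → x = 1 ∨ x = j) :
    ∃ N : Subgroup G, N ≤ D ∧ Odd (Nat.card N) ∧ (∀ x ∈ D, x ∈ N ∨ x * j ∈ N) ∧
      ∀ x ∈ D, Odd (orderOf x) → x ∈ N := by
  haveI : Fact (Nat.Prime 2) := ⟨Nat.prime_two⟩
  set j' : D := ⟨j, hjD⟩ with hj'
  have hj'2 : orderOf j' = 2 := by rw [← Subgroup.orderOf_coe]; exact hj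
  obtain ⟨Q, hQ⟩ := (isPGroup_zpowers (twoEl_of_order hj'2)).exists_le_sylow
  have hjQ : j' ∈ (Q : Subgroup D) := hQ (Subgroup.mem_zpowers j')
  have hkey : ∀ x : D, x ∈ (Q : Subgroup D) → x * j' = j' * x → x = 1 ∨ x = j' := by
    intro x hx hxj
    obtain ⟨k, hk⟩ := twoEl_of_mem Q.2 hx
    rcases hsmall x x.2 (congrArg Subtype.val hxj)
      ⟨k, by rw [← SubmonoidClass.coe_pow, hk]; rfl⟩ with e | e
    · exact Or.inl (Subtype.ext e)
    · exact Or.inr (Subtype.ext e)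
  have hQj : ∀ x ∈ (Q : Subgroup D), x = 1 ∨ x = j' := by
    intro x hx
    refine hkey x hx ?_
    haveI : Nontrivial (Q : Subgroup D) :=
      (Subgroup.nontrivial_iff_exists_ne_one _).2 ⟨j', hjQ, ne_one hj'2⟩
    haveI := Q.2.center_nontrivial
    obtain ⟨z, hz⟩ := exists_ne (1 : Subgroup.center (Q : Subgroup D))
    have hzc : ∀ w : (Q : Subgroup D), (w : D) * ((z : (Q : Subgroup D)) : D) = (z : (Q : Subgroup D)) * w :=
      fun w => congrArg Subtype.val (Subgroup.mem_center_iff.1 z.2 w)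
    rcases hkey _ (z : (Q : Subgroup D)).2 (hzc ⟨j', hjQ⟩).symm with e | e
    · exact absurd (Subtype.ext (Subtype.ext e)) hz
    · have := hzc ⟨x, hx⟩
      rwa [e] at this
  have hQeq : (Q : Subgroup D) = Subgroup.zpowers j' := le_antisymm (fun x hx => by
    rcases hQj x hx with e | e <;> rw [e]
    · exact one_mem _
    · exact Subgroup.mem_zpowers _) hQ
  have hcard : Nat.card (Q : Subgroup D) = 2 := by rw [hQeq, Nat.card_zpowers, hj'2]
  have hcyc : IsCyclic (Q : Subgroup D) := isCyclic_of_prime_card (p := 2) hcard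
  have h2 : 2 ∣ Nat.card D := hj'2 ▸ orderOf_dvd_natCard j'
  obtain ⟨Q', N, hN, hc⟩ := CfsgLib.Fusion.Abelian.npc_of_normalizer_le_centralizer Q
    (hcyc.normalizer_le_centralizer ((Nat.minFac_eq_two_iff _).2 h2))
  have hQ'c : Nat.card Q' = 2 := (Q'.card_eq_multiplicity).trans (Q.card_eq_multiplicity.symm.trans hcard)
  have hidx : N.index = 2 := hc.symm.index_eq_card.trans hQ'c
  have hNodd : Odd (Nat.card N) := by
    rw [← hc.index_eq_card, Nat.odd_iff]
    have := Q'.not_dvd_index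
    omega
  have hjN : j' ∉ N := fun hm => by
    have := odd_orderOf_mem hNodd hm
    rw [hj'2] at this
    exact absurd this (by decide)
  refine ⟨N.map D.subtype, Subgroup.map_subtype_le _, by rwa [CfsgLib.Coprime.card_map_subtype],
    fun x hx => ?_, fun x hx hxo => ?_⟩
  · by_cases hxN : (⟨x, hx⟩ : D) ∈ N
    · exact Or.inl ⟨_, hxN, rfl⟩
    · exact Or.inr ⟨_, (Subgroup.mul_mem_iff_of_index_two hidx).2 (iff_of_false hxN hjN), rfl⟩
  · obtain ⟨k, hk⟩ := hxo
    have e : ((⟨x, hx⟩ : D) * ⟨x, hx⟩) ^ (k + 1) = ⟨x, hx⟩ := Subtype.ext (by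
      show (x * x) ^ (k + 1) = x
      rw [← pow_two, ← pow_mul, show 2 * (k + 1) = orderOf x + 1 by omega, pow_succ, pow_orderOf_eq_one,
        one_mul])
    exact ⟨_, e ▸ pow_mem (Subgroup.mul_self_mem_of_index_two hidx _) _, rfl⟩

theorem card_eq_two_mul {H K : Subgroup G} (hle : H ≤ K) {a : G} (ha : a ∈ K) (haH : a ∉ H)
    (hall : ∀ x ∈ K, x ∈ H ∨ x * a ∈ H) : Nat.card K = 2 * Nat.card H := by
  have hi : (H.subgroupOf K).index = 2 := Subgroup.index_eq_two_iff.2 ⟨⟨a, ha⟩, fun b => by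
    show Xor ((b : G) * a ∈ H) ((b : G) ∈ H)
    by_cases hb : (b : G) ∈ H
    · exact Or.inr ⟨hb, fun hc => haH ((H.mul_mem_cancel_left hb).1 hc)⟩
    · exact Or.inl ⟨(hall b b.2).resolve_left hb, hb⟩⟩
  rw [← Subgroup.card_mul_index (H.subgroupOf K), hi,
    Nat.card_congr (Subgroup.subgroupOfEquivOfLe hle).toEquiv, mul_comm]

omit [Finite G] in
/-- Two involutions whose product has a given power centralize it. -/
theorem pair_comm {u v x : G} (hu : orderOf u = 2) (hv : orderOf v = 2) (hx : orderOf x = 2) {m : ℕ}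
    (hm : (u * v) ^ m = x) : u * x = x * u ∧ v * x = x * v := by
  have h1 : u * (u * v) * u⁻¹ = (u * v)⁻¹ := by
    rw [mul_inv_rev, inv_eq hu, inv_eq hv, ← mul_assoc u u, mul_self hu, one_mul]
  have h2 : v * (u * v) * v⁻¹ = (u * v)⁻¹ := by
    rw [mul_inv_rev, inv_eq hu, inv_eq hv, ← mul_assoc v u v, mul_assoc (v * u) v, mul_self hv, mul_one]
  constructor
  · rw [← conj_eq_iff, ← hm, ← _root_.conj_pow, h1, inv_pow, hm, inv_eq hx]
  · rw [← conj_eq_iff, ← hm, ← _root_.conj_pow, h2, inv_pow, hm, inv_eq hx]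

namespace Cfg

variable {j s : G} {B : Subgroup G} (h : Cfg j B s)
include h

theorem isCyclic_Bt (h1 : One j B) : IsCyclic h.Bt := by
  refine CfsgLib.Recognition.AbelianCentraliser.isCyclic_of_one_involution
    (h.T2_isPGroup.to_le h.Bt_le_T2) (fun a b => Subtype.ext (h.comm _ a.2.1 _ b.2.1))
    fun a b ha hb => Subtype.ext ((h1 a a.2.1 (by rw [Subgroup.orderOf_coe, ha])).trans
      (h1 b b.2.1 (by rw [Subgroup.orderOf_coe, hb])).symm)

/-- `B` is the square subgroup and one further coset. -/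
theorem exists_sigma (h1 : One j B) :
    ∃ σ ∈ h.Bt, ∀ b ∈ B, ∃ c ∈ B, b = c * c ∨ b = c * c * σ := by
  obtain ⟨σ, hσ⟩ := (h.isCyclic_Bt h1).exists_generator
  refine ⟨σ, σ.2, fun b hb => ?_⟩
  obtain ⟨a, e, hk, he, hae⟩ := split b
  obtain ⟨i, hi⟩ := Subgroup.mem_zpowers_iff.1 (hσ ⟨b ^ a, pow_mem hb a, hk⟩)
  have hi' : (σ : G) ^ i = b ^ a := by rw [← SubgroupClass.coe_zpow, hi]
  obtain ⟨l, hl⟩ := he
  set d := (b ^ e) ^ (l + 1) with hd
  have hdd : d * d = b ^ e := by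
    rw [hd, ← pow_add, show l + 1 + (l + 1) = orderOf (b ^ e) + 1 by omega, pow_succ, pow_orderOf_eq_one,
      one_mul]
  have hdB : d ∈ B := pow_mem (pow_mem hb e) _
  rcases Int.even_or_odd i with ⟨m, rfl⟩ | ⟨m, rfl⟩
  · have hm : (σ : G) ^ m ∈ B := Subgroup.zpow_mem _ σ.2.1 m
    refine ⟨(σ : G) ^ m * d, mul_mem hm hdB, Or.inl ?_⟩
    rw [Commute.mul_mul_mul_comm (h.comm d hdB _ hm), hdd, ← zpow_add, hi', hae]
  · have hm : (σ : G) ^ m ∈ B := Subgroup.zpow_mem _ σ.2.1 m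
    refine ⟨(σ : G) ^ m * d, mul_mem hm hdB, Or.inr ?_⟩
    rw [Commute.mul_mul_mul_comm (h.comm d hdB _ hm), hdd, ← zpow_add]
    conv_lhs => rw [← hae, ← hi']
    rw [mul_assoc _ (b ^ e), h.comm (b ^ e) (pow_mem hb e) _ σ.2.1, ← mul_assoc, ← zpow_add_one,
      show m + m + 1 = 2 * m + 1 by ring]

theorem card_C : Nat.card (Subgroup.centralizer ({j} : Set G)) = 2 * Nat.card B :=
  card_eq_two_mul h.B_le (mem_C.2 h.s_comm) h.hsB fun g hg => h.hH g (mem_C.1 hg)

end Cfg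

end CfsgLib.Characterizations.DGroup
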