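import Cfsg.Agent.Lib.Involution.OrderFormula
import Cfsg.Agent.Lib.Characterizations.BSWStructure
import Cfsg.Agent.Lib.Recognition.Zassenhaus.OneTwenty
import Cfsg.Agent.Lib.Characterizations.DGroup.TwoClassBasic
import Cfsg.Agent.Lib.Characterizations.DGroup.Full

/-!
# A Sylow 2-subgroup inside the centralizer of an involution: the `TI` property for every involution
-/

set_option autoImplicit false

namespace CfsgLib.Characterizations.DGroup

open CfsgLib.Involution.Dihedral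
open CfsgLib.Involution.OrderFormula (Pairs)

universe u

variable {G : Type u} [Group G] [Finite G]

set_option maxHeartbeats 1600000 in
/-- An involution outside the subgroup generated by the odd elements also has the `TI` property. -/
theorem second_class (hns : ¬ Group.IsSolvable G) {j s : G} {B : Subgroup G} (h : Cfg j B s) (h1 : One j B)
    (hTI : TI j) (hjM : j ∈ oddGen G) (hsM : s ∈ oddGen G)
    (hMc : ∀ x ∈ oddGen G, orderOf x = 2 → ∃ c ∈ oddGen G, c * j * c⁻¹ = x)
    (P : Sylow 2 G) (hP : (P : Subgroup G) = h.T2) {t : G} (ht : t ∈ h.T2) (ht2 : orderOf t = 2)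
    (htM : t ∉ oddGen G) :
    ∃ B' : Subgroup G, Cfg t B' j ∧ One t B' ∧ TI t ∧ ∃ y : G, Odd (orderOf y) ∧ y ≠ 1 ∧ y * t = t * y := by
  classical
  haveI hMn : (oddGen G).Normal := oddGen_normal
  set M := oddGen G with hM
  have htj : t * j = j * t := h.T2_comm_j ht
  have htB : t ∉ B := fun hc => htM (h1 t hc ht2 ▸ hjM)
  have htt : t * t = 1 := mul_self ht2
  -- `M` has index two, and meets `B` in the squares
  have hsqM : ∀ c ∈ B, c * c ∈ M := by
    intro c hc
    have e : c * c = c * s * c⁻¹ * s⁻¹ := by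
      rw [show c * s * c⁻¹ * s⁻¹ = c * (s * c⁻¹ * s⁻¹) by group, h.hinv _ (inv_mem hc), inv_inv]
    rw [e]; exact mul_mem (hMn.conj_mem _ hsM c) (inv_mem hsM)
  obtain ⟨σ, hσ, hB⟩ := h.exists_sigma h1
  obtain ⟨c0, hc0, e0⟩ : ∃ c ∈ B, t * s = c * c * σ := by
    obtain ⟨c, hc, e | e⟩ := hB _ (h.out_mul htj h.s_comm htB h.hsB)
    · exfalso
      have := mul_mem (e ▸ hsqM c hc : t * s ∈ M) hsM
      rw [mul_assoc, mul_self h.hs, mul_one] at this
      exact htM this
    · exact ⟨c, hc, e⟩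
  have hσM : σ ∉ M := fun hc => by
    have := mul_mem (e0 ▸ mul_mem (hsqM c0 hc0) hc : t * s ∈ M) hsM
    rw [mul_assoc, mul_self h.hs, mul_one] at this
    exact htM this
  have hdT : ∀ x ∈ h.T2, x ∈ M ∨ x * t ∈ M := by
    intro x hx
    by_cases hxB : x ∈ B
    · obtain ⟨c, hc, rfl | rfl⟩ := hB x hxB
      · exact Or.inl (hsqM c hc)
      · refine Or.inr ?_
        have e : c * c * σ * t = c * c * (c0 * c0) * (σ * σ) * s := by
          calc c * c * σ * t = c * c * σ * (t * s) * s := by rw [mul_assoc _ (t * s), mul_assoc t, mul_self h.hs, mul_one]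
            _ = c * c * (σ * (c0 * c0)) * σ * s := by rw [e0]; group
            _ = _ := by rw [h.comm σ hσ.1 _ (mul_mem hc0 hc0)]; group
        rw [e]; exact mul_mem (mul_mem (mul_mem (hsqM c hc) (hsqM c0 hc0)) (hsqM σ hσ.1)) hsM
    · have hxs : x * s ∈ B := (h.hH x (h.T2_comm_j hx)).resolve_left hxB
      obtain ⟨c, hc, e | e⟩ := hB _ hxs
      · refine Or.inl ?_
        have := mul_mem (e ▸ hsqM c hc : x * s ∈ M) hsM
        rwa [mul_assoc, mul_self h.hs, mul_one] at this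
      · refine Or.inr ?_
        have e' : x * t = x * s * (t * s)⁻¹ := by rw [mul_inv_rev, inv_eq h.hs, inv_eq ht2, mul_assoc x s, ← mul_assoc s s, mul_self h.hs, one_mul]
        rw [e', e, e0, mul_inv_rev, mul_assoc (c * c), ← mul_assoc σ, mul_inv_cancel, one_mul]
        exact mul_mem (hsqM c hc) (inv_mem (hsqM c0 hc0))
  have hdich : ∀ g : G, g ∈ M ∨ g * t ∈ M := by
    intro g
    obtain ⟨x, hx, hxg⟩ := exists_sylow_mul P M pow_two_mem_oddGen g
    rcases hdT x (hP ▸ hx) with e | e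
    · exact Or.inl (by simpa using mul_mem e hxg)
    · refine Or.inr ?_
      rw [show g * t = x * t * (t⁻¹ * (x⁻¹ * g) * t⁻¹⁻¹) by group]
      exact mul_mem e (hMn.conj_mem _ hxg _)
  have hidx : M.index = 2 := Subgroup.index_eq_two_iff.2 ⟨t, fun b => by
    show Xor (b * t ∈ M) (b ∈ M)
    by_cases hb : b ∈ M
    · exact Or.inr ⟨hb, fun hc => htM ((M.mul_mem_cancel_left hb).1 hc)⟩
    · exact Or.inl ⟨(hdich b).resolve_left hb, hb⟩⟩
  have hBM : ∀ b ∈ B, b ∈ M → ∃ c ∈ B, b = c * c := by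
    intro b hb hbM
    obtain ⟨c, hc, e | e⟩ := hB b hb
    · exact ⟨c, hc, e⟩
    · exact absurd ((M.mul_mem_cancel_left (hsqM c hc)).1 (e ▸ hbM)) hσM
  -- the classes of involutions
  have hclass : ∀ v : G, orderOf v = 2 → v * j = j * v → v ∉ M → IsConj t v := by
    intro v hv hvj hvM
    have hvB : v ∉ B := fun hc => hvM (h1 v hc hv ▸ hjM)
    obtain ⟨c, hc, e⟩ := hBM _ (h.out_mul hvj htj hvB htB)
      ((Subgroup.mul_mem_iff_of_index_two hidx).2 (iff_of_false hvM htM))
    refine isConj_iff.2 ⟨c, ?_⟩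
    calc c * t * c⁻¹ = c * (t * c⁻¹ * t⁻¹) * t := by group
      _ = v := by rw [h.out_inv htj htB (inv_mem hc), inv_inv, ← e, mul_assoc, htt, mul_one]
  have hcl : ∀ v : G, orderOf v = 2 → v ∉ M → IsConj t v := by
    intro v hv hvM
    obtain ⟨g, hg⟩ := exists_conj_mem_sylow P (twoEl_of_order hv)
    rw [hP] at hg
    refine (hclass _ (by rw [CfsgLib.Involution.Dihedral.orderOf_conj, hv]) (h.T2_comm_j hg) fun hc => hvM ?_).trans
      (isConj_iff.2 ⟨g⁻¹, by group⟩)
    have := hMn.conj_mem _ hc g⁻¹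
    rwa [show g⁻¹ * (g * v * g⁻¹) * g⁻¹⁻¹ = v by group] at this
  have hMconj : ∀ v : G, orderOf v = 2 → v ∈ M → IsConj j v := fun v hv hvM => by
    obtain ⟨c, -, e⟩ := hMc v hvM hv
    exact isConj_iff.2 ⟨c, e⟩
  have hjt : ¬ IsConj j t := fun hc => by
    obtain ⟨c, e⟩ := isConj_iff.1 hc
    exact htM (e ▸ hMn.conj_mem _ hjM c)
  -- the centralizer of `t`
  set D := Subgroup.centralizer ({t} : Set G) ⊓ M with hD
  have hDj : ∀ x ∈ D, x * j = j * x → x = 1 ∨ x = j := by
    intro x hx hxj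
    have hxt : x * t = t * x := mem_C.1 hx.1
    have key : ∀ b ∈ B, b * t = t * b → b = 1 ∨ b = j := by
      intro b hb hbt
      by_cases hb1 : b = 1
      · exact Or.inl hb1
      refine Or.inr (h1 b hb (orderOf_eq_two ?_ hb1))
      have e := h.out_inv htj htB hb
      rw [conj_eq_iff.2 hbt.symm] at e
      exact inv_eq_iff_mul_eq_one.1 e.symm
    by_cases hxB : x ∈ B
    · exact key x hxB hxt
    · exfalso
      refine htM ?_
      rcases key _ (h.out_mul hxj htj hxB htB) (by rw [hxt, mul_assoc, hxt]) with e | e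
      · rw [show t = x⁻¹ * (x * t) by group, e]; exact mul_mem (inv_mem hx.2) M.one_mem
      · rw [show t = x⁻¹ * (x * t) by group, e]; exact mul_mem (inv_mem hx.2) hjM
  obtain ⟨N, hND, hNodd, hDN, hoN⟩ := exists_odd_half (D := D) ⟨mem_C.2 htj.symm, hjM⟩ h.hj
    fun x hx hxj _ => hDj x hx hxj
  have hNt : ∀ a ∈ N, a * t = t * a := fun a ha => mem_C.1 (hND ha).1
  have hjN : j ∉ N := fun hc => by
    have := odd_orderOf_mem hNodd hc
    rw [h.hj] at this
    exact absurd this (by decide)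
  obtain ⟨hinvN, -⟩ := CfsgLib.Characterizations.BSW.inverts_of_fpf (A := N) h.hj (fun a ha => by
    refine hoN (j * a * j⁻¹) ⟨mem_C.2 ?_, hMn.conj_mem a (hND ha).2 j⟩ ?_
    · show Commute (j * a * j⁻¹) t
      exact Commute.mul_left (Commute.mul_left htj.symm (hNt a ha)) (Commute.inv_left htj.symm)
    · rw [CfsgLib.Involution.Dihedral.orderOf_conj]; exact odd_orderOf_mem hNodd ha) fun a ha hja =>
    (hDj a (hND ha) hja.symm).resolve_right fun e => hjN (e ▸ ha)
  have hNcomm : ∀ a ∈ N, ∀ b ∈ N, a * b = b * a := by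
    intro a ha b hb
    have h3 := hinvN (a * b) (mul_mem ha hb)
    rw [← conj_mul, hinvN a ha, hinvN b hb, ← mul_inv_rev, inv_inj] at h3
    exact h3.symm
  have hcmt : ∀ x : G, x * t ∈ N → x * t = t * x := by
    intro x hx
    have := hNt _ hx
    rw [← mul_assoc] at this
    exact mul_right_cancel this
  let B' : Subgroup G :=
    { carrier := {x | x ∈ N ∨ x * t ∈ N}
      one_mem' := Or.inl N.one_mem
      mul_mem' := by
        intro a b ha hb
        rcases ha with ha | ha <;> rcases hb with hb | hb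
        · exact Or.inl (mul_mem ha hb)
        · exact Or.inr (by rw [mul_assoc]; exact mul_mem ha hb)
        · exact Or.inr (by rw [mul_assoc, hNt b hb, ← mul_assoc]; exact mul_mem ha hb)
        · refine Or.inl ?_
          have e : a * b = a * t * (b * t) := by
            rw [mul_assoc a t, ← mul_assoc t b t, ← hcmt b hb, mul_assoc b t t, htt, mul_one]
          rw [e]; exact mul_mem ha hb
      inv_mem' := by
        intro a ha
        rcases ha with ha | ha
        · exact Or.inl (inv_mem ha)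
        · refine Or.inr ?_
          have := inv_mem ha
          rwa [hcmt a ha, mul_inv_rev, inv_eq ht2] at this }
  have hB'comm : ∀ x ∈ B', x * t = t * x := by
    rintro x (hx | hx)
    · exact hNt x hx
    · exact hcmt x hx
  have hcomm : ∀ x ∈ B', ∀ y ∈ B', x * y = y * x := by
    have hred : ∀ x ∈ B', ∃ a ∈ N, x = a ∨ x = a * t := by
      rintro x (hx | hx)
      · exact ⟨x, hx, Or.inl rfl⟩
      · exact ⟨x * t, hx, Or.inr (by rw [mul_assoc, htt, mul_one])⟩
    intro x hx y hy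
    obtain ⟨a, ha, ea⟩ := hred x hx
    obtain ⟨b, hb, eb⟩ := hred y hy
    have c1 : Commute a b := hNcomm a ha b hb
    rcases ea with rfl | rfl <;> rcases eb with rfl | rfl
    · exact c1.eq
    · exact (c1.mul_right (hNt _ ha)).eq
    · exact (c1.mul_left (Commute.symm (hNt _ hb))).eq
    · exact ((c1.mul_right (hNt _ ha)).mul_left ((Commute.symm (hNt _ hb)).mul_right (Commute.refl t))).eq
  have hjB' : j ∉ B' := by
    rintro (hc | hc)
    · exact hjN hc
    · exact htM ((M.mul_mem_cancel_left hjM).1 (hND hc).2)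
  have hinv' : ∀ b ∈ B', j * b * j⁻¹ = b⁻¹ := by
    rintro b (hb | hb)
    · exact hinvN b hb
    · have h3 := hinvN _ hb
      rw [← conj_mul, conj_eq_iff.2 htj.symm, mul_inv_rev, inv_eq ht2,
        ← (show Commute b t from hB'comm b (Or.inr hb)).inv_left.eq] at h3
      exact mul_right_cancel h3
  have hH' : ∀ g : G, g * t = t * g → g ∈ B' ∨ g * j ∈ B' := by
    intro g hg
    rcases hdich g with hgM | hgM
    · rcases hDN g ⟨mem_C.2 hg, hgM⟩ with e | e
      · exact Or.inl (Or.inl e)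
      · exact Or.inr (Or.inl e)
    · have hc : g * t * t = t * (g * t) := by rw [hg, mul_assoc, hg]
      rcases hDN (g * t) ⟨mem_C.2 hc, hgM⟩ with e | e
      · exact Or.inl (Or.inr e)
      · refine Or.inr (Or.inr ?_)
        rwa [mul_assoc, ← htj, ← mul_assoc]
  have hone' : One t B' := by
    rintro ω (hω | hω) hω2
    · have := odd_orderOf_mem hNodd hω
      rw [hω2] at this
      exact absurd this (by decide)
    · have e := odd_one_of_sq (odd_orderOf_mem hNodd hω) (by
        rw [show ω * t * (ω * t) = ω * (t * ω) * t by group, ← hB'comm ω (Or.inr hω),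
          show ω * (ω * t) * t = (ω * ω) * (t * t) by group, mul_self hω2, htt, one_mul])
      rw [mul_eq_one_iff_eq_inv, inv_eq ht2] at e
      exact e
  have hcfg' : Cfg t B' j :=
    Cfg.mk' ht2 (Or.inr (by rw [htt]; exact N.one_mem)) hcomm h.hj hjB' hinv' hH' hone'
  -- orders
  set k := Nat.card (B ⊓ M : Subgroup G) with hk
  set b := Nat.card N with hbdef
  have hts : t * s ∈ B := h.out_mul htj h.s_comm htB h.hsB
  have htsM : t * s ∉ M := fun hc => htM ((M.mul_mem_cancel_right hsM).1 hc)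
  have hCj : Nat.card (Subgroup.centralizer ({j} : Set G)) = 4 * k := by
    rw [h.card_C, card_eq_two_mul (H := B ⊓ M) (K := B) inf_le_left hts (fun hc => htsM hc.2) fun x hx => ?_]
    · ring
    by_cases hxM : x ∈ M
    · exact Or.inl ⟨hx, hxM⟩
    · exact Or.inr ⟨mul_mem hx hts, (Subgroup.mul_mem_iff_of_index_two hidx).2 (iff_of_false hxM htsM)⟩
  have hCt : Nat.card (Subgroup.centralizer ({t} : Set G)) = 4 * b := by
    rw [hcfg'.card_C, card_eq_two_mul (H := N) (K := B') (fun x hx => Or.inl hx) hcfg'.hjB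
      (fun hc => htM (hND hc).2) fun x hx => hx]
    ring
  have hevenJ : ∀ x ∈ B, x ∉ M → ∃ m : ℕ, x ^ m = j := by
    intro x hx hxM
    obtain ⟨m, hm⟩ := exists_invol_pow (x := x) fun ho => hxM (mem_oddGen ho)
    exact ⟨m, h1 _ (pow_mem hx m) hm⟩
  have hevenT : ∀ x ∈ B', x ∉ M → ∃ m : ℕ, x ^ m = t := by
    intro x hx hxM
    obtain ⟨m, hm⟩ := exists_invol_pow (x := x) fun ho => hxM (mem_oddGen ho)
    exact ⟨m, hone' _ (pow_mem hx m) hm⟩
  have hsqr : ∀ x : G, x * x = 1 → ∀ m : ℕ, x ^ m = 1 ∨ x ^ m = x := by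
    intro x hx m
    rcases Nat.even_or_odd m with ⟨i, rfl⟩ | ⟨i, rfl⟩
    · exact Or.inl (by rw [← two_mul, pow_mul, pow_two, hx, one_pow])
    · exact Or.inr (by rw [pow_succ, pow_mul, pow_two, hx, one_pow, one_mul])
  have haj : Nat.card (Pairs j t j) = k * k := by
    let f : (B ⊓ M : Subgroup G) × (B ⊓ M : Subgroup G) → Pairs j t j := fun p =>
      ⟨((p.1 : G) * s, (p.2 : G) * t), by
        have hc1 : (p.1 : G) * s * j = j * ((p.1 : G) * s) :=
          (Commute.mul_left (h.mem_comm p.1.2.1) h.s_comm : Commute ((p.1 : G) * s) j)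
        have hc2 : (p.2 : G) * t * j = j * ((p.2 : G) * t) :=
          (Commute.mul_left (h.mem_comm p.2.2.1) htj : Commute ((p.2 : G) * t) j)
        have hn1 : (p.1 : G) * s ∉ B := fun hc => h.hsB ((B.mul_mem_cancel_left p.1.2.1).1 hc)
        have hn2 : (p.2 : G) * t ∉ B := fun hc => htB ((B.mul_mem_cancel_left p.2.2.1).1 hc)
        have hm1 : (p.1 : G) * s ∈ M := mul_mem p.1.2.2 hsM
        have hm2 : (p.2 : G) * t ∉ M := fun hc => htM ((M.mul_mem_cancel_left p.2.2.2).1 hc)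
        exact ⟨hMconj _ (h.out_order hc1 hn1) hm1, hcl _ (h.out_order hc2 hn2) hm2,
          hevenJ _ (h.out_mul hc1 hc2 hn1 hn2) fun hc => hm2 ((M.mul_mem_cancel_left hm1).1 hc)⟩⟩
    rw [hk, ← Nat.card_prod]
    refine (Nat.card_eq_of_bijective f ⟨fun p q e => ?_, fun q => ?_⟩).symm
    · have e' : ((p.1 : G) * s, (p.2 : G) * t) = ((q.1 : G) * s, (q.2 : G) * t) := congrArg Subtype.val e
      simp only [Prod.mk.injEq, mul_left_inj] at e'
      exact Prod.ext (Subtype.ext e'.1) (Subtype.ext e'.2)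
    · obtain ⟨⟨u, v⟩, hu, hv, m, hm⟩ := q
      simp only at hu hv hm
      obtain ⟨cu, hcu⟩ := isConj_iff.1 hu
      obtain ⟨cv, hcv⟩ := isConj_iff.1 hv
      have hu2 : orderOf u = 2 := by rw [← hcu, CfsgLib.Involution.Dihedral.orderOf_conj, h.hj]
      have hv2 : orderOf v = 2 := by rw [← hcv, CfsgLib.Involution.Dihedral.orderOf_conj, ht2]
      have huM : u ∈ M := hcu ▸ hMn.conj_mem _ hjM cu
      have hvM : v ∉ M := fun hc => htM (by
        have := hMn.conj_mem _ hc cv⁻¹
        rw [← hcv] at this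
        rwa [show cv⁻¹ * (cv * t * cv⁻¹) * cv⁻¹⁻¹ = t by group] at this)
      obtain ⟨huj, hvj⟩ := pair_comm hu2 hv2 h.hj hm
      have huB : u ∉ B := fun hc => by
        have e := h1 u hc hu2
        subst e
        rcases hsqr _ (show u * v * (u * v) = 1 by
          rw [show u * v * (u * v) = u * (v * u) * v by group, hvj,
            show u * (u * v) * v = (u * u) * (v * v) by group, mul_self h.hj, mul_self hv2, one_mul]) m with e' | e'
        · exact ne_one h.hj (hm ▸ e')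
        · exact ne_one hv2 (mul_eq_left.1 (e'.symm.trans hm))
      have hvB : v ∉ B := fun hc => hvM (h1 v hc hv2 ▸ hjM)
      refine ⟨(⟨u * s, (h.hH u huj).resolve_left huB, mul_mem huM hsM⟩,
        ⟨v * t, h.out_mul hvj htj hvB htB, (Subgroup.mul_mem_iff_of_index_two hidx).2 (iff_of_false hvM htM)⟩),
        Subtype.ext (Prod.ext ?_ ?_)⟩
      · show u * s * s = u
        rw [mul_assoc, mul_self h.hs, mul_one]
      · show v * t * t = v
        rw [mul_assoc, htt, mul_one]
  have hat : Nat.card (Pairs j t t) = b * b := by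
    have hjtM : j * t ∉ M := fun hc => htM ((M.mul_mem_cancel_left hjM).1 hc)
    have hjtB : j * t ∉ B' := fun hc => hjB' (by
      simpa [mul_assoc, htt] using mul_mem hc hcfg'.hjB)
    let f : N × N → Pairs j t t := fun p =>
      ⟨((p.1 : G) * j, (p.2 : G) * (j * t)), by
        have hc1 : (p.1 : G) * j * t = t * ((p.1 : G) * j) :=
          (Commute.mul_left (hNt _ p.1.2) htj.symm : Commute ((p.1 : G) * j) t)
        have hc2 : (p.2 : G) * (j * t) * t = t * ((p.2 : G) * (j * t)) :=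
          (Commute.mul_left (hNt _ p.2.2) (Commute.mul_left htj.symm (Commute.refl t)) :
            Commute ((p.2 : G) * (j * t)) t)
        have hn1 : (p.1 : G) * j ∉ B' := fun hc => hjB' ((B'.mul_mem_cancel_left (Or.inl p.1.2)).1 hc)
        have hn2 : (p.2 : G) * (j * t) ∉ B' := fun hc => hjtB ((B'.mul_mem_cancel_left (Or.inl p.2.2)).1 hc)
        have hm1 : (p.1 : G) * j ∈ M := mul_mem (hND p.1.2).2 hjM
        have hm2 : (p.2 : G) * (j * t) ∉ M := fun hc => hjtM ((M.mul_mem_cancel_left (hND p.2.2).2).1 hc)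
        exact ⟨hMconj _ (hcfg'.out_order hc1 hn1) hm1, hcl _ (hcfg'.out_order hc2 hn2) hm2,
          hevenT _ (hcfg'.out_mul hc1 hc2 hn1 hn2) fun hc => hm2 ((M.mul_mem_cancel_left hm1).1 hc)⟩⟩
    rw [hbdef, ← Nat.card_prod]
    refine (Nat.card_eq_of_bijective f ⟨fun p q e => ?_, fun q => ?_⟩).symm
    · have e' : ((p.1 : G) * j, (p.2 : G) * (j * t)) = ((q.1 : G) * j, (q.2 : G) * (j * t)) :=
        congrArg Subtype.val e
      simp only [Prod.mk.injEq, mul_left_inj] at e'
      exact Prod.ext (Subtype.ext e'.1) (Subtype.ext e'.2)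
    · obtain ⟨⟨u, v⟩, hu, hv, m, hm⟩ := q
      simp only at hu hv hm
      obtain ⟨cu, hcu⟩ := isConj_iff.1 hu
      obtain ⟨cv, hcv⟩ := isConj_iff.1 hv
      have hu2 : orderOf u = 2 := by rw [← hcu, CfsgLib.Involution.Dihedral.orderOf_conj, h.hj]
      have hv2 : orderOf v = 2 := by rw [← hcv, CfsgLib.Involution.Dihedral.orderOf_conj, ht2]
      have huM : u ∈ M := hcu ▸ hMn.conj_mem _ hjM cu
      have hvM : v ∉ M := fun hc => htM (by
        have := hMn.conj_mem _ hc cv⁻¹
        rw [← hcv] at this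
        rwa [show cv⁻¹ * (cv * t * cv⁻¹) * cv⁻¹⁻¹ = t by group] at this)
      obtain ⟨hut, hvt⟩ := pair_comm hu2 hv2 ht2 hm
      have huN : u * j ∈ N := (hDN u ⟨mem_C.2 hut, huM⟩).resolve_left fun hc => by
        have := odd_orderOf_mem hNodd hc
        rw [hu2] at this
        exact absurd this (by decide)
      have hvtD : v * t ∈ D := ⟨mem_C.2 (by rw [hvt, mul_assoc, hvt]),
        (Subgroup.mul_mem_iff_of_index_two hidx).2 (iff_of_false hvM htM)⟩
      have hvN : v * t * j ∈ N := (hDN _ hvtD).resolve_left fun hc => by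
        have e := hone' v (Or.inr hc) hv2
        subst e
        rcases hsqr _ (show u * v * (u * v) = 1 by
          rw [show u * v * (u * v) = u * (v * u) * v by group, ← hut,
            show u * (u * v) * v = (u * u) * (v * v) by group, mul_self hu2, mul_self hv2, one_mul]) m with e' | e'
        · exact ne_one hv2 (hm ▸ e')
        · exact ne_one hu2 (mul_eq_right.1 (e'.symm.trans hm))
      refine ⟨(⟨u * j, huN⟩, ⟨v * t * j, hvN⟩), Subtype.ext (Prod.ext ?_ ?_)⟩
      · show u * j * j = u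
        rw [mul_assoc, mul_self h.hj, mul_one]
      · show v * t * j * (j * t) = v
        rw [mul_assoc (v * t), ← mul_assoc j, mul_self h.hj, one_mul, mul_assoc, htt, mul_one]
  have hG : Nat.card G = k * k * (4 * b) + b * b * (4 * k) := by
    have e := CfsgLib.Involution.OrderFormula.card_eq j t h.hj ht2 hjt fun x hx => by
      by_cases hxM : x ∈ M
      · exact Or.inl (hMconj x hx hxM)
      · exact Or.inr (hcl x hx hxM)
    rwa [haj, hat, hCj, hCt] at e
  -- the configuration inside `M`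
  set j' : M := ⟨j, hjM⟩ with hj'
  set s' : M := ⟨s, hsM⟩ with hs'
  have hc' : Cfg j' (B.subgroupOf M) s' := h.subgroup M hjM hsM
  have h1' : One j' (B.subgroupOf M) := fun ω hω h2 =>
    Subtype.ext (h1 ω hω (by rw [Subgroup.orderOf_coe, h2]))
  have hTI' : ∀ g : M, g ∉ Subgroup.centralizer ({j'} : Set M) →
      B.subgroupOf M ⊓ (B.subgroupOf M).map (MulAut.conj g).toMonoidHom = ⊥ := by
    intro g hg
    refine (Subgroup.eq_bot_iff_forall _).2 fun x hx => ?_
    obtain ⟨hxB, y, hy, rfl⟩ := hx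
    have hyB : (y : G) ∈ B := hy
    have hxB' : (g : G) * y * (g : G)⁻¹ ∈ B := hxB
    by_contra hne
    have hy1 : (y : G) ≠ 1 := fun e => hne (by rw [show y = 1 from Subtype.ext e, map_one])
    refine hg (mem_C.2 (Subtype.ext (conj_eq_iff.1 (show (g : G) * j * (g : G)⁻¹ = j from ?_))))
    by_cases hyo : Odd (orderOf (y : G))
    · set w := (g : G)⁻¹ * j * g with hw
      have hwy : w * y = y * w := by
        calc w * y = (g : G)⁻¹ * (j * ((g : G) * y * (g : G)⁻¹)) * g := by rw [hw]; group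
          _ = (g : G)⁻¹ * ((g : G) * y * (g : G)⁻¹ * j) * g := by rw [h.mem_comm hxB']
          _ = _ := by rw [hw]; group
      have hwj := hTI _ hyo hy1 (h.mem_comm hyB) w hwy
      have hwB : w ∈ B := by
        by_contra hwB
        have e := h.out_inv hwj hwB hyB
        rw [conj_eq_iff.2 hwy] at e
        exact hy1 (eq_one_or_self_mul_self hyo e.symm)
      have e := h1 w hwB (by
        rw [hw, show (g : G)⁻¹ * j * g = (g : G)⁻¹ * j * (g : G)⁻¹⁻¹ by group,
          CfsgLib.Involution.Dihedral.orderOf_conj, h.hj])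
      calc (g : G) * j * (g : G)⁻¹ = (g : G) * w * (g : G)⁻¹ := by rw [e]
        _ = j := by rw [hw]; group
    · obtain ⟨m, hm⟩ := exists_invol_pow hyo
      have e2 := h1 ((g : G) * (y : G) ^ m * (g : G)⁻¹) (by rw [← _root_.conj_pow]; exact pow_mem hxB' m)
        (by rw [CfsgLib.Involution.Dihedral.orderOf_conj, hm])
      rwa [h1 _ (pow_mem hyB m) hm] at e2
  have hBSW : CfsgLib.Characterizations.BSW.Hyp j' (B.subgroupOf M) s' := by
    refine ⟨hc'.hj, ⟨⟨fun a b => Subtype.ext (hc'.comm _ a.2 _ b.2)⟩⟩, hc'.B_le, hc'.hjB, hc'.hs,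
      mem_C.2 hc'.s_comm, hc'.hsB, ?_, ?_, hc'.hinv, hTI', fun x y hx hy => ?_⟩
    · refine le_antisymm (sup_le hc'.B_le (Subgroup.zpowers_le.2 (mem_C.2 hc'.s_comm))) fun g hg => ?_
      rcases hc'.hH g (mem_C.1 hg) with e | e
      · exact Subgroup.mem_sup_left e
      · have := mul_mem (Subgroup.mem_sup_left (T := Subgroup.zpowers s') e)
          (Subgroup.mem_sup_right (S := B.subgroupOf M) (Subgroup.mem_zpowers s'))
        rwa [mul_assoc, mul_self hc'.hs, mul_one] at this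
    · refine le_antisymm (fun x hx => ?_) (Subgroup.zpowers_le.2 ⟨hc'.hjB, mem_C.2 hc'.s_comm.symm⟩)
      by_cases hx1 : x = 1
      · rw [hx1]; exact one_mem _
      have e := hc'.hinv x hx.1
      rw [conj_eq_iff.2 (mem_C.1 hx.2).symm] at e
      rw [h1' x hx.1 (orderOf_eq_two (inv_eq_iff_mul_eq_one.1 e.symm) hx1)]
      exact Subgroup.mem_zpowers _
    · obtain ⟨cx, hcx, ex⟩ := hMc (x : G) x.2 (by rw [Subgroup.orderOf_coe, hx])
      obtain ⟨cy, hcy, ey⟩ := hMc (y : G) y.2 (by rw [Subgroup.orderOf_coe, hy])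
      refine isConj_iff.2 ⟨⟨cy * cx⁻¹, mul_mem hcy (inv_mem hcx)⟩, Subtype.ext ?_⟩
      show cy * cx⁻¹ * x * (cy * cx⁻¹)⁻¹ = y
      rw [← ex, ← ey]; group
  obtain ⟨δ, q, a, S⟩ := CfsgLib.Characterizations.BSW.exists_shape hBSW
  have hK : Nat.card (B.subgroupOf M) = k := by
    rw [hk, ← CfsgLib.Coprime.card_map_subtype, Subgroup.subgroupOf_map_subtype]
  have hMcard : Nat.card M = 2 * k * (q * a) := by rw [S.card_G hBSW, hK]
  have hkpos : 0 < k := Nat.card_pos
  have hbpos : 0 < b := Nat.card_pos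
  have hqa : q = k + a := by
    have e1 := S.hq
    have e2 := S.ha
    rw [hK] at e1 e2
    omega
  have hab : a = b := by
    have e : Nat.card G = 2 * Nat.card M := by rw [← Subgroup.card_mul_index M, hidx, mul_comm]
    rw [hG, hMcard] at e
    have e3 : (k + a) * a = (k + b) * b := by
      refine Nat.eq_of_mul_eq_mul_left (show 0 < 4 * k by omega) ?_
      rw [← hqa]; linarith
    rcases lt_trichotomy a b with hlt | heq | hlt
    · exact absurd e3 (ne_of_lt (Nat.mul_lt_mul'' (by omega) hlt))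
    · exact heq
    · exact absurd e3.symm (ne_of_lt (Nat.mul_lt_mul'' (by omega) hlt))
  have hb1 : b ≠ 1 := by
    intro hb1
    have e2 := S.ha
    rw [hK] at e2
    have hk2 : k = 2 := by rcases S.hδ with e | e <;> omega
    have h12 : Nat.card M = 12 := by rw [hMcard, hk2, hqa, hk2, hab, hb1]
    exact oddGen_not_solvable hns (CfsgLib.Recognition.Zassenhaus.small_solvable
      (show Nat.card M ∣ 120 by rw [h12]; norm_num) (by rw [h12]; norm_num) (by rw [h12]; norm_num))
  obtain ⟨y, hyN, hy1⟩ : ∃ y ∈ N, y ≠ 1 := by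
    by_contra hcon
    push Not at hcon
    exact hb1 (by rw [hbdef, (Subgroup.eq_bot_iff_forall N).2 hcon, Subgroup.card_bot])
  refine ⟨B', hcfg', hone', ti_of_odd hcfg' hone' ?_, y, odd_orderOf_mem hNodd hyN, hy1, hNt y hyN⟩
  intro y hyo hy1 hyt x hxo hxy
  have hyN : y ∈ N := hoN y ⟨mem_C.2 hyt, mem_oddGen hyo⟩ hyo
  set y' : M := ⟨y, mem_oddGen hyo⟩ with hy'
  set C := Subgroup.centralizer ({y'} : Set M) with hC
  have hout : CfsgLib.Characterizations.BSW.Out (B.subgroupOf M) y' := by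
    refine ⟨fun e => hy1 (congrArg Subtype.val e), ?_⟩
    rintro ⟨-, c, hc⟩
    have hzB : (c : G) * y * (c : G)⁻¹ ∈ B := hc
    have hzo : Odd (orderOf ((c : G) * y * (c : G)⁻¹)) := by rwa [CfsgLib.Involution.Dihedral.orderOf_conj]
    have hz1 : (c : G) * y * (c : G)⁻¹ ≠ 1 := conj_ne_one hy1
    have hwz : (c : G) * t * (c : G)⁻¹ * ((c : G) * y * (c : G)⁻¹) =
        (c : G) * y * (c : G)⁻¹ * ((c : G) * t * (c : G)⁻¹) := by rw [conj_mul, conj_mul, hyt]
    have hwj := hTI _ hzo hz1 (h.mem_comm hzB) _ hwz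
    have hw2 : orderOf ((c : G) * t * (c : G)⁻¹) = 2 := by rw [CfsgLib.Involution.Dihedral.orderOf_conj, ht2]
    have hwB : (c : G) * t * (c : G)⁻¹ ∉ B := fun hb => htM (by
      have := hMn.conj_mem _ (h1 _ hb hw2 ▸ hjM) (c : G)⁻¹
      rwa [show (c : G)⁻¹ * ((c : G) * t * (c : G)⁻¹) * (c : G)⁻¹⁻¹ = t by group] at this)
    have e := h.out_inv hwj hwB hzB
    rw [conj_eq_iff.2 hwz] at e
    exact hz1 (eq_one_or_self_mul_self hzo e.symm)
  have hle : N.subgroupOf M ≤ C := fun n hn => mem_C.2 (Subtype.ext (hNcomm n hn y hyN))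
  have hNc : Nat.card (N.subgroupOf M) = b :=
    Nat.card_congr (Subgroup.subgroupOfEquivOfLe fun n hn => (hND hn).2).toEquiv
  have hdvd : Nat.card C ∣ a := by
    refine (S.split y' hout).resolve_left fun hq => hb1 ?_
    have h2 : b ∣ q := by rw [← hNc]; exact (Subgroup.card_dvd_of_le hle).trans hq
    have h3 := Nat.Coprime.of_dvd h2 (show b ∣ 2 * Nat.card (B.subgroupOf M) * a from hab ▸ dvd_mul_left a _)
      S.coprime
    exact Nat.coprime_self b |>.1 h3
  have heq : N.subgroupOf M = C := Subgroup.eq_of_le_of_card_ge hle (by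
    rw [hNc]; exact Nat.le_of_dvd hbpos (hab ▸ hdvd))
  have hxC : (⟨x, mem_oddGen hxo⟩ : M) ∈ C := mem_C.2 (Subtype.ext hxy)
  rw [← heq] at hxC
  exact hNt x hxC

/-- A centralizer of an involution containing a Sylow 2-subgroup: every involution is `TI`. -/
theorem two_class (hO : Cfsg.oddCore G = ⊥) (hns : ¬ Group.IsSolvable G) {j s : G} {B : Subgroup G}
    (h : Cfg j B s) (h1 : One j B) (hSyl : ∃ P : Sylow 2 G, (P : Subgroup G) = h.T2) :
    Good G ∧ ∀ t : G, orderOf t = 2 → t ∉ oddGen G →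
      ∃ y : G, Odd (orderOf y) ∧ y ≠ 1 ∧ y * t = t * y := by
  classical
  haveI : Fact (Nat.Prime 2) := ⟨Nat.prime_two⟩
  haveI hMn : (oddGen G).Normal := oddGen_normal
  set M := oddGen G with hM
  obtain ⟨P, hP⟩ := hSyl
  have hMns : ¬ Group.IsSolvable M := oddGen_not_solvable hns
  obtain ⟨Q, hQ⟩ := sylow_inf P M
  simp only [hP] at hQ
  have hQcyc := not_isCyclic_sylow hMns Q
  -- `j` and an outer involution lie in `M`
  obtain ⟨s₁, hs₁Q, hs₁B⟩ : ∃ x ∈ (Q : Subgroup M), (x : G) ∉ B := by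
    by_contra hcon
    push Not at hcon
    refine hQcyc (CfsgLib.Recognition.AbelianCentraliser.isCyclic_of_one_involution Q.2
      (fun a b => Subtype.ext (Subtype.ext (h.comm _ (hcon a a.2) _ (hcon b b.2)))) fun a b ha hb => ?_)
    exact Subtype.ext (Subtype.ext ((h1 _ (hcon a a.2) (by rw [Subgroup.orderOf_coe, Subgroup.orderOf_coe, ha])).trans
      (h1 _ (hcon b b.2) (by rw [Subgroup.orderOf_coe, Subgroup.orderOf_coe, hb])).symm))
  have hjM : j ∈ M := by
    by_contra hjM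
    have hin : ∀ x ∈ (Q : Subgroup M), (x : G) ∈ B → x = 1 := by
      intro x hx hxB
      by_contra hx1
      obtain ⟨k, hk⟩ := twoEl_of_mem Q.2 hx
      have hne : ¬ Odd (orderOf (x : G)) := fun ho =>
        hx1 (Subtype.ext (two_odd_one (k := k) (by rw [← SubmonoidClass.coe_pow, hk]; rfl) ho))
      obtain ⟨n, hn⟩ := exists_invol_pow hne
      exact hjM (h1 _ (pow_mem hxB n) hn ▸ pow_mem x.2 n)
    refine hQcyc ⟨⟨⟨s₁, hs₁Q⟩, fun x => ?_⟩⟩
    by_cases hxB : ((x : M) : G) ∈ B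
    · rw [show x = (1 : (Q : Subgroup M)) from Subtype.ext (hin x x.2 hxB)]; exact ⟨0, zpow_zero _⟩
    · have hm := hin (x * s₁) (mul_mem x.2 hs₁Q) (h.out_mul (h.T2_comm_j ((hQ x).1 x.2))
        (h.T2_comm_j ((hQ s₁).1 hs₁Q)) hxB hs₁B)
      exact ⟨-1, by show _ ^ (-1 : ℤ) = x; rw [zpow_neg_one]; exact Subtype.ext (eq_inv_of_mul_eq_one_left hm).symm⟩
  have hs₁T : (s₁ : G) ∈ h.T2 := (hQ s₁).1 hs₁Q
  have hc := h.change (h.out_order (h.T2_comm_j hs₁T) hs₁B) (h.T2_comm_j hs₁T) hs₁B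
  have hT : (P : Subgroup G) = hc.T2 := by
    rw [hP]
    refine hc.eq_T2 h.T2_isPGroup (fun x hx => h.T2_comm_j hx) ?_
    rintro x (hx | hx)
    · exact Or.inl hx
    · have e : x = x * (s₁ : G) * (s₁ : G) := by rw [mul_assoc, mul_self hc.hs, mul_one]
      rw [e]; exact mul_mem (h.Bt_le_T2 hx) hs₁T
  -- one class of involutions in `M`
  have hMc : ∀ x ∈ M, orderOf x = 2 → ∃ c ∈ M, c * j * c⁻¹ = x := by
    intro x hx hx2
    obtain ⟨g, hg⟩ := exists_conj_mem_sylow Q (x := (⟨x, hx⟩ : M))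
      (twoEl_of_order (by rw [← Subgroup.orderOf_coe]; exact hx2))
    set u := g * ⟨x, hx⟩ * g⁻¹ with hu
    have hu2 : orderOf (u : G) = 2 := by
      rw [Subgroup.orderOf_coe, hu, CfsgLib.Involution.Dihedral.orderOf_conj, ← Subgroup.orderOf_coe]
      exact hx2
    obtain ⟨g', hg'⟩ : ∃ g' : M, (g' : G) * u * (g' : G)⁻¹ = j := by
      by_cases huB : (u : G) ∈ B
      · exact ⟨1, by simp [h1 _ huB hu2]⟩
      have hi : ((B.subgroupOf M) ⊓ (Q : Subgroup M)).relIndex (Q : Subgroup M) = 2 := by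
        rw [Subgroup.inf_relIndex_right]
        refine Subgroup.relIndex_eq_two_iff.2 ⟨u, hg, fun b hb => ?_⟩
        show Xor ((b : G) * u ∈ B) ((b : G) ∈ B)
        by_cases hbB : (b : G) ∈ B
        · exact Or.inr ⟨hbB, fun hc => huB ((B.mul_mem_cancel_left hbB).1 hc)⟩
        · exact Or.inl ⟨h.out_mul (h.T2_comm_j ((hQ b).1 hb)) (h.T2_comm_j ((hQ u).1 hg)) hbB huB, hbB⟩
      rcases CfsgLib.Fusion.ThompsonTransfer.thompson_transfer Q _ inf_le_right hi u
        (Subtype.ext (by rw [SubmonoidClass.coe_pow, pow_two, mul_self hu2]; rfl)) hg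
        (fun hc => huB hc.1) with ⟨M', hn, hi', -⟩ | ⟨g', hg'⟩
      · exact (oddGen_eq_of_index_two hn hi').elim
      · exact ⟨g', h1 _ hg'.1 (by rw [CfsgLib.Involution.Dihedral.orderOf_conj, hu2])⟩
    refine ⟨((g' * g)⁻¹ : M), SetLike.coe_mem _, ?_⟩
    rw [← hg', hu]; push_cast; group
  have hHyp : Hyp M := by
    refine ⟨fun i hi => ?_, fun i k hi hk => ?_⟩
    · obtain ⟨c, hcM, e⟩ := hMc i i.2 (by rw [Subgroup.orderOf_coe, hi])
      have e' : (MulAut.conj (⟨c, hcM⟩ : M)) ⟨j, hjM⟩ = i := Subtype.ext e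
      refine e' ▸ ⟨_, _, (hc.subgroup M hjM s₁.2).map _, ?_⟩
      exact One.map _ fun ω hω h2 => Subtype.ext (h1 ω hω (by rw [Subgroup.orderOf_coe, h2]))
    · obtain ⟨c, hcM, e⟩ := hMc i i.2 (by rw [Subgroup.orderOf_coe, hi])
      obtain ⟨d, hdM, e2⟩ := hMc k k.2 (by rw [Subgroup.orderOf_coe, hk])
      refine isConj_iff.2 ⟨⟨d * c⁻¹, mul_mem hdM (inv_mem hcM)⟩, Subtype.ext ?_⟩
      show d * c⁻¹ * i * (d * c⁻¹)⁻¹ = k
      rw [← e, ← e2]; group
  have hTIM : TI (⟨j, hjM⟩ : M) := ti_of_hyp hHyp (oddCore_subgroup_bot hO M) (hc.subgroup M hjM s₁.2)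
    fun ω hω h2 => Subtype.ext (h1 ω hω (by rw [Subgroup.orderOf_coe, h2]))
  have hTI : TI j := ti_of_odd h h1 fun y hy hy1 hyj x hx hxy =>
    congrArg Subtype.val (hTIM ⟨y, mem_oddGen hy⟩ (by rw [← Subgroup.orderOf_coe]; exact hy)
      (fun e => hy1 (congrArg Subtype.val e)) (Subtype.ext hyj) ⟨x, mem_oddGen hx⟩ (Subtype.ext hxy))
  refine ⟨fun i hi => ?_, fun i hi hiM => ?_⟩
  all_goals obtain ⟨g, hg⟩ := exists_conj_mem_sylow P (twoEl_of_order hi)
  · by_cases hiM : i ∈ M
    · obtain ⟨c, -, e⟩ := hMc i hiM hi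
      exact good_conj h h1 hTI (isConj_iff.2 ⟨c, e⟩)
    · obtain ⟨B', hc', h1', hTI', -⟩ := second_class hns hc h1 hTI hjM s₁.2 hMc P hT (hT ▸ hg)
        (by rw [CfsgLib.Involution.Dihedral.orderOf_conj, hi])
        fun hm => hiM (by simpa [mul_assoc] using hMn.conj_mem _ hm g⁻¹)
      exact good_conj hc' h1' hTI' (isConj_iff.2 ⟨g⁻¹, by group⟩)
  · obtain ⟨B', -, -, -, y, hy, hy1, hyt⟩ := second_class hns hc h1 hTI hjM s₁.2 hMc P hT (hT ▸ hg)
      (by rw [CfsgLib.Involution.Dihedral.orderOf_conj, hi])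
      fun hm => hiM (by simpa [mul_assoc] using hMn.conj_mem _ hm g⁻¹)
    refine ⟨g⁻¹ * y * g⁻¹⁻¹, by rwa [CfsgLib.Involution.Dihedral.orderOf_conj], conj_ne_one hy1, ?_⟩
    calc g⁻¹ * y * g⁻¹⁻¹ * i = g⁻¹ * (y * (g * i * g⁻¹)) * g := by group
      _ = g⁻¹ * (g * i * g⁻¹ * y) * g := by rw [hyt]
      _ = _ := by group

end CfsgLib.Characterizations.DGroup
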