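import Cfsg.Agent.S0112
import Cfsg.Agent.S0115
import Cfsg.Agent.S0514
import Cfsg.Agent.S4399
import Cfsg.Agent.Lib.BrauerSuzuki.Main
import Cfsg.Agent.Lib.Involution.DihedralSylow
import Cfsg.Agent.Lib.Characterizations.DGroup.TwoClass

/-!
# A centralizer of an involution with a four group as Sylow 2-subgroup, not Sylow in the group
-/

set_option autoImplicit false

namespace CfsgLib.Characterizations.DGroup

open CfsgLib.Involution.Dihedral
open CfsgLib.Involution.DihedralSylow (Gen)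

universe u

variable {G : Type u} [Group G] [Finite G]

theorem gen_iso {S : Subgroup G} {σ τ : G} {k : ℕ} (h : Gen S σ τ k) :
    Nonempty (S ≃* DihedralGroup (2 ^ (k + 1))) := by
  have hrN : σ ^ 2 ^ (k + 1) = 1 := by rw [← h.ord]; exact pow_orderOf_eq_one σ
  set f := CfsgLib.Involution.TwoGroupLifts.dihedralHom (N := 2 ^ (k + 1)) σ τ hrN h.bb h.conj with hf
  have hfi : Function.Injective f :=
    CfsgLib.Involution.TwoGroupLifts.dihedralHom_injective hrN h.bb h.conj h.ord h.nb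
  have hr : f (DihedralGroup.r 1) = σ := by
    show CfsgLib.Involution.TwoGroupLifts.zp σ (1 : ZMod (2 ^ (k + 1))) = σ
    rw [← Int.cast_one, CfsgLib.Involution.TwoGroupLifts.zp_intCast hrN, zpow_one]
  have hs : f (DihedralGroup.sr 0) = τ := by
    show τ * CfsgLib.Involution.TwoGroupLifts.zp σ (0 : ZMod (2 ^ (k + 1))) = τ
    rw [CfsgLib.Involution.TwoGroupLifts.zp_zero, mul_one]
  have mσ : σ ∈ f.range := ⟨_, hr⟩
  have mτ : τ ∈ f.range := ⟨_, hs⟩
  have hrange : f.range = S := by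
    refine le_antisymm ?_ fun x hx => ?_
    · rintro _ ⟨d, rfl⟩
      rcases d with i | i
      · exact Subgroup.pow_mem _ h.amem _
      · exact mul_mem h.bmem (Subgroup.pow_mem _ h.amem _)
    · rcases h.cases x hx with ⟨i, rfl⟩ | ⟨i, rfl⟩
      · exact Subgroup.zpow_mem _ mσ i
      · exact mul_mem (Subgroup.zpow_mem _ mσ i) mτ
  exact ⟨((MonoidHom.ofInjective hfi).trans (MulEquiv.subgroupCongr hrange)).symm⟩

/-- A 2-subgroup of `C(j)` is no larger than `T2`. -/
theorem Cfg.card_two_le {j s : G} {B : Subgroup G} (h : Cfg j B s) {P : Subgroup G} (hP : IsPGroup 2 P)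
    (hPC : ∀ x ∈ P, x * j = j * x) : Nat.card P ≤ Nat.card h.T2 := by
  haveI : Fact (Nat.Prime 2) := ⟨Nat.prime_two⟩
  set C := Subgroup.centralizer ({j} : Set G) with hC
  have hle : P ≤ C := fun x hx => mem_C.2 (hPC x hx)
  obtain ⟨Q', hQ'⟩ := (hP.of_equiv (Subgroup.subgroupOfEquivOfLe hle).symm).exists_le_sylow
  have hTC : h.T2 ≤ C := fun x hx => mem_C.2 (h.T2_comm_j hx)
  obtain ⟨Q, hQ⟩ := (h.T2_isPGroup.of_equiv (Subgroup.subgroupOfEquivOfLe hTC).symm).exists_le_sylow
  have hQT : (Q : Subgroup C).map C.subtype = h.T2 := h.eq_T2 (Q.2.map _)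
    (fun x hx => mem_C.1 (Subgroup.map_subtype_le _ hx)) fun x hx => ⟨⟨x, hTC hx⟩, hQ hx, rfl⟩
  have h3 := Subgroup.card_le_of_le hQ'
  rw [Nat.card_congr (Subgroup.subgroupOfEquivOfLe hle).toEquiv,
    Q'.card_eq_multiplicity, ← Q.card_eq_multiplicity] at h3
  rw [← hQT, CfsgLib.Coprime.card_map_subtype]
  exact h3

/-- With `T2` a four group in a larger Sylow subgroup with central `z`, `z` is not conjugate to `j`. -/
theorem not_conj_of_small {j z : G} {B : Subgroup G} (h : Cfg j B z) (hsmall : ∀ x ∈ h.Bt, x = 1 ∨ x = j)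
    (S : Sylow 2 G) (hjS : j ∈ (S : Subgroup G)) (hzS : z ∈ (S : Subgroup G))
    (hSz : ∀ x ∈ (S : Subgroup G), x * z = z * x) {a : G} (ha : a ∈ (S : Subgroup G)) (ha2 : a * a ≠ 1)
    (g : G) : g * z * g⁻¹ ≠ j := by
  intro hg
  have hT : ∀ x ∈ h.T2, x ∈ (S : Subgroup G) ∧ x * x = 1 := by
    have hB : ∀ x ∈ h.Bt, x ∈ (S : Subgroup G) ∧ x * x = 1 := fun x hx => by
      rcases hsmall x hx with e | e <;> rw [e]
      · exact ⟨one_mem _, mul_one 1⟩
      · exact ⟨hjS, mul_self h.hj⟩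
    intro x hx
    by_cases hxB : x ∈ B
    · exact hB x (h.Bt_of_mem_T2 hx hxB)
    · refine ⟨?_, h.out_sq (h.T2_comm_j hx) hxB⟩
      have hxz : x * z ∈ h.Bt := hx.resolve_left fun hc => hxB hc.1
      have e : x = x * z * z := by rw [mul_assoc, mul_self h.hs, mul_one]
      rw [e]; exact mul_mem (hB _ hxz).1 hzS
  have hlt : h.T2 < (S : Subgroup G) := lt_of_le_of_ne (fun x hx => (hT x hx).1) fun e =>
    ha2 (hT a (e ▸ ha)).2
  have h1 := h.card_two_le (S.2.map (MulAut.conj g).toMonoidHom) (by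
    rintro _ ⟨x, hx, rfl⟩
    show g * x * g⁻¹ * j = j * (g * x * g⁻¹)
    rw [← hg, conj_mul, conj_mul, hSz x hx])
  rw [Subgroup.card_map_of_injective (MulAut.conj g).injective] at h1
  exact absurd (Subgroup.eq_of_le_of_card_ge hlt.le h1) hlt.ne

set_option maxHeartbeats 1600000 in
/-- The Sylow 2-subgroups are dihedral. -/
theorem dihedral_case (hO : Cfsg.oddCore G = ⊥) (hns : ¬ Group.IsSolvable G) {j z c : G} {B : Subgroup G}
    (h : Cfg j B z) (hsmall : ∀ x ∈ h.Bt, x = 1 ∨ x = j) (S : Sylow 2 G) {n : ℕ}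
    (hg : Gen (S : Subgroup G) c j (n + 1)) (hz : c ^ 2 ^ (n + 1) = z) :
    Good G ∧ ∃ y : G, Odd (orderOf y) ∧ y ≠ 1 ∧ y * j = j * y := by
  classical
  haveI : Fact (Nat.Prime 2) := ⟨Nat.prime_two⟩
  have hj2 := h.hj
  have hz2 := h.hs
  have hcS := hg.amem
  have hjS := hg.bmem
  have hzS : z ∈ (S : Subgroup G) := hz ▸ pow_mem hcS _
  have hcz : c * z = z * c := hz ▸ (Commute.self_pow c _).eq
  have hjz : j * z = z * j := h.s_comm.symm
  have hSz : ∀ x ∈ (S : Subgroup G), x * z = z * x := by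
    intro x hx
    rcases hg.cases x hx with ⟨i, rfl⟩ | ⟨i, rfl⟩
    · exact ((show Commute c z from hcz).zpow_left i).eq
    · exact (((show Commute c z from hcz).zpow_left i).mul_left (show Commute j z from hjz)).eq
  have hc2 : c * c ≠ 1 := fun e => by
    have h1 : orderOf c ∣ 2 := orderOf_dvd_of_pow_eq_one (by rw [pow_two]; exact e)
    rw [hg.ord] at h1
    have := Nat.le_of_dvd two_pos h1
    have : 2 ^ 2 ≤ 2 ^ (n + 1 + 1) := Nat.pow_le_pow_right two_pos (by omega)
    omega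
  have hnc := not_conj_of_small h hsmall S hjS hzS hSz hcS hc2
  have hinvol : ∀ i : ℤ, c ^ i * c ^ i = 1 → c ^ i = 1 ∨ c ^ i = z := by
    intro i hi
    rw [← zpow_add, CfsgLib.Involution.DihedralSylow.zpow_eq_one hg] at hi
    obtain ⟨m, hm⟩ : (2 : ℤ) ^ (n + 1) ∣ i := by
      rw [← two_mul, pow_succ'] at hi
      exact (mul_dvd_mul_iff_left two_ne_zero).1 hi
    rw [hm, show (2 : ℤ) ^ (n + 1) = ((2 ^ (n + 1) : ℕ) : ℤ) by push_cast; rfl, zpow_mul, zpow_natCast, hz]
    rcases Int.even_or_odd m with ⟨l, rfl⟩ | ⟨l, rfl⟩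
    · exact Or.inl (by rw [← two_mul, zpow_mul, zpow_two, mul_self hz2, one_zpow])
    · exact Or.inr (by rw [zpow_add_one, zpow_mul, zpow_two, mul_self hz2, one_zpow, one_mul])
  -- `j` lies outside the subgroup generated by the odd elements
  haveI hMn : (oddGen G).Normal := oddGen_normal
  set M := oddGen G with hM
  have hjM : j ∉ M := by
    have hi : (Subgroup.zpowers c).relIndex (S : Subgroup G) = 2 := by
      refine Subgroup.relIndex_eq_two_iff.2 ⟨j, hjS, fun b hb => ?_⟩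
      rcases hg.cases b hb with ⟨i, rfl⟩ | ⟨i, rfl⟩
      · exact Or.inr ⟨Subgroup.zpow_mem _ (Subgroup.mem_zpowers c) i,
          CfsgLib.Involution.DihedralSylow.refl_not_rot hg i⟩
      · exact Or.inl ⟨by rw [mul_assoc, mul_self hj2, mul_one]; exact Subgroup.zpow_mem _ (Subgroup.mem_zpowers c) i,
          CfsgLib.Involution.DihedralSylow.refl_not_rot hg i⟩
    rcases CfsgLib.Fusion.ThompsonTransfer.thompson_transfer S _ (Subgroup.zpowers_le.2 hcS) hi j
      (by rw [pow_two, mul_self hj2]) hjS hg.nb with ⟨M', hn, hi', hjM'⟩ | ⟨g, hg'⟩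
    · refine fun hc => hjM' (?_ : j ∈ M')
      refine (Subgroup.closure_le M').2 (fun x hx => ?_) hc
      obtain ⟨k, hk⟩ := (hx : Odd (orderOf x))
      have e : x = (x * x) ^ (k + 1) := by
        rw [← pow_two, ← pow_mul, show 2 * (k + 1) = orderOf x + 1 by omega, pow_succ, pow_orderOf_eq_one,
          one_mul]
      rw [e]; exact pow_mem (Subgroup.mul_self_mem_of_index_two hi' x) _
    · obtain ⟨i, hi'⟩ := Subgroup.mem_zpowers_iff.1 hg'
      exfalso
      rcases hinvol i (by rw [hi', conj_mul, mul_self hj2]; group) with e | e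
      · exact conj_ne_one (ne_one hj2) (hi'.symm.trans e)
      · refine hnc g⁻¹ ?_
        rw [← e, hi']; group
  -- the odd elements centralizing `z`
  have hSC : (S : Subgroup G) ≤ Subgroup.centralizer ({z} : Set G) := fun x hx => mem_C.2 (hSz x hx)
  obtain ⟨N, hNn, hNodd, e, hNi⟩ :=
    Cfsg.Agent.S0514.result S (2 ^ (n + 1 + 1)) (Nat.le_self_pow (by omega) 2) (gen_iso hg) z hz2
  haveI := hNn
  set A := N.map (Subgroup.centralizer ({z} : Set G)).subtype with hA
  have hNpow : ∀ x : Subgroup.centralizer ({z} : Set G), ∃ i : ℕ, x ^ 2 ^ i ∈ N := fun x =>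
    ⟨e, hNi ▸ Subgroup.pow_index_mem N x⟩
  have hAo : ∀ a ∈ A, Odd (orderOf a) ∧ a * z = z * a := by
    rintro _ ⟨x, hx, rfl⟩
    exact ⟨by rw [Subgroup.subtype_apply, Subgroup.orderOf_coe]; exact odd_orderOf_mem hNodd hx, mem_C.1 x.2⟩
  have hoA : ∀ x : G, Odd (orderOf x) → x * z = z * x → x ∈ A := by
    intro x hx hxz
    refine ⟨⟨x, mem_C.2 hxz⟩, ?_, rfl⟩
    refine (QuotientGroup.eq_one_iff _).1 (two_odd_one (k := e) ?_ ?_)
    · rw [← hNi, Subgroup.index_eq_card]; exact pow_card_eq_one'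
    · refine (show Odd (orderOf (⟨x, mem_C.2 hxz⟩ : Subgroup.centralizer ({z} : Set G))) by
        rw [← Subgroup.orderOf_coe]; exact hx).of_dvd_nat ?_
      exact orderOf_map_dvd (QuotientGroup.mk' N) _
  have hCS : ∀ g : G, g * z = z * g → ∃ x ∈ (S : Subgroup G), x⁻¹ * g ∈ A := by
    intro g hgz
    obtain ⟨x, hx, hxg⟩ := exists_sylow_mul (S.subtype hSC) N hNpow ⟨g, mem_C.2 hgz⟩
    exact ⟨x, hx, ⟨_, hxg, rfl⟩⟩
  have hAn : ∀ g : G, g * z = z * g → ∀ a ∈ A, g * a * g⁻¹ ∈ A := fun g hgz a ha =>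
    hoA _ (by rw [CfsgLib.Involution.Dihedral.orderOf_conj]; exact (hAo a ha).1)
      (Commute.mul_left (Commute.mul_left hgz (hAo a ha).2) (Commute.inv_left hgz) : Commute (g * a * g⁻¹) z)
  obtain ⟨hinvA, -⟩ := CfsgLib.Characterizations.BSW.inverts_of_fpf (A := A) hj2 (hAn j hjz)
    fun a ha hja => by
      have hab := h.mem_of_odd hja.symm (hAo a ha).1
      have e := h.hinv a hab
      rw [conj_eq_iff.2 (hAo a ha).2.symm] at e
      exact eq_one_or_self_mul_self (hAo a ha).1 e.symm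
  have hAcomm : ∀ a ∈ A, ∀ b ∈ A, a * b = b * a := by
    intro a ha b hb
    have h3 := hinvA (a * b) (mul_mem ha hb)
    rw [← conj_mul, hinvA a ha, hinvA b hb, ← mul_inv_rev, inv_inj] at h3
    exact h3.symm
  -- the square of the rotation centralizes them
  have hjc : j * c⁻¹ = c * j := by
    have h1 := congrArg Inv.inv hg.conj
    rw [inv_inv] at h1
    calc j * c⁻¹ = (j * c * j⁻¹)⁻¹ * j := by group
      _ = c * j := by rw [h1]
  have hA2c : ∀ a ∈ A, c * c * a = a * (c * c) := by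
    intro a ha
    have ha' := hAn c⁻¹ ((show Commute c z from hcz).inv_left).eq a ha
    have e := hinvA _ ha'
    have e1 : c * j * c⁻¹ = c * c * j := by rw [mul_assoc, hjc, mul_assoc]
    have e2 : c * j * c⁻¹ * a * (c * j * c⁻¹)⁻¹ = a⁻¹ := by
      calc c * j * c⁻¹ * a * (c * j * c⁻¹)⁻¹ = c * (j * (c⁻¹ * a * c⁻¹⁻¹) * j⁻¹) * c⁻¹ := by group
        _ = a⁻¹ := by rw [e]; group
    rw [e1, show c * c * j * a * (c * c * j)⁻¹ = c * c * (j * a * j⁻¹) * (c * c)⁻¹ by group, hinvA a ha,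
      conj_eq_iff] at e2
    exact ((Commute.inv_right_iff.1 (show Commute (c * c) a⁻¹ from e2))).eq
  have hk2 : orderOf (c * j) = 2 := by
    have := CfsgLib.Involution.DihedralSylow.refl_orderOf hg 1
    rwa [zpow_one] at this
  have hkz : c * j * z = z * (c * j) := hSz _ (mul_mem hcS hjS)
  by_cases hfix : ∀ a ∈ A, c * j * a = a * (c * j) → a = 1
  · -- `C(z)` is a D-group containing a Sylow subgroup
    obtain ⟨hinvk, -⟩ := CfsgLib.Characterizations.BSW.inverts_of_fpf (A := A) hk2 (hAn _ hkz) hfix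
    have hcA : ∀ a ∈ A, Commute c a := by
      intro a ha
      refine conj_eq_iff.1 ?_
      calc c * a * c⁻¹ = c * j * (j⁻¹ * a * j) * (c * j)⁻¹ := by group
        _ = a := by
          rw [inv_eq hj2, show j * a * j = j * a * j⁻¹ by rw [inv_eq hj2], hinvA a ha,
            hinvk _ (inv_mem ha), inv_inv]
    let B' : Subgroup G :=
      { carrier := {x | ∃ a ∈ A, ∃ i : ℤ, x = a * c ^ i}
        one_mem' := ⟨1, one_mem _, 0, by rw [zpow_zero, mul_one]⟩
        mul_mem' := by
          rintro _ _ ⟨a, ha, i, rfl⟩ ⟨b, hb, l, rfl⟩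
          refine ⟨a * b, mul_mem ha hb, i + l, ?_⟩
          rw [mul_assoc a, ← mul_assoc (c ^ i), ((hcA b hb).zpow_left i).eq, mul_assoc b, ← zpow_add,
            ← mul_assoc]
        inv_mem' := by
          rintro _ ⟨a, ha, i, rfl⟩
          exact ⟨a⁻¹, inv_mem ha, -i, by
            rw [mul_inv_rev, ← zpow_neg, ((hcA _ (inv_mem ha)).zpow_left (-i)).eq]⟩ }
    have hrot : ∀ i : ℤ, c ^ i ∈ B' := fun i => ⟨1, one_mem _, i, (one_mul _).symm⟩
    have hzB' : z ∈ B' := by rw [← hz, ← zpow_natCast]; exact hrot _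
    have hodd2 : ∀ a ∈ A, a ∈ (S : Subgroup G) → a = 1 := fun a ha haS => by
      obtain ⟨k, hk⟩ := twoEl_of_mem S.2 haS
      exact two_odd_one hk (hAo a ha).1
    have hone : One z B' := by
      rintro _ ⟨a, ha, i, rfl⟩ hω
      have hsq := mul_self hω
      rw [((hcA a ha).zpow_left i).mul_mul_mul_comm] at hsq
      have haa : a = 1 := odd_one_of_sq (hAo a ha).1 (hodd2 _ (mul_mem ha ha) (by
        rw [mul_eq_one_iff_eq_inv.1 hsq]
        exact inv_mem (mul_mem (Subgroup.zpow_mem _ hcS i) (Subgroup.zpow_mem _ hcS i))))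
      rw [haa, one_mul] at hω hsq ⊢
      exact (hinvol i (by simpa using hsq)).resolve_left (ne_one hω)
    have hc' : Cfg z B' j := by
      refine Cfg.mk' hz2 hzB' ?_ hj2 ?_ ?_ ?_ hone
      · rintro _ ⟨a, ha, i, rfl⟩ _ ⟨b, hb, l, rfl⟩
        have c1 : Commute a b := hAcomm a ha b hb
        exact ((c1.mul_right ((hcA a ha).zpow_left l).symm).mul_left
          (((hcA b hb).zpow_left i).mul_right (Commute.zpow_zpow_self c i l))).eq
      · rintro ⟨a, ha, i, e⟩
        have haS : a ∈ (S : Subgroup G) := by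
          rw [show a = j * (c ^ i)⁻¹ by rw [e]; group]
          exact mul_mem hjS (inv_mem (Subgroup.zpow_mem _ hcS i))
        rw [hodd2 a ha haS, one_mul] at e
        exact hg.nb ⟨i, e.symm⟩
      · rintro _ ⟨a, ha, i, rfl⟩
        rw [← conj_mul, hinvA a ha, ← _root_.conj_zpow, hg.conj, inv_zpow, mul_inv_rev,
          (((hcA a ha).zpow_left i).inv_left.inv_right).eq]
      · intro g hgz
        obtain ⟨x, hx, hxa⟩ := hCS g hgz
        have e : g = x * (x⁻¹ * g) := by group
        rcases hg.cases x hx with ⟨i, rfl⟩ | ⟨i, rfl⟩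
        · refine Or.inl ⟨_, hxa, i, ?_⟩
          conv_lhs => rw [e]
          exact ((hcA _ hxa).zpow_left i).eq
        · refine Or.inr ⟨_, inv_mem hxa, i, ?_⟩
          conv_lhs => rw [e]
          rw [mul_assoc, mul_assoc (c ^ i), ← hinvA _ hxa, inv_eq hj2]
          have h5 := ((hcA _ (hAn j hjz _ hxa)).zpow_left i).eq
          rw [inv_eq hj2] at h5
          calc c ^ i * (j * ((c ^ i * j)⁻¹ * g * j)) = c ^ i * (j * ((c ^ i * j)⁻¹ * g) * j) := by group
            _ = _ := by rw [h5]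
    have hT : (S : Subgroup G) = hc'.T2 := by
      refine (S.3 hc'.T2_isPGroup fun x hx => ?_).symm
      rcases hg.cases x hx with ⟨i, rfl⟩ | ⟨i, rfl⟩
      · exact Or.inl ⟨hrot i, twoEl_of_mem S.2 hx⟩
      · refine Or.inr ?_
        rw [mul_assoc, mul_self hj2, mul_one]
        exact ⟨hrot i, twoEl_of_mem S.2 (Subgroup.zpow_mem _ hcS i)⟩
    obtain ⟨hG, hex⟩ := two_class hO hns hc' hone ⟨S, hT⟩
    exact ⟨hG, hex j hj2 hjM⟩
  · exfalso
    push Not at hfix
    obtain ⟨y₀, hy₀A, hy₀k, hy₀1⟩ := hfix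
    set A2 := A ⊓ Subgroup.centralizer ({c * j} : Set G) with hA2
    have hA2M : A2 ≤ M := fun a ha => mem_oddGen (hAo a ha.1).1
    have hMns : ¬ Group.IsSolvable M := oddGen_not_solvable hns
    obtain ⟨Q, hQ⟩ := sylow_inf S M
    have hQcyc := not_isCyclic_sylow hMns Q
    obtain ⟨x, hxQ, hxrot⟩ : ∃ x ∈ (Q : Subgroup M), (x : G) ∉ Subgroup.zpowers c := by
      by_contra hcon
      push Not at hcon
      exact hQcyc (isCyclic_of_injective
        (MonoidHom.mk' (fun q : (Q : Subgroup M) => (⟨((q : M) : G), hcon q q.2⟩ : Subgroup.zpowers c))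
          fun a b => rfl) fun a b e => Subtype.ext (Subtype.ext (congrArg Subtype.val e :)))
    have hcj : c * j ∈ M := by
      rcases hg.cases x ((hQ x).1 hxQ) with ⟨i, hi⟩ | ⟨i, hi⟩
      · exact absurd ⟨i, hi.symm⟩ hxrot
      rcases Int.even_or_odd i with ⟨l, hl⟩ | ⟨l, hl⟩
      · exfalso
        have := hMn.conj_mem _ x.2 (c ^ (-l))
        rw [hi, CfsgLib.Involution.DihedralSylow.conj_rot hg, hl, show l + l + 2 * -l = 0 by ring, zpow_zero,
          one_mul] at this
        exact hjM this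
      · have := hMn.conj_mem _ x.2 (c ^ (-l))
        rwa [hi, CfsgLib.Involution.DihedralSylow.conj_rot hg, hl, show 2 * l + 1 + 2 * -l = 1 by ring,
          zpow_one] at this
    have hccM : c * c ∈ M := by
      have := mul_mem (hMn.conj_mem _ hcj c) hcj
      rwa [show c * (c * j) * c⁻¹ * (c * j) = c * c * (j * j) by group, mul_self hj2, mul_one] at this
    have hcM : c ∉ M := fun hc => hjM ((M.mul_mem_cancel_left hc).1 hcj)
    have hccS : c * c ∈ (S : Subgroup G) := mul_mem hcS hcS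
    set σ : M := ⟨c * c, hccM⟩ with hσ
    set k : M := ⟨c * j, hcj⟩ with hk
    have hpow : ∀ l : ℤ, ((σ ^ l : M) : G) = c ^ (2 * l) := fun l => by
      rw [SubgroupClass.coe_zpow, zpow_mul, zpow_two]
    have hzM : z ∈ M := by
      have e : (c * c) ^ 2 ^ n = z := by rw [← pow_two, ← pow_mul, ← pow_succ', hz]
      rw [← e]; exact pow_mem hccM _
    set z' : M := ⟨z, hzM⟩ with hz'
    have hgQ : Gen (Q : Subgroup M) σ k n := by
      refine ⟨(hQ σ).2 hccS, (hQ k).2 (mul_mem hcS hjS), ?_, Subtype.ext (mul_self hk2), ?_, Subtype.ext ?_,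
        fun u hu => ?_⟩
      · rw [← Subgroup.orderOf_coe]
        show orderOf (c * c) = 2 ^ (n + 1)
        rw [← pow_two, orderOf_pow_of_dvd two_ne_zero (hg.ord ▸ dvd_pow_self 2 (by omega)), hg.ord,
          pow_succ, Nat.mul_div_cancel _ two_pos]
      · intro hc
        obtain ⟨l, hl⟩ := Subgroup.mem_zpowers_iff.1 hc
        have e := congrArg Subtype.val hl
        rw [hpow] at e
        exact CfsgLib.Involution.DihedralSylow.refl_not_rot hg 1 ⟨2 * l, by rw [zpow_one]; exact e⟩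
      · show c * j * (c * c) * (c * j)⁻¹ = (c * c)⁻¹
        calc c * j * (c * c) * (c * j)⁻¹ = c * (j * c * j⁻¹) * (j * c * j⁻¹) * c⁻¹ := by group
          _ = (c * c)⁻¹ := by rw [hg.conj]; group
      · rcases hg.cases u ((hQ u).1 hu) with ⟨i, hi⟩ | ⟨i, hi⟩ <;>
          rcases Int.even_or_odd i with ⟨l, hl⟩ | ⟨l, hl⟩
        · exact Or.inl ⟨l, Subtype.ext (by rw [hpow, hi, hl]; congr 1; ring)⟩
        · refine absurd ?_ hcM
          have := mul_mem (inv_mem (σ ^ l).2) u.2
          rwa [hpow, hi, hl, zpow_add_one, inv_mul_cancel_left] at this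
        · refine absurd ?_ hjM
          have := mul_mem (inv_mem (σ ^ l).2) u.2
          rwa [hpow, hi, hl, ← two_mul, inv_mul_cancel_left] at this
        · refine Or.inr ⟨l, Subtype.ext ?_⟩
          rw [Subgroup.coe_mul, hpow, hi, hl, zpow_add_one, mul_assoc]
    -- `C(z) ∩ M` centralizes `A2`
    have hcentA2 : ∀ g ∈ M, g * z = z * g → ∀ y ∈ A2, g * y = y * g := by
      intro g hgM hgz y hy
      obtain ⟨x, hx, hxa⟩ := hCS g hgz
      have hxM : x ∈ M := by
        have := mul_mem hgM (inv_mem (mem_oddGen (hAo _ hxa).1))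
        rwa [show g * (x⁻¹ * g)⁻¹ = x by group] at this
      have hxy : Commute x y := by
        rcases hgQ.cases ⟨x, hxM⟩ ((hQ ⟨x, hxM⟩).2 hx) with ⟨l, hl⟩ | ⟨l, hl⟩ <;>
          rw [show x = ((⟨x, hxM⟩ : M) : G) from rfl, hl]
        · rw [SubgroupClass.coe_zpow]; exact (show Commute (c * c) y from hA2c y hy.1).zpow_left l
        · rw [Subgroup.coe_mul, SubgroupClass.coe_zpow]
          exact ((show Commute (c * c) y from hA2c y hy.1).zpow_left l).mul_left (mem_C.1 hy.2).symm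
      have e : g = x * (x⁻¹ * g) := by group
      rw [e]
      exact (hxy.mul_left (hAcomm _ hxa y hy.1)).eq
    -- fusion of `z` inside the normalizer of `A2`
    obtain ⟨g, hgz⟩ : ∃ g : M, g * z' * g⁻¹ = k := by
      have hi : (Subgroup.zpowers σ).relIndex (Q : Subgroup M) = 2 := by
        refine Subgroup.relIndex_eq_two_iff.2 ⟨k, hgQ.bmem, fun b hb => ?_⟩
        rcases hgQ.cases b hb with ⟨i, rfl⟩ | ⟨i, rfl⟩
        · exact Or.inr ⟨Subgroup.zpow_mem _ (Subgroup.mem_zpowers σ) i,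
            CfsgLib.Involution.DihedralSylow.refl_not_rot hgQ i⟩
        · exact Or.inl ⟨by rw [mul_assoc, hgQ.bb, mul_one]; exact Subgroup.zpow_mem _ (Subgroup.mem_zpowers σ) i,
            CfsgLib.Involution.DihedralSylow.refl_not_rot hgQ i⟩
      rcases CfsgLib.Fusion.ThompsonTransfer.thompson_transfer Q _ (Subgroup.zpowers_le.2 hgQ.amem) hi k
        (by rw [pow_two, hgQ.bb]) hgQ.bmem hgQ.nb with ⟨M', hn, hi', -⟩ | ⟨g, hg'⟩
      · exact (oddGen_eq_of_index_two hn hi').elim
      · obtain ⟨l, hl⟩ := Subgroup.mem_zpowers_iff.1 hg'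
        refine ⟨g⁻¹, ?_⟩
        have e : ((σ ^ l : M) : G) = z := by
          refine (hpow l).trans ((hinvol (2 * l) ?_).resolve_left ?_)
          · rw [← hpow, ← Subgroup.coe_mul, hl, conj_mul, hgQ.bb]; simp
          · rw [← hpow, hl]
            intro h1
            have : (k : G) = 1 := congrArg Subtype.val (conj_eq_one_iff.1 (Subtype.ext h1 : g * k * g⁻¹ = 1))
            exact ne_one hk2 this
        rw [show z' = σ ^ l from Subtype.ext e.symm, hl]; group
    have hgz' : (g : G) * z * (g : G)⁻¹ = c * j := congrArg Subtype.val hgz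
    have hgA : ∀ y ∈ A2, (g : G) * y * (g : G)⁻¹ ∈ A2 := by
      intro y hy
      set x := (g : G)⁻¹ * z * g with hx
      have hxz : x * z = z * x := by
        calc x * z = (g : G)⁻¹ * (z * ((g : G) * z * (g : G)⁻¹)) * g := by rw [hx]; group
          _ = (g : G)⁻¹ * ((g : G) * z * (g : G)⁻¹ * z) * g := by rw [hgz', hkz]
          _ = _ := by rw [hx]; group
      have hxy := hcentA2 x (mul_mem (mul_mem (inv_mem g.2) hzM) g.2) hxz y hy
      have hyz : (g : G) * y * (g : G)⁻¹ * z = z * ((g : G) * y * (g : G)⁻¹) := by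
        calc (g : G) * y * (g : G)⁻¹ * z = (g : G) * (y * x) * (g : G)⁻¹ := by rw [hx]; group
          _ = (g : G) * (x * y) * (g : G)⁻¹ := by rw [hxy]
          _ = _ := by rw [hx]; group
      refine ⟨hoA _ (by rw [CfsgLib.Involution.Dihedral.orderOf_conj]; exact (hAo y hy.1).1) hyz, mem_C.2 ?_⟩
      rw [← hgz', conj_mul, conj_mul, (hAo y hy.1).2]
    have hcA2 : ∀ y ∈ A2, c * y * c⁻¹ ∈ A2 := by
      intro y hy
      refine ⟨hAn c hcz y hy.1, mem_C.2 ?_⟩
      have h5 : Commute ((c * c)⁻¹ * (c * j)) y :=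
        (Commute.inv_left (hA2c y hy.1)).mul_left (mem_C.1 hy.2).symm
      have e : (c * c)⁻¹ * (c * j) = j * c := by
        calc (c * c)⁻¹ * (c * j) = c⁻¹ * j := by group
          _ = j * c * j⁻¹ * j := by rw [hg.conj]
          _ = j * c := by group
      rw [e] at h5
      calc c * y * c⁻¹ * (c * j) = c * (y * (j * c)) * c⁻¹ := by group
        _ = c * (j * c * y) * c⁻¹ := by rw [h5.eq]
        _ = _ := by group
    -- a strongly embedded subgroup of `M`
    set K := Subgroup.normalizer ((A2.subgroupOf M : Subgroup M) : Set M) with hK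
    have hmK : ∀ u : M, (∀ y ∈ A2, (u : G) * y * (u : G)⁻¹ ∈ A2) → u ∈ K := fun u hu =>
      mem_normalizer_of_maps fun y hy => hu y hy
    have hCK : ∀ u : M, u * z' = z' * u → u ∈ K := fun u hu => hmK u fun y hy => by
      rw [hcentA2 u u.2 (congrArg Subtype.val hu) y hy, mul_inv_cancel_right]; exact hy
    have hQK : (Q : Subgroup M) ≤ K := fun u hu => hCK u (Subtype.ext (hSz _ ((hQ u).1 hu)))
    have hpowA2 : ∀ i : ℤ, c ^ i ∈ Subgroup.normalizer (A2 : Set G) := fun i =>
      Subgroup.zpow_mem _ (mem_normalizer_of_maps hcA2) i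
    have hKz : ∀ i ∈ K, orderOf i = 2 → ∃ d ∈ K, d * i * d⁻¹ = z' := by
      intro i hi hi2
      obtain ⟨d, hd⟩ := exists_conj_mem_sylow (Q.subtype hQK) (x := (⟨i, hi⟩ : K))
        (twoEl_of_order (by rw [← Subgroup.orderOf_coe]; exact hi2))
      have hdQ : (d : M) * i * (d : M)⁻¹ ∈ (Q : Subgroup M) := hd
      have hd2 : orderOf ((d : M) * i * (d : M)⁻¹) = 2 := by rw [CfsgLib.Involution.Dihedral.orderOf_conj, hi2]
      rcases hgQ.cases _ hdQ with ⟨l, hl⟩ | ⟨l, hl⟩
      · refine ⟨d, d.2, Subtype.ext ?_⟩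
        rw [hl, hpow]
        refine (hinvol (2 * l) ?_).resolve_left ?_
        · rw [← hpow, ← Subgroup.coe_mul, ← hl, mul_self hd2]; rfl
        · rw [← hpow, ← hl]
          exact fun e => ne_one hd2 (Subtype.ext e)
      · -- a reflection: the conjugate of `g` by a power of `c` fuses it with `z`
        set f : M := ⟨c ^ l * (g : G) * (c ^ l)⁻¹, hMn.conj_mem _ g.2 _⟩ with hf
        have hfK : f ∈ K := hmK f fun y hy => by
          have hn : c ^ l * (g : G) * (c ^ l)⁻¹ ∈ Subgroup.normalizer (A2 : Set G) :=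
            mul_mem (mul_mem (hpowA2 l) (mem_normalizer_of_maps hgA)) (inv_mem (hpowA2 l))
          exact (Subgroup.mem_normalizer_iff.1 hn y).1 hy
        have hfz : f * z' * f⁻¹ = (d : M) * i * (d : M)⁻¹ := by
          rw [hl]
          refine Subtype.ext ?_
          rw [show ((σ ^ l * k : M) : G) = c ^ (2 * l) * (c * j) by rw [Subgroup.coe_mul, hpow]]
          show c ^ l * (g : G) * (c ^ l)⁻¹ * z * (c ^ l * (g : G) * (c ^ l)⁻¹)⁻¹ = c ^ (2 * l) * (c * j)
          have hzl : (c ^ l)⁻¹ * z * c ^ l = z := by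
            rw [mul_assoc, ← (Commute.zpow_left (show Commute c z from hcz) l).eq, inv_mul_cancel_left]
          calc c ^ l * (g : G) * (c ^ l)⁻¹ * z * (c ^ l * (g : G) * (c ^ l)⁻¹)⁻¹
              = c ^ l * ((g : G) * ((c ^ l)⁻¹ * z * c ^ l) * (g : G)⁻¹) * (c ^ l)⁻¹ := by group
            _ = c ^ l * (c ^ (1 : ℤ) * j) * (c ^ l)⁻¹ := by rw [hzl, hgz', zpow_one]
            _ = c ^ (1 + 2 * l) * j := CfsgLib.Involution.DihedralSylow.conj_rot hg l 1
            _ = _ := by rw [add_comm, zpow_add_one, mul_assoc]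
        refine ⟨f⁻¹ * d, mul_mem (inv_mem hfK) d.2, ?_⟩
        rw [show f⁻¹ * (d : M) * i * (f⁻¹ * (d : M))⁻¹ = f⁻¹ * ((d : M) * i * (d : M)⁻¹) * f by group, ← hfz]
        group
    have hOM := oddCore_subgroup_bot hO M
    have hA2odd : Odd (Nat.card (A2.subgroupOf M)) := by
      rw [Nat.card_congr (Subgroup.subgroupOfEquivOfLe hA2M).toEquiv]
      refine Odd.of_dvd_nat ?_ (Subgroup.card_dvd_of_le (inf_le_left : A2 ≤ A))
      rwa [hA, CfsgLib.Coprime.card_map_subtype]
    have hy₀ : y₀ ∈ A2 := ⟨hy₀A, mem_C.2 hy₀k.symm⟩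
    have hE : Emb K := by
      refine ⟨fun htop => hy₀1 ?_, fun i hi hi2 u hu => ?_, fun i hi i' hi' hi2 hi'2 => ?_⟩
      · have hn : (A2.subgroupOf M).Normal := Subgroup.normalizer_eq_top_iff.1 htop
        have := (CfsgLib.Involution.ZStar.le_oddCore hn hA2odd) (show (⟨y₀, hA2M hy₀⟩ : M) ∈ A2.subgroupOf M from hy₀)
        rw [hOM, Subgroup.mem_bot] at this
        exact congrArg Subtype.val this
      · obtain ⟨d, hd, e⟩ := hKz i hi hi2
        have h2 := hCK (d * u * d⁻¹) (by rw [← e, conj_mul, conj_mul, hu])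
        have := mul_mem (mul_mem (inv_mem hd) h2) hd
        rwa [show d⁻¹ * (d * u * d⁻¹) * d = u by group] at this
      · obtain ⟨d, hd, e⟩ := hKz i hi hi2
        obtain ⟨d', hd', e'⟩ := hKz i' hi' hi'2
        refine ⟨d'⁻¹ * d, mul_mem (inv_mem hd') hd, ?_⟩
        rw [show d'⁻¹ * d * i * (d'⁻¹ * d)⁻¹ = d'⁻¹ * (d * i * d⁻¹) * d' by group, e, ← e']
        group
    rcases Nat.eq_zero_or_pos n with rfl | hn
    · have hσz : σ = z' := Subtype.ext (by
        show c * c = z
        rw [← hz, zero_add, pow_one, pow_two])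
      have f : Fr z' k := ⟨by rw [← Subgroup.orderOf_coe]; exact hz2, by rw [← Subgroup.orderOf_coe]; exact hk2,
        Subtype.ext hkz.symm, fun e => hgQ.nb ⟨1, by show σ ^ (1 : ℤ) = k; rw [zpow_one, hσz, e]⟩⟩
      have hQeq : (Q : Subgroup M) = f.grp := by
        refine le_antisymm (fun u hu => ?_) ((Subgroup.closure_le _).2 ?_)
        · have hzk : z' ∈ f.grp ∧ k ∈ f.grp :=
            ⟨f.mem_grp.2 (Or.inr (Or.inl rfl)), f.mem_grp.2 (Or.inr (Or.inr (Or.inl rfl)))⟩
          rcases hgQ.cases u hu with ⟨l, rfl⟩ | ⟨l, rfl⟩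
          · exact Subgroup.zpow_mem _ (by rw [hσz]; exact hzk.1) l
          · exact mul_mem (Subgroup.zpow_mem _ (by rw [hσz]; exact hzk.1) l) hzk.2
        · rintro u (rfl | rfl)
          · exact hσz ▸ hgQ.amem
          · exact hgQ.bmem
      have hsq : ∀ u : Q, u * u = 1 := fun u => by
        refine Subtype.ext ?_
        rcases f.mem_grp.1 (hQeq.le u.2) with e | e
        · show (u : M) * u = 1
          rw [e, one_mul]
        · exact mul_self (f.lab e).1
      obtain ⟨-, h120⟩ := hE.four_embed hOM Q hQK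
        (by rw [show Nat.card Q = Nat.card (Q : Subgroup M) from rfl, hQeq, f.grp_card]) hsq
        (hσz ▸ hgQ.amem : z' ∈ (Q : Subgroup M)) f.hi
      have e := h120 ⟨y₀, hA2M hy₀⟩ (by rw [← Subgroup.orderOf_coe]; exact (hAo y₀ hy₀A).1) fun v hv =>
        Subtype.ext (hcentA2 v v.2 (hSz _ ((hQ v).1 hv)) y₀ hy₀).symm
      exact hy₀1 (congrArg Subtype.val e)
    · exact hE.not_dihedral Q hQK hgQ hn

/-- The Sylow 2-subgroups are not semidihedral. -/
theorem semidihedral_case (hO : Cfsg.oddCore G = ⊥) (hns : ¬ Group.IsSolvable G) {j z a : G} {B : Subgroup G}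
    (h : Cfg j B z) (hsmall : ∀ x ∈ h.Bt, x = 1 ∨ x = j) (S : Sylow 2 G) {n : ℕ} (haS : a ∈ (S : Subgroup G))
    (hjS : j ∈ (S : Subgroup G)) (hord : orderOf a = 2 ^ (n + 3)) (hz : a ^ 2 ^ (n + 2) = z)
    (hconj : j * a * j⁻¹ = z * a⁻¹) (hjrot : j ∉ Subgroup.zpowers a)
    (hcases : ∀ x ∈ (S : Subgroup G), (∃ i : ℤ, x = a ^ i) ∨ ∃ i : ℤ, x = a ^ i * j) : False := by
  classical
  haveI : Fact (Nat.Prime 2) := ⟨Nat.prime_two⟩
  have hj2 := h.hj
  have hz2 := h.hs
  have hzS : z ∈ (S : Subgroup G) := hz ▸ pow_mem haS _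
  have haz : Commute a z := hz ▸ Commute.self_pow a _
  have hjz : Commute j z := h.s_comm.symm
  have hSz : ∀ x ∈ (S : Subgroup G), x * z = z * x := by
    intro x hx
    rcases hcases x hx with ⟨i, rfl⟩ | ⟨i, rfl⟩
    · exact (haz.zpow_left i).eq
    · exact ((haz.zpow_left i).mul_left hjz).eq
  have hpow4 : ∀ m : ℕ, m < n + 3 → a ^ 2 ^ m ≠ 1 := fun m hm e => by
    have h1 := orderOf_dvd_of_pow_eq_one e
    rw [hord, Nat.pow_dvd_pow_iff_le_right (by norm_num : 1 < 2)] at h1
    omega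
  have hnc := not_conj_of_small h hsmall S hjS hzS hSz haS (by rw [← pow_two]; exact hpow4 1 (by omega))
  have hinvol : ∀ i : ℤ, a ^ i * a ^ i = 1 → a ^ i = 1 ∨ a ^ i = z := by
    intro i hi
    rw [← zpow_add, ← orderOf_dvd_iff_zpow_eq_one, hord] at hi
    obtain ⟨m, hm⟩ : (2 : ℤ) ^ (n + 2) ∣ i := by
      rw [← two_mul, pow_succ'] at hi
      push_cast at hi
      exact (mul_dvd_mul_iff_left two_ne_zero).1 hi
    rw [hm, show (2 : ℤ) ^ (n + 2) = ((2 ^ (n + 2) : ℕ) : ℤ) by push_cast; rfl, zpow_mul, zpow_natCast, hz]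
    rcases Int.even_or_odd m with ⟨l, rfl⟩ | ⟨l, rfl⟩
    · exact Or.inl (by rw [← two_mul, zpow_mul, zpow_two, mul_self hz2, one_zpow])
    · exact Or.inr (by rw [zpow_add_one, zpow_mul, zpow_two, mul_self hz2, one_zpow, one_mul])
  have hjpow : ∀ i : ℤ, j * a ^ i * j⁻¹ = z ^ i * a ^ (-i) := fun i => by
    rw [← _root_.conj_zpow, hconj, (haz.symm.inv_right).mul_zpow, inv_zpow, zpow_neg]
  -- an index two subgroup avoiding `j`, with quaternion Sylow subgroups
  obtain ⟨M', hM'n, hi', hjM'⟩ : ∃ M' : Subgroup G, M'.Normal ∧ M'.index = 2 ∧ j ∉ M' := by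
    have hi : (Subgroup.zpowers a).relIndex (S : Subgroup G) = 2 := by
      refine Subgroup.relIndex_eq_two_iff.2 ⟨j, hjS, fun b hb => ?_⟩
      rcases hcases b hb with ⟨i, rfl⟩ | ⟨i, rfl⟩
      · exact Or.inr ⟨Subgroup.zpow_mem _ (Subgroup.mem_zpowers a) i, fun hc =>
          hjrot ((Subgroup.mul_mem_cancel_left _ (Subgroup.zpow_mem _ (Subgroup.mem_zpowers a) i)).1 hc)⟩
      · exact Or.inl ⟨by rw [mul_assoc, mul_self hj2, mul_one]; exact Subgroup.zpow_mem _ (Subgroup.mem_zpowers a) i,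
          fun hc => hjrot ((Subgroup.mul_mem_cancel_left _ (Subgroup.zpow_mem _ (Subgroup.mem_zpowers a) i)).1 hc)⟩
    rcases CfsgLib.Fusion.ThompsonTransfer.thompson_transfer S _ (Subgroup.zpowers_le.2 haS) hi j
      (by rw [pow_two, mul_self hj2]) hjS hjrot with ⟨M', hn, hi', hjM'⟩ | ⟨g, hg'⟩
    · exact ⟨M', hn, hi', hjM'⟩
    · obtain ⟨i, hi'⟩ := Subgroup.mem_zpowers_iff.1 hg'
      exfalso
      rcases hinvol i (by rw [hi', conj_mul, mul_self hj2]; group) with e | e
      · exact conj_ne_one (ne_one hj2) (hi'.symm.trans e)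
      · refine hnc g⁻¹ ?_
        rw [← e, hi']; group
  haveI := hM'n
  have hM'ns : ¬ Group.IsSolvable M' := fun hs => by
    haveI : Group.IsSolvable (G ⧸ M') := Group.isSolvable_of_comm fun x y => by
      have h2 : Nat.card (G ⧸ M') = 2 := by rw [← Subgroup.index_eq_card, hi']
      haveI : IsCyclic (G ⧸ M') := isCyclic_of_prime_card (p := 2) h2
      exact IsCyclic.commGroup.mul_comm x y
    exact hns ((Group.isSolvable_iff_subgroup_quotient M').2 ⟨hs, inferInstance⟩)
  obtain ⟨Q, hQ⟩ := sylow_inf S M'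
  have hQcyc := not_isCyclic_sylow hM'ns Q
  have heven : ∀ i : ℤ, Even i → a ^ i ∈ M' := by
    rintro i ⟨l, rfl⟩
    rw [zpow_add]; exact Subgroup.mul_self_mem_of_index_two hi' _
  have haM : a ∉ M' := by
    intro haM
    refine hQcyc (isCyclic_of_injective
      (MonoidHom.mk' (fun q : (Q : Subgroup M') => (⟨((q : M') : G), ?_⟩ : Subgroup.zpowers a))
        fun u v => rfl) fun u v e => Subtype.ext (Subtype.ext (congrArg Subtype.val e :)))
    rcases hcases _ ((hQ q).1 q.2) with ⟨i, hi⟩ | ⟨i, hi⟩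
    · exact ⟨i, hi.symm⟩
    · exfalso
      have := (q : M').2
      rw [hi] at this
      exact hjM' ((M'.mul_mem_cancel_left (Subgroup.zpow_mem _ haM i)).1 this)
  have hzM' : z ∈ M' := by
    rw [← hz, ← zpow_natCast]; exact heven _ ⟨2 ^ (n + 1), by push_cast; ring⟩
  have hQinv : ∀ u : M', u ∈ (Q : Subgroup M') → orderOf u = 2 → (u : G) = z := by
    intro u hu hu2
    have hsq : (u : G) * u = 1 := mul_self (by rw [Subgroup.orderOf_coe, hu2])
    rcases hcases _ ((hQ u).1 hu) with ⟨i, hi⟩ | ⟨i, hi⟩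
    · rw [hi] at hsq ⊢
      refine (hinvol i hsq).resolve_left fun e => ne_one hu2 (Subtype.ext ?_)
      rw [hi, e]; rfl
    · exfalso
      rcases Int.even_or_odd i with hev | ⟨l, hl⟩
      · have := u.2
        rw [hi] at this
        exact hjM' ((M'.mul_mem_cancel_left (heven i hev)).1 this)
      · have e : a ^ i * j * (a ^ i * j) = z := by
          calc a ^ i * j * (a ^ i * j) = a ^ i * (j * a ^ i * j⁻¹) * (j * j) := by group
            _ = z ^ i * (a ^ i * a ^ (-i)) := by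
              rw [hjpow, mul_self hj2, mul_one, ← mul_assoc, ((haz.zpow_zpow i i)).eq, mul_assoc]
            _ = z := by
              rw [← zpow_add, add_neg_cancel, zpow_zero, mul_one, hl, zpow_add_one, zpow_mul, zpow_two,
                mul_self hz2, one_zpow, one_mul]
        rw [hi, e] at hsq
        exact ne_one hz2 hsq
  set z' : M' := ⟨z, hzM'⟩ with hz'
  have hz'c : z' ∈ Subgroup.center M' := by
    have hfew : Nat.card {x : (Q : Subgroup M') // x ^ 2 = 1} ≤ 2 := by
      have hinj : Function.Injective fun x : {x : (Q : Subgroup M') // x ^ 2 = 1} => (decide (x.1 = 1) : Bool) := by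
        rintro ⟨u, hu⟩ ⟨v, hv⟩ e
        simp only [decide_eq_decide] at e
        apply Subtype.ext
        show u = v
        by_cases hu1 : u = 1
        · rw [hu1, e.mp hu1]
        · have hv1 : v ≠ 1 := fun h' => hu1 (e.mpr h')
          refine Subtype.ext (Subtype.ext ?_)
          rw [hQinv u u.2 (by rw [Subgroup.orderOf_coe]; exact orderOf_eq_prime hu hu1),
            hQinv v v.2 (by rw [Subgroup.orderOf_coe]; exact orderOf_eq_prime hv hv1)]
      exact (Nat.card_le_card_of_injective _ hinj).trans (by simp)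
    rcases CfsgLib.FrobRealize.Quaternion.cyclic_or_quaternion Q.2 hfew with hc | ⟨-, m, ⟨e⟩⟩
    · exact absurd hc hQcyc
    rcases m with - | m
    · exfalso
      refine hQcyc (e.symm.isCyclic.1 (isCyclic_of_orderOf_eq_card (QuaternionGroup.xa 0) ?_))
      rw [QuaternionGroup.orderOf_xa, Nat.card_eq_fintype_card, QuaternionGroup.card, pow_zero]
      norm_num
    refine CfsgLib.BrauerSuzuki.involution_mem_center Q m e (fun M hM hodd => ?_)
      (by rw [← Subgroup.orderOf_coe]; exact hz2)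
    exact le_bot_iff.1 ((CfsgLib.Involution.ZStar.le_oddCore hM hodd).trans (oddCore_subgroup_bot hO M').le)
  have hzc : z ∈ Subgroup.center G := by
    refine Subgroup.mem_center_iff.2 fun g => conj_eq_iff.1 ?_
    set u : M' := ⟨g * z * g⁻¹, hM'n.conj_mem _ hzM' g⟩ with hu
    have huc : ∀ w : M', w * u = u * w := fun w => Subtype.ext (by
      have h1 : g⁻¹ * (w : G) * g * z = z * (g⁻¹ * (w : G) * g) := congrArg Subtype.val
        (Subgroup.mem_center_iff.1 hz'c ⟨g⁻¹ * (w : G) * g, by simpa using hM'n.conj_mem _ w.2 g⁻¹⟩)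
      calc (w : G) * (g * z * g⁻¹) = g * (g⁻¹ * (w : G) * g * z) * g⁻¹ := by group
        _ = g * (z * (g⁻¹ * (w : G) * g)) * g⁻¹ := by rw [h1]
        _ = _ := by show _ = g * z * g⁻¹ * w; group)
    have hu2 : orderOf u = 2 := by
      rw [← Subgroup.orderOf_coe]
      show orderOf (g * z * g⁻¹) = 2
      rw [CfsgLib.Involution.Dihedral.orderOf_conj, hz2]
    obtain ⟨m, hm⟩ := exists_conj_mem_sylow Q (twoEl_of_order hu2)
    rw [huc m, mul_inv_cancel_right] at hm
    exact hQinv u hm hu2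
  have hzg : ∀ g : G, g * z = z * g := fun g => Subgroup.mem_center_iff.1 hzc g
  -- `C(j)` is a four group
  have hV : ∀ g : G, g * j = j * g → g = 1 ∨ g = j ∨ g = z ∨ g = j * z := by
    have hb : ∀ b ∈ B, b = 1 ∨ b = j := fun b hb => hsmall b (h.sq_mem_Bt hb (by
      have e := h.hinv b hb
      rw [conj_eq_iff.2 (hzg b).symm] at e
      exact inv_eq_iff_mul_eq_one.1 e.symm))
    intro g hg
    rcases h.hH g hg with hgB | hgB
    · rcases hb g hgB with e | e
      · exact Or.inl e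
      · exact Or.inr (Or.inl e)
    · have e0 : g = g * z * z := by rw [mul_assoc, mul_self hz2, mul_one]
      rcases hb _ hgB with e | e <;> rw [e] at e0
      · exact Or.inr (Or.inr (Or.inl (by rw [e0, one_mul])))
      · exact Or.inr (Or.inr (Or.inr e0))
  set Z := Subgroup.zpowers z with hZ
  haveI hZn : Z.Normal := ⟨fun x hx g => by
    obtain ⟨i, rfl⟩ := Subgroup.mem_zpowers_iff.1 hx
    rw [((show Commute g z from hzg g).zpow_right i).eq, mul_inv_cancel_right]
    exact Subgroup.zpow_mem _ (Subgroup.mem_zpowers z) i⟩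
  have hZmem : ∀ x : G, x ∈ Z → x = 1 ∨ x = z := fun x hx =>
    CfsgLib.Characterizations.BSW.mul_eq_one_of_zpow_involution hz2 hx
  set π := QuotientGroup.mk' Z with hπ
  have hker : ∀ x : G, π x = 1 ↔ x ∈ Z := fun x => QuotientGroup.eq_one_iff x
  have hO' : Cfsg.oddCore (G ⧸ Z) = ⊥ := by
    set N := (Cfsg.oddCore (G ⧸ Z)).comap π with hN
    haveI : (Cfsg.oddCore (G ⧸ Z)).Normal := CfsgLib.Involution.ZStar.oddCore_normal
    obtain ⟨N1, hN1, hN1o, hN1all, hN1odd⟩ := exists_odd_half (D := N) (j := z)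
      (show π z ∈ Cfsg.oddCore (G ⧸ Z) from (hker z).2 (Subgroup.mem_zpowers z) ▸ one_mem _) hz2
      fun x hx _ hx2 => by
        obtain ⟨k, hk⟩ := hx2
        refine hZmem x ((hker x).1 (two_odd_one (k := k) (by rw [← map_pow, hk, map_one]) ?_))
        exact CfsgLib.Involution.ZStar.odd_orderOf_of_mem hx
    have hN1n : N1.Normal := ⟨fun x hx g => hN1odd _ ((inferInstance : N.Normal).conj_mem x (hN1 hx) g)
      (by rw [CfsgLib.Involution.Dihedral.orderOf_conj]; exact odd_orderOf_mem hN1o hx)⟩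
    have hb := CfsgLib.Involution.ZStar.le_oddCore hN1n hN1o
    rw [hO, le_bot_iff] at hb
    subst hb
    refine (Subgroup.eq_bot_iff_forall _).2 fun q hq => ?_
    obtain ⟨x, rfl⟩ := QuotientGroup.mk'_surjective Z q
    refine (hker x).2 ?_
    rcases hN1all x hq with e | e
    · rw [Subgroup.mem_bot.1 e]; exact one_mem _
    · rw [eq_inv_of_mul_eq_one_left (Subgroup.mem_bot.1 e)]
      exact inv_mem (Subgroup.mem_zpowers z)
  have hns' : ¬ Group.IsSolvable (G ⧸ Z) := fun hs =>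
    hns ((Group.isSolvable_iff_subgroup_quotient Z).2
      ⟨Group.isSolvable_of_comm fun x y => Subtype.ext (by
        rcases hZmem x x.2 with e | e <;> rcases hZmem y y.2 with e' | e' <;>
          (show (x : G) * y = y * x; simp [e, e'])), hs⟩)
  -- the dihedral configuration in the quotient
  set r := a ^ 2 ^ (n + 1) with hr
  have hzev : z ^ ((2 ^ (n + 1) : ℕ) : ℤ) = 1 := by
    rw [zpow_natCast, pow_succ', pow_mul, pow_two, mul_self hz2, one_pow]
  have hjr : j * r * j⁻¹ = r⁻¹ := by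
    have := hjpow ((2 ^ (n + 1) : ℕ) : ℤ)
    rwa [hzev, one_mul, zpow_natCast, zpow_neg, zpow_natCast] at this
  have hrr : r * r = z := by rw [hr, ← pow_add, ← two_mul, ← pow_succ', hz]
  have hrj : r * j * r⁻¹ = j * z := by
    calc r * j * r⁻¹ = r * (j * r⁻¹ * j⁻¹) * j := by group
      _ = j * z := by
        rw [show j * r⁻¹ * j⁻¹ = (j * r * j⁻¹)⁻¹ by group, hjr, inv_inv, hrr, hzg j]
  have hjZ : j ∉ Z := fun hc => by
    rcases hZmem j hc with e | e
    · exact ne_one hj2 e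
    · exact h.hsB (e ▸ h.hjB)
  have hpj2 : orderOf (π j) = 2 := orderOf_eq_two (by rw [← map_mul, mul_self hj2, map_one])
    fun e => hjZ ((hker j).1 e)
  have hZa : ∀ x ∈ Z, x ∈ Subgroup.zpowers a := fun x hx =>
    (Subgroup.zpowers_le.2 (hz ▸ pow_mem (Subgroup.mem_zpowers a) _)) hx
  have hrZ : r ∉ Z := fun hc => by
    rcases hZmem r hc with e | e
    · exact hpow4 (n + 1) (by omega) e
    · rw [e, mul_self hz2] at hrr
      exact ne_one hz2 hrr.symm
  have hpr2 : orderOf (π r) = 2 := orderOf_eq_two (by rw [← map_mul, hrr]; exact (hker z).2 (Subgroup.mem_zpowers z))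
    fun e => hrZ ((hker r).1 e)
  have hcomm' : π r * π j = π j * π r := by
    refine conj_eq_iff.1 ?_
    rw [← map_inv, ← map_mul, ← map_mul, hrj, map_mul, (hker z).2 (Subgroup.mem_zpowers z), mul_one]
  have hB' : ∀ x ∈ Subgroup.zpowers (π j), x = 1 ∨ x = π j := fun x hx =>
    CfsgLib.Characterizations.BSW.mul_eq_one_of_zpow_involution hpj2 hx
  have hrB : π r ∉ Subgroup.zpowers (π j) := by
    intro hc
    have hra : r ∈ Subgroup.zpowers a := pow_mem (Subgroup.mem_zpowers a) _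
    rcases hB' _ hc with e | e
    · exact hrZ ((hker r).1 e)
    · have hm : r⁻¹ * j ∈ Z := (hker _).1 (by rw [map_mul, map_inv, e, inv_mul_cancel])
      exact hjrot ((Subgroup.mul_mem_cancel_left _ (inv_mem hra)).1 (hZa _ hm))
  have hc' : Cfg (π j) (Subgroup.zpowers (π j)) (π r) := by
    refine Cfg.mk' hpj2 (Subgroup.mem_zpowers _) ?_ hpr2 hrB ?_ ?_ ?_
    · intro x hx y hy
      rcases hB' x hx with rfl | rfl <;> rcases hB' y hy with rfl | rfl <;> simp
    · intro x hx
      rcases hB' x hx with rfl | rfl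
      · simp
      · rw [conj_eq_iff.2 hcomm', inv_eq hpj2]
    · intro q hq
      obtain ⟨g, rfl⟩ := QuotientGroup.mk'_surjective Z q
      have hm : g * j * g⁻¹ * j⁻¹ ∈ Z := (hker _).1 (by
        rw [map_mul, map_mul, map_mul, map_inv, map_inv, hq, mul_inv_cancel_right, mul_inv_cancel])
      have hπ4 : ∀ v : G, v = 1 ∨ v = j ∨ v = z ∨ v = j * z → π v ∈ Subgroup.zpowers (π j) := by
        rintro v (e | e | e | e) <;> rw [e]
        · rw [map_one]; exact one_mem _
        · exact Subgroup.mem_zpowers _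
        · rw [(hker z).2 (Subgroup.mem_zpowers z)]; exact one_mem _
        · rw [map_mul, (hker z).2 (Subgroup.mem_zpowers z), mul_one]; exact Subgroup.mem_zpowers _
      rcases hZmem _ hm with e | e
      · refine Or.inl (hπ4 g (hV g (conj_eq_iff.1 ?_)))
        rw [mul_inv_eq_one] at e
        exact e
      · refine Or.inr ?_
        have e1 : g * j * g⁻¹ = r * j * r⁻¹ := by
          rw [hrj, hzg j, ← e]; group
        have h4 := hπ4 _ (hV (r⁻¹ * g) (conj_eq_iff.1 (by
          calc r⁻¹ * g * j * (r⁻¹ * g)⁻¹ = r⁻¹ * (g * j * g⁻¹) * r := by group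
            _ = j := by rw [e1]; group)))
        have hc2 : π r⁻¹ = π r := by rw [map_inv, inv_eq hpr2]
        rw [map_mul, hc2] at h4
        have e3 : π g = π r * (π r * π g) := by rw [← mul_assoc, mul_self hpr2, one_mul]
        rw [e3, mul_assoc]
        have hcB : ∀ x ∈ Subgroup.zpowers (π j), π r * (x * π r) = x := fun x hx => by
          rcases hB' x hx with rfl | rfl
          · rw [one_mul, mul_self hpr2]
          · rw [← hcomm', ← mul_assoc, mul_self hpr2, one_mul]
        rw [hcB _ h4]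
        exact h4
    · intro x hx hx2
      exact (hB' x hx).resolve_left (ne_one hx2)
  have hgS : Gen ((S.mapSurjective (QuotientGroup.mk'_surjective Z) : Sylow 2 (G ⧸ Z)) : Subgroup (G ⧸ Z))
      (π a) (π j) (n + 1) := by
    rw [Sylow.coe_mapSurjective]
    refine ⟨⟨a, haS, rfl⟩, ⟨j, hjS, rfl⟩, ?_, mul_self hpj2, ?_, ?_, ?_⟩
    · refine orderOf_eq_prime_pow (fun e => hrZ ((hker r).1 ?_)) ?_
      · rw [hr, map_pow]; exact e
      · rw [← map_pow, show n + 1 + 1 = n + 2 by rfl, hz]; exact (hker z).2 (Subgroup.mem_zpowers z)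
    · intro hc
      obtain ⟨i, hi⟩ := Subgroup.mem_zpowers_iff.1 hc
      have hm : (a ^ i)⁻¹ * j ∈ Z := (hker _).1 (by rw [map_mul, map_inv, map_zpow, hi, inv_mul_cancel])
      exact hjrot ((Subgroup.mul_mem_cancel_left _
        (inv_mem (Subgroup.zpow_mem _ (Subgroup.mem_zpowers a) i))).1 (hZa _ hm))
    · rw [← map_inv, ← map_inv, ← map_mul, ← map_mul, hconj, map_mul, (hker z).2 (Subgroup.mem_zpowers z),
        one_mul]
    · rintro _ ⟨x, hx, rfl⟩
      rcases hcases x hx with ⟨i, rfl⟩ | ⟨i, rfl⟩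
      · exact Or.inl ⟨i, map_zpow π a i⟩
      · exact Or.inr ⟨i, by rw [map_mul, map_zpow]⟩
  obtain ⟨-, y, hy, hy1, hyj⟩ := dihedral_case hO' hns' hc'
    (fun x hx => hB' x hx.1) (S.mapSurjective (QuotientGroup.mk'_surjective Z)) hgS (by rw [hr, map_pow])
  refine hy1 (odd_one_of_sq hy ?_)
  by_cases hyB : y ∈ Subgroup.zpowers (π j)
  · rcases hB' y hyB with e | e <;> rw [e]
    · rw [one_mul]
    · exact mul_self hpj2
  · exact hc'.out_sq hyj hyB

/-- `T2` not a Sylow subgroup. -/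
theorem non_sylow (hO : Cfsg.oddCore G = ⊥) (hns : ¬ Group.IsSolvable G) {j s : G} {B : Subgroup G}
    (h : Cfg j B s) (h1 : One j B) (hnot : ¬ ∃ P : Sylow 2 G, (P : Subgroup G) = h.T2) : Good G := by
  classical
  haveI : Fact (Nat.Prime 2) := ⟨Nat.prime_two⟩
  have hsmall : ∀ x ∈ h.Bt, x = 1 ∨ x = j := fun x hx => by
    by_contra hc
    push Not at hc
    exact hnot (h.T2_sylow ⟨x, hx, hc.1, hc.2⟩)
  have f : Fr j s := ⟨h.hj, h.hs, h.s_comm.symm, fun e => h.hsB (e ▸ h.hjB)⟩
  have hTV : h.T2 = f.grp := by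
    refine le_antisymm (fun x hx => f.mem_grp.2 ?_) ((Subgroup.closure_le _).2 ?_)
    · rcases hx with hx | hx
      · rcases hsmall x hx with e | e
        · exact Or.inl e
        · exact Or.inr (Or.inl e)
      · have e0 : x = x * s * s := by rw [mul_assoc, mul_self h.hs, mul_one]
        rcases hsmall _ hx with e | e <;> rw [e] at e0
        · exact Or.inr (Or.inr (Or.inl (by rw [e0, one_mul])))
        · exact Or.inr (Or.inr (Or.inr e0))
    · rintro y (rfl | rfl)
      · exact h.Bt_le_T2 h.j_mem_Bt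
      · exact h.s_mem_T2
  obtain ⟨S, hS⟩ := h.T2_isPGroup.exists_le_sylow
  have hlt : h.T2 < (S : Subgroup G) := lt_of_le_of_ne hS fun e => hnot ⟨S, e.symm⟩
  have hCS : ∀ x ∈ (S : Subgroup G), x * j = j * x → x ∈ h.T2 := by
    intro x hx hxj
    by_cases hxB : x ∈ B
    · exact Or.inl ⟨hxB, twoEl_of_mem S.2 hx⟩
    · exact Or.inr ⟨(h.hH x hxj).resolve_left hxB, twoEl_of_mem S.2 (mul_mem hx (hS h.s_mem_T2))⟩
  have hjS : j ∈ (S : Subgroup G) := hS (h.Bt_le_T2 h.j_mem_Bt)
  -- the central involution can be taken as `s`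
  have hcentral : ∀ z ∈ (S : Subgroup G), orderOf z = 2 → (∀ x ∈ (S : Subgroup G), x * z = z * x) →
      ∃ hc : Cfg j B z, ∀ x ∈ hc.Bt, x = 1 ∨ x = j := by
    intro z hz hz2 hzc
    have hzT : z ∈ h.T2 := hCS z hz (hzc j hjS).symm
    have hzB : z ∉ B := fun hc => by
      have e := h1 z hc hz2
      subst e
      exact hlt.ne (le_antisymm hS fun x hx => hCS x hx (hzc x hx))
    exact ⟨h.change hz2 (h.T2_comm_j hzT) hzB, fun x hx => hsmall x hx⟩
  obtain ⟨N, hN⟩ := S.2.exists_card_eq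
  have hT4 : Nat.card h.T2 = 4 := by rw [hTV, f.grp_card]
  have hN3 : 3 ≤ N := by
    have h4 : 4 < Nat.card (S : Subgroup G) := by
      rw [← hT4]
      exact lt_of_not_ge fun hc => hlt.ne (Subgroup.eq_of_le_of_card_ge hlt.le hc)
    by_contra hc
    rw [hN] at h4
    have := Nat.pow_le_pow_right two_pos (show N ≤ 2 by omega)
    omega
  have hclass := Cfsg.Agent.S0112.result (p := 2) N hN (h.T2.subgroupOf (S : Subgroup G))
    (by rw [Nat.card_congr (Subgroup.subgroupOfEquivOfLe hS).toEquiv, hT4]; norm_num) (by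
      refine le_antisymm (fun x hx => ?_) fun x hx => Subgroup.mem_centralizer_iff.2 fun y hy => ?_
      · exact hCS x x.2 (congrArg Subtype.val
          (Subgroup.mem_centralizer_iff.1 hx ⟨j, hjS⟩ (h.Bt_le_T2 h.j_mem_Bt))).symm
      · haveI := f.grp_comm
        exact Subtype.ext (congrArg Subtype.val
          (mul_comm' (⟨x, hTV ▸ hx⟩ : f.grp) ⟨y, hTV ▸ hy⟩)).symm)
  have hK := (Cfsg.Agent.S0115.result N hN3 hN).1 hclass
  rcases Cfsg.Agent.S4399.result S.2 hK.card_four (fun x => by rw [pow_two]; exact hK.mul_self x) with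
    h4 | ⟨k, ⟨e⟩⟩ | ⟨k, hcard, a, b, ha, hb, hba⟩ | ⟨k, ⟨e⟩⟩
  · exfalso
    rw [hN] at h4
    have := Nat.pow_le_pow_right two_pos hN3
    omega
  · -- dihedral
    obtain ⟨a, b, k', hg, hk', -⟩ :=
      CfsgLib.Involution.DihedralSylow.exists_gen S (2 ^ (k + 2)) (Nat.le_self_pow (by omega) 2) e
    obtain rfl : k' = k + 1 := by
      have := Nat.pow_right_injective le_rfl hk'
      omega
    have haz : orderOf (a ^ 2 ^ (k + 1)) = 2 := by
      have e1 := CfsgLib.Involution.DihedralSylow.z_orderOf hg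
      rwa [show ((2 : ℤ) ^ (k + 1)) = ((2 ^ (k + 1) : ℕ) : ℤ) by push_cast; rfl, zpow_natCast] at e1
    have hbz : Commute b (a ^ 2 ^ (k + 1)) := by
      refine conj_eq_iff.1 ?_
      rw [← _root_.conj_pow, hg.conj, inv_pow, inv_eq haz]
    have hzc : ∀ x ∈ (S : Subgroup G), x * a ^ 2 ^ (k + 1) = a ^ 2 ^ (k + 1) * x := by
      intro x hx
      rcases hg.cases x hx with ⟨i, rfl⟩ | ⟨i, rfl⟩
      · exact ((Commute.self_pow a _).zpow_left i).eq
      · exact (((Commute.self_pow a _).zpow_left i).mul_left hbz).eq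
    obtain ⟨hc, hsm⟩ := hcentral _ (pow_mem hg.amem _) haz hzc
    obtain ⟨i, hi⟩ : ∃ i : ℤ, j = a ^ i * b := by
      refine (hg.cases j hjS).resolve_left fun ⟨i, hi⟩ => ?_
      have haj : Commute a j := hi ▸ (Commute.refl a).zpow_right i
      have haT : a ∈ h.T2 := hCS a hg.amem haj.eq
      have ha2 : a * a = 1 := by
        rcases f.mem_grp.1 (hTV ▸ haT) with e | e
        · rw [e, one_mul]
        · exact mul_self (f.lab e).1
      have hd : orderOf a ∣ 2 := orderOf_dvd_of_pow_eq_one (by rw [pow_two]; exact ha2)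
      rw [hg.ord] at hd
      have h5 := Nat.le_of_dvd two_pos hd
      have := Nat.pow_le_pow_right two_pos (show 2 ≤ k + 1 + 1 by omega)
      omega
    have hg' : Gen (S : Subgroup G) a j (k + 1) := by
      refine ⟨hg.amem, hjS, hg.ord, mul_self h.hj, hi ▸ CfsgLib.Involution.DihedralSylow.refl_not_rot hg i,
        ?_, fun x hx => ?_⟩
      · rw [hi, show a ^ i * b * a * (a ^ i * b)⁻¹ = a ^ i * (b * a * b⁻¹) * (a ^ i)⁻¹ by group, hg.conj]
        group
      · rcases hg.cases x hx with ⟨l, hl⟩ | ⟨l, hl⟩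
        · exact Or.inl ⟨l, hl⟩
        · refine Or.inr ⟨l - i, ?_⟩
          rw [hl, hi, ← mul_assoc, ← zpow_add, sub_add_cancel]
    exact (dihedral_case hO hns hc hsm S hg' rfl).1
  · -- semidihedral
    exfalso
    set N2 := 2 ^ (k + 2) with hN2
    have haA : orderOf (a : G) = 2 ^ (k + 3) := by rw [Subgroup.orderOf_coe, ha]
    set z := (a : G) ^ N2 with hzdef
    have hz2 : orderOf z = 2 := by
      rw [hzdef, orderOf_pow_of_dvd (pow_ne_zero _ two_ne_zero) (haA ▸ pow_dvd_pow 2 (by omega)), haA,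
        Nat.pow_div (by omega) two_pos, show k + 3 - (k + 2) = 1 by omega, pow_one]
    have hba' : (b : G) * a * (b : G)⁻¹ = z * (a : G)⁻¹ := by
      have e1 := congrArg Subtype.val hba
      rw [Subgroup.coe_mul, Subgroup.coe_mul, Subgroup.coe_inv, SubmonoidClass.coe_pow] at e1
      rw [e1, hzdef, eq_mul_inv_iff_mul_eq, ← pow_succ, Nat.sub_add_cancel Nat.one_le_two_pow]
    have hbz : Commute (b : G) z := by
      refine conj_eq_iff.1 ?_
      have e1 : z ^ N2 = 1 := by
        rw [hN2, pow_succ', pow_mul, pow_two, mul_self hz2, one_pow]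
      conv_lhs => rw [hzdef, ← _root_.conj_pow, hba', ((Commute.self_pow (a : G) N2).symm.inv_right).mul_pow,
        ← hzdef, e1, one_mul, inv_pow, ← hzdef, inv_eq hz2]
    have hnb : b ∉ Subgroup.zpowers a := by
      intro hc
      obtain ⟨i, hi⟩ := Subgroup.mem_zpowers_iff.1 hc
      have e1 : (b : G) * a * (b : G)⁻¹ = a := by
        rw [← hi, SubgroupClass.coe_zpow, ((Commute.refl (a : G)).zpow_left i).eq, mul_inv_cancel_right]
      rw [hba', mul_inv_eq_iff_eq_mul, ← pow_two, hzdef] at e1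
      have h5 : orderOf (a : G) ∣ N2 - 2 := orderOf_dvd_of_pow_eq_one (by
        rw [pow_sub (a : G) (Nat.le_self_pow (by omega) 2), e1, mul_inv_cancel])
      rw [haA, hN2] at h5
      have h6 := Nat.pow_le_pow_right two_pos (show 2 ≤ k + 2 by omega)
      have h7 := Nat.le_of_dvd (by omega) h5
      have h8 : 2 ^ (k + 3) = 2 * 2 ^ (k + 2) := pow_succ' 2 _
      omega
    have hidx : (Subgroup.zpowers a).index = 2 := by
      have e1 := Subgroup.card_mul_index (Subgroup.zpowers a)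
      rw [Nat.card_zpowers, ha, hcard, pow_succ 2 (k + 3)] at e1
      exact Nat.eq_of_mul_eq_mul_left (pow_pos two_pos _) e1
    have hcasesb : ∀ x ∈ (S : Subgroup G), (∃ i : ℤ, x = (a : G) ^ i) ∨ ∃ i : ℤ, x = (a : G) ^ i * b := by
      intro x hx
      by_cases hxa : (⟨x, hx⟩ : (S : Subgroup G)) ∈ Subgroup.zpowers a
      · obtain ⟨i, hi⟩ := Subgroup.mem_zpowers_iff.1 hxa
        exact Or.inl ⟨i, by rw [← SubgroupClass.coe_zpow, hi]⟩
      · obtain ⟨i, hi⟩ := Subgroup.mem_zpowers_iff.1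
          ((Subgroup.mul_mem_iff_of_index_two hidx).2 (iff_of_false hxa hnb))
        refine Or.inr ⟨i, ?_⟩
        rw [← SubgroupClass.coe_zpow, hi, Subgroup.coe_mul, mul_assoc,
          mul_self (show orderOf (b : G) = 2 by rw [Subgroup.orderOf_coe, hb]), mul_one]
    have hzc : ∀ x ∈ (S : Subgroup G), x * z = z * x := by
      intro x hx
      rcases hcasesb x hx with ⟨i, rfl⟩ | ⟨i, rfl⟩
      · exact ((Commute.self_pow (a : G) N2).zpow_left i).eq
      · exact (((Commute.self_pow (a : G) N2).zpow_left i).mul_left hbz).eq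
    obtain ⟨hc, hsm⟩ := hcentral z (pow_mem a.2 _) hz2 hzc
    have hjrot : j ∉ Subgroup.zpowers (a : G) := fun hc' => by
      obtain ⟨i, hi⟩ := Subgroup.mem_zpowers_iff.1 hc'
      have haj : Commute (a : G) j := hi ▸ (Commute.refl (a : G)).zpow_right i
      have haT : (a : G) ∈ h.T2 := hCS a a.2 haj.eq
      have ha2 : (a : G) * a = 1 := by
        rcases f.mem_grp.1 (hTV ▸ haT) with e | e
        · rw [e, one_mul]
        · exact mul_self (f.lab e).1
      have hd : orderOf (a : G) ∣ 2 := orderOf_dvd_of_pow_eq_one (by rw [pow_two]; exact ha2)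
      rw [haA] at hd
      have h5 := Nat.le_of_dvd two_pos hd
      have := Nat.pow_le_pow_right two_pos (show 2 ≤ k + 3 by omega)
      omega
    obtain ⟨i, hi⟩ : ∃ i : ℤ, j = (a : G) ^ i * b :=
      (hcasesb j hjS).resolve_left fun ⟨i, hi⟩ => hjrot ⟨i, hi.symm⟩
    refine semidihedral_case hO hns hc hsm S (a := (a : G)) (n := k) a.2 hjS haA rfl ?_ hjrot fun x hx => ?_
    · rw [hi, show (a : G) ^ i * b * a * ((a : G) ^ i * b)⁻¹ = (a : G) ^ i * (b * a * (b : G)⁻¹) * ((a : G) ^ i)⁻¹ by group,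
        hba', conj_eq_iff]
      exact (((Commute.self_pow (a : G) N2).zpow_left i).mul_right ((Commute.refl (a : G)).zpow_left i).inv_right).eq
    · rcases hcasesb x hx with ⟨l, hl⟩ | ⟨l, hl⟩
      · exact Or.inl ⟨l, hl⟩
      · refine Or.inr ⟨l - i, ?_⟩
        rw [hl, hi, ← mul_assoc, ← zpow_add, sub_add_cancel]
  · -- quaternion: two involutions are absurd
    exfalso
    have q : ∀ x, (hx : x ∈ (S : Subgroup G)) → orderOf x = 2 →
        e ⟨x, hx⟩ = QuaternionGroup.a ((2 ^ (k + 1) : ℕ) : ZMod (2 * 2 ^ (k + 1))) := fun x hx hx2 =>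
      CfsgLib.BrauerSuzuki.quat_involution (by rw [e.orderOf_eq, Subgroup.orderOf_mk, hx2])
    exact f.ne (congrArg Subtype.val (e.injective ((q j hjS h.hj).trans (q s (hS h.s_mem_T2) h.hs).symm)))

end CfsgLib.Characterizations.DGroup
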