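import Cfsg.Agent.Lib.Characterizations.DGroup.Basic

/-!
# The configuration in a quotient by a normal subgroup of odd order
-/

set_option autoImplicit false

namespace CfsgLib.Characterizations.DGroup

open CfsgLib.Involution.Dihedral

variable {G : Type*} [Group G] [Finite G] {Q : Type*} [Group Q] (π : G →* Q)

/-- An involution and an element commuting modulo an odd normal subgroup commute after a change of lift. -/
theorem exists_lift_comm (hπ : Function.Surjective π) (hodd : Odd (Nat.card π.ker)) {a : G}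
    (ha : orderOf a = 2) {q : Q} (hq : q * π a = π a * q) : ∃ g : G, π g = q ∧ g * a = a * g := by
  obtain ⟨g, rfl⟩ := hπ q
  have hm : g⁻¹ * (a * g * a⁻¹) ∈ π.ker := by
    rw [MonoidHom.mem_ker, map_mul, map_mul, map_mul, map_inv, map_inv, ← hq, mul_inv_cancel_right,
      inv_mul_cancel]
  obtain ⟨n, -, hn, he⟩ := exists_fixed ha hodd hm
  exact ⟨g * n, by rw [map_mul, MonoidHom.mem_ker.1 hn, mul_one], he.symm⟩

/-- The same for two commuting involutions. -/
theorem exists_lift_comm₂ (hπ : Function.Surjective π) (hodd : Odd (Nat.card π.ker)) {a b : G}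
    (ha : orderOf a = 2) (hb : orderOf b = 2) (hab : a * b = b * a) {q : Q} (hqa : q * π a = π a * q)
    (hqb : q * π b = π b * q) : ∃ g : G, π g = q ∧ g * a = a * g ∧ g * b = b * g := by
  obtain ⟨g, rfl, hga⟩ := exists_lift_comm π hπ hodd ha hqa
  have hm : g⁻¹ * (b * g * b⁻¹) ∈ π.ker := by
    rw [MonoidHom.mem_ker, map_mul, map_mul, map_mul, map_inv, map_inv, ← hqb, mul_inv_cancel_right,
      inv_mul_cancel]
  obtain ⟨n, hnz, hn, he⟩ := exists_fixed hb hodd hm
  have hgm : g⁻¹ * (b * g * b⁻¹) ∈ Subgroup.centralizer ({a} : Set G) :=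
    mul_mem (inv_mem (mem_C.2 hga)) (mul_mem (mul_mem (mem_C.2 hab.symm) (mem_C.2 hga))
      (inv_mem (mem_C.2 hab.symm)))
  have hna : n * a = a * n := mem_C.1 (Subgroup.zpowers_le.2 hgm hnz)
  refine ⟨g * n, by rw [map_mul, MonoidHom.mem_ker.1 hn, mul_one], ?_, he.symm⟩
  rw [mul_assoc, hna, ← mul_assoc, hga, mul_assoc]

/-- An involution of the image of a subgroup is the image of an involution of the subgroup. -/
theorem exists_invol_lift (hodd : Odd (Nat.card π.ker)) {B : Subgroup G} {x : G} (hx : x ∈ B)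
    (h2 : orderOf (π x) = 2) : ∃ ω ∈ B, orderOf ω = 2 ∧ π ω = π x := by
  obtain ⟨a, b, ⟨k, hk⟩, hb, hab⟩ := split x
  have hxx : π x * π x = 1 := mul_self h2
  have hπb : π (x ^ b) = 1 := by
    have hbo : Odd (orderOf (π (x ^ b))) := hb.of_dvd_nat (orderOf_map_dvd π _)
    refine odd_one_of_sq hbo ?_
    rw [map_pow, ← pow_add, ← two_mul, pow_mul, pow_two, hxx, one_pow]
  have hπa : π (x ^ a) = π x := by
    conv_rhs => rw [← hab, map_mul, hπb, mul_one]
  refine ⟨x ^ a, pow_mem hx a, ?_, hπa⟩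
  refine orderOf_eq_two ?_ fun e => ne_one h2 (by rw [← hπa, e, map_one])
  have h1 : x ^ a * x ^ a ∈ π.ker := by rw [MonoidHom.mem_ker, map_mul, hπa, hxx]
  refine two_odd_one (k := k) ?_ (odd_orderOf_mem hodd h1)
  rw [(Commute.refl (x ^ a)).mul_pow, hk, one_mul]

theorem Cfg.quotient {j s : G} {B : Subgroup G} (h : Cfg j B s) (hπ : Function.Surjective π)
    (hodd : Odd (Nat.card π.ker)) : Cfg (π j) (B.map π) (π s) where
  hj := by
    refine orderOf_eq_two (by rw [← map_mul, mul_self h.hj, map_one]) fun e => ne_one h.hj ?_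
    exact odd_one_of_sq (odd_orderOf_mem hodd (MonoidHom.mem_ker.2 e)) (mul_self h.hj)
  hjB := ⟨j, h.hjB, rfl⟩
  comm := by
    rintro _ ⟨x, hx, rfl⟩ _ ⟨y, hy, rfl⟩
    rw [← map_mul, ← map_mul, h.comm x hx y hy]
  hs := by
    refine orderOf_eq_two (by rw [← map_mul, mul_self h.hs, map_one]) fun e => ne_one h.hs ?_
    exact odd_one_of_sq (odd_orderOf_mem hodd (MonoidHom.mem_ker.2 e)) (mul_self h.hs)
  hsB := by
    rintro ⟨b, hb, hbs⟩
    have hm : b⁻¹ * s ∈ π.ker := by rw [MonoidHom.mem_ker, map_mul, map_inv, hbs, inv_mul_cancel]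
    have hnB : b⁻¹ * s ∉ B := fun h1 => h.hsB ((Subgroup.mul_mem_cancel_left B (inv_mem hb)).1 h1)
    have hc : b⁻¹ * s * j = j * (b⁻¹ * s) := by
      rw [mul_assoc, h.s_comm, ← mul_assoc, h.mem_comm (inv_mem hb), mul_assoc]
    exact ne_one (h.out_order hc hnB) (odd_one_of_sq (odd_orderOf_mem hodd hm) (h.out_sq hc hnB))
  hinv := by
    rintro _ ⟨b, hb, rfl⟩
    rw [← map_inv, ← map_mul, ← map_mul, h.hinv b hb, map_inv]
  hH q hq := by
    obtain ⟨g, rfl, hg⟩ := exists_lift_comm π hπ hodd h.hj hq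
    rcases h.hH g hg with h1 | h1
    · exact Or.inl ⟨g, h1, rfl⟩
    · exact Or.inr ⟨g * s, h1, map_mul π g s⟩
  hcent := by
    rintro _ ⟨x, hx, rfl⟩ h2 q
    obtain ⟨ω, hω, hω2, hωx⟩ := exists_invol_lift π hodd hx h2
    rw [← hωx]
    constructor
    · intro hq
      obtain ⟨g, rfl, hg⟩ := exists_lift_comm π hπ hodd hω2 hq
      rw [← map_mul, ← map_mul, (h.hcent ω hω hω2 g).1 hg]
    · intro hq
      obtain ⟨g, rfl, hg⟩ := exists_lift_comm π hπ hodd h.hj hq
      rw [← map_mul, ← map_mul, (h.hcent ω hω hω2 g).2 hg]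

theorem One.quotient {j : G} {B : Subgroup G} (h : One j B) (hodd : Odd (Nat.card π.ker)) :
    One (π j) (B.map π) := by
  rintro _ ⟨x, hx, rfl⟩ h2
  obtain ⟨ω, hω, hω2, hωx⟩ := exists_invol_lift π hodd hx h2
  rw [← hωx, h ω hω hω2]

end CfsgLib.Characterizations.DGroup
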