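import Cfsg.Agent.S4420
import Cfsg.Agent.Lib.Characterizations.DGroup.Quotient
import Cfsg.Agent.Lib.Characterizations.DGroup.Elementary
import Cfsg.Agent.Lib.Characterizations.DGroup.NonSylow

/-!
# Groups with a self-centralizing D-group as centralizer of an involution
-/

set_option autoImplicit false

namespace CfsgLib.Characterizations.DGroup

open CfsgLib.Involution.Dihedral

universe u

variable {G : Type u} [Group G] [Finite G]

/-- A D-group containing the centralizers of its central involutions gives a configuration. -/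
theorem exists_cfg (H A : Subgroup G) (hAH : A < H) (hD : ∀ x ∈ H, x ∉ A → x ^ 2 = 1)
    (h4 : 4 ∣ Nat.card H)
    (hC : ∀ j ∈ H, orderOf j = 2 → (∀ h ∈ H, h * j = j * h) → Subgroup.centralizer ({j} : Set G) = H) :
    ∃ (j : G) (B : Subgroup G) (s : G), Cfg j B s := by
  haveI : Fact (Nat.Prime 2) := ⟨Nat.prime_two⟩
  have hA : A.subgroupOf H ≠ ⊤ := fun e => hAH.not_ge (Subgroup.subgroupOf_eq_top.1 e)
  obtain ⟨B₀, -, hB₀c, hidx, hout, -⟩ := Cfsg.Agent.S4420.result (A.subgroupOf H) hA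
    fun x hx => Subtype.ext (hD x x.2 hx)
  obtain ⟨σ, hσ⟩ : ∃ x : H, x ∉ B₀ := by
    by_contra hc
    push Not at hc
    rw [(Subgroup.eq_top_iff' B₀).2 hc, Subgroup.index_top] at hidx
    omega
  have hcomm : ∀ a ∈ B₀, ∀ b ∈ B₀, a * b = b * a := fun a ha b hb =>
    congrArg Subtype.val (hB₀c.is_comm.comm (⟨a, ha⟩ : B₀) ⟨b, hb⟩)
  have hcen : ∀ ω ∈ B₀, orderOf ω = 2 → Subgroup.centralizer ({(ω : G)} : Set G) = H := by
    intro ω hω hω2
    refine hC ω ω.2 (by rw [Subgroup.orderOf_coe, hω2]) fun g hg => ?_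
    by_cases hgB : (⟨g, hg⟩ : H) ∈ B₀
    · exact congrArg Subtype.val (hcomm _ hgB _ hω)
    · have e := (hout _ hgB).2 ω hω
      rw [inv_eq hω2, conj_eq_iff] at e
      exact congrArg Subtype.val e
  have hB2 : 2 ∣ Nat.card B₀ := by
    have e := Subgroup.card_mul_index B₀
    rw [hidx] at e
    omega
  obtain ⟨ι, hι⟩ := exists_prime_orderOf_dvd_card' (G := B₀) 2 hB2
  have hj2 : orderOf (ι : H) = 2 := by rw [Subgroup.orderOf_coe, hι]
  have hC0 := hcen _ ι.2 hj2
  refine ⟨((ι : H) : G), B₀.map H.subtype, (σ : G), ⟨by rw [Subgroup.orderOf_coe, hj2], ⟨_, ι.2, rfl⟩,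
    ?_, ?_, ?_, ?_, ?_, ?_⟩⟩
  · rintro _ ⟨x, hx, rfl⟩ _ ⟨y, hy, rfl⟩
    rw [← map_mul, ← map_mul, hcomm x hx y hy]
  · rw [Subgroup.orderOf_coe]
    exact orderOf_eq_prime (hout σ hσ).1 fun e => hσ (e ▸ B₀.one_mem)
  · rintro ⟨x, hx, e⟩
    exact hσ (Subtype.ext e ▸ hx)
  · rintro _ ⟨x, hx, rfl⟩
    exact congrArg Subtype.val ((hout σ hσ).2 x hx)
  · intro g hg
    have hgH : g ∈ H := hC0.le (mem_C.2 hg)
    by_cases hgB : (⟨g, hgH⟩ : H) ∈ B₀
    · exact Or.inl ⟨_, hgB, rfl⟩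
    · exact Or.inr ⟨_, (Subgroup.mul_mem_iff_of_index_two hidx).2 (iff_of_false hgB hσ), rfl⟩
  · rintro _ ⟨x, hx, rfl⟩ h2 g
    rw [Subgroup.subtype_apply, Subgroup.orderOf_coe] at h2
    rw [← mem_C, ← mem_C, Subgroup.subtype_apply, hcen x hx h2, hC0]

/-- The theorem for groups without normal subgroups of odd order. -/
theorem reduced (hO : Cfsg.oddCore G = ⊥) (hns : ¬ Group.IsSolvable G) {j s : G} {B : Subgroup G}
    (h : Cfg j B s) :
    ∃ (N : Subgroup G) (_ : N.Normal), (Nat.card N = 1 ∨ Nat.card N = 2) ∧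
      ∃ (F : Type) (_ : Field F) (_ : Fintype F), 3 < Fintype.card F ∧
        (Nonempty (G ⧸ N ≃* Matrix.ProjectiveSpecialLinearGroup (Fin 2) F) ∨
          Nonempty (G ⧸ N ≃* Matrix.ProjGenLinGroup (Fin 2) F)) := by
  by_cases h1 : One j B
  · have hG : Good G := by
      by_cases hSyl : ∃ P : Sylow 2 G, (P : Subgroup G) = h.T2
      · exact (two_class hO hns h h1 hSyl).1
      · exact non_sylow hO hns h h1 hSyl
    obtain ⟨F, iF, iFt, hF, hiso⟩ := final_of_good hO hns hG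
    exact ⟨⊥, inferInstance, Or.inl Subgroup.card_bot, F, iF, iFt, hF,
      hiso.imp (fun ⟨e⟩ => ⟨QuotientGroup.quotientBot.trans e⟩) fun ⟨e⟩ => ⟨QuotientGroup.quotientBot.trans e⟩⟩
  · obtain ⟨ω, hω, hω2, hωj⟩ : ∃ ω ∈ B, orderOf ω = 2 ∧ ω ≠ j := by
      simpa [One] using h1
    by_cases hel : ∀ y ∈ h.Bt, y * y = 1
    · exact elementary_case hO hns h ⟨ω, h.sq_mem_Bt hω (mul_self hω2), ne_one hω2, hωj⟩ hel
    · push Not at hel
      obtain ⟨y, hy, hy2⟩ := hel
      exact (two_rank_false hns h hω hω2 hωj hy hy2).elim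

/-- The quotient by the odd core has trivial odd core. -/
theorem oddCore_quotient_bot : Cfsg.oddCore (G ⧸ Cfsg.oddCore G) = ⊥ := by
  haveI : (Cfsg.oddCore (G ⧸ Cfsg.oddCore G)).Normal := CfsgLib.Involution.ZStar.oddCore_normal
  set π := QuotientGroup.mk' (Cfsg.oddCore G) with hπ
  set N := (Cfsg.oddCore (G ⧸ Cfsg.oddCore G)).comap π with hN
  have hle : Cfsg.oddCore G ≤ N := fun x hx => by
    show π x ∈ Cfsg.oddCore (G ⧸ Cfsg.oddCore G)
    rw [show π x = 1 from (QuotientGroup.eq_one_iff x).2 hx]; exact one_mem _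
  have hodd : Odd (Nat.card N) := by
    refine Nat.not_even_iff_odd.1 fun he => ?_
    obtain ⟨t, htN, ht⟩ := CfsgLib.Involution.Basic.exists_involution_of_even N he
    have h1 : π t = 1 := odd_one_of_sq (CfsgLib.Involution.ZStar.odd_orderOf_of_mem htN)
      (by rw [← map_mul, mul_self ht, map_one])
    have := CfsgLib.Involution.ZStar.odd_orderOf_of_mem ((QuotientGroup.eq_one_iff t).1 h1)
    rw [ht] at this
    exact absurd this (by decide)
  have hb := CfsgLib.Involution.ZStar.le_oddCore (inferInstance : N.Normal) hodd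
  refine (Subgroup.eq_bot_iff_forall _).2 fun q hq => ?_
  obtain ⟨x, rfl⟩ := QuotientGroup.mk'_surjective (Cfsg.oddCore G) q
  exact (QuotientGroup.eq_one_iff x).2 (hb hq)

theorem main (H A : Subgroup G) (hAH : A < H) (hD : ∀ x ∈ H, x ∉ A → x ^ 2 = 1) (h4 : 4 ∣ Nat.card H)
    (hC : ∀ j ∈ H, orderOf j = 2 → (∀ h ∈ H, h * j = j * h) → Subgroup.centralizer ({j} : Set G) = H)
    (hns : ¬ Group.IsSolvable G) :
    ∃ (N : Subgroup G) (_ : N.Normal), (Odd (Nat.card N) ∨ ∃ m : ℕ, Odd m ∧ Nat.card N = 2 * m) ∧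
      ∃ (F : Type) (_ : Field F) (_ : Fintype F), 3 < Fintype.card F ∧
        (Nonempty (G ⧸ N ≃* Matrix.ProjectiveSpecialLinearGroup (Fin 2) F) ∨
          Nonempty (G ⧸ N ≃* Matrix.ProjGenLinGroup (Fin 2) F)) := by
  obtain ⟨j, B, s, h⟩ := exists_cfg H A hAH hD h4 hC
  haveI : (Cfsg.oddCore G).Normal := CfsgLib.Involution.ZStar.oddCore_normal
  set π := QuotientGroup.mk' (Cfsg.oddCore G) with hπ
  have hsurj : Function.Surjective π := QuotientGroup.mk'_surjective _
  have hodd : Odd (Nat.card π.ker) := by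
    rw [hπ, QuotientGroup.ker_mk']; exact CfsgLib.Involution.ZStar.odd_card_oddCore
  have hns' : ¬ Group.IsSolvable (G ⧸ Cfsg.oddCore G) := fun hs =>
    hns ((Group.isSolvable_iff_subgroup_quotient (Cfsg.oddCore G)).2
      ⟨CfsgLib.OddOrder.Final.oddSolvable _ CfsgLib.Involution.ZStar.odd_card_oddCore, hs⟩)
  obtain ⟨N, hNn, hcard, F, iF, iFt, hF, hiso⟩ :=
    reduced oddCore_quotient_bot hns' (h.quotient π hsurj hodd)
  haveI := hNn
  set f := (QuotientGroup.mk' N).comp π with hf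
  have hfs : Function.Surjective f := (QuotientGroup.mk'_surjective N).comp hsurj
  have hker : N.comap π = f.ker := by
    rw [hf, ← MonoidHom.comap_ker, QuotientGroup.ker_mk']
  have hcN : Nat.card (N.comap π) = Nat.card π.ker * Nat.card N := by
    refine Nat.eq_of_mul_eq_mul_right (Subgroup.index_ne_zero_of_finite (H := N)).bot_lt ?_
    calc Nat.card (N.comap π) * N.index = Nat.card (N.comap π) * (N.comap π).index := by
          rw [Subgroup.index_comap_of_surjective _ hsurj]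
      _ = Nat.card π.ker * π.ker.index := by rw [Subgroup.card_mul_index, Subgroup.card_mul_index]
      _ = Nat.card π.ker * (Nat.card N * N.index) := by
          rw [Subgroup.card_mul_index N, Subgroup.index_eq_card,
            Nat.card_congr (QuotientGroup.quotientKerEquivOfSurjective π hsurj).toEquiv]
      _ = _ := by rw [mul_assoc]
  have e0 : G ⧸ N.comap π ≃* (G ⧸ Cfsg.oddCore G) ⧸ N :=
    (QuotientGroup.quotientMulEquivOfEq hker).trans (QuotientGroup.quotientKerEquivOfSurjective f hfs)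
  refine ⟨N.comap π, inferInstance, ?_, F, iF, iFt, hF,
    hiso.imp (fun ⟨e⟩ => ⟨e0.trans e⟩) fun ⟨e⟩ => ⟨e0.trans e⟩⟩
  rcases hcard with e | e
  · exact Or.inl (by rw [hcN, e, mul_one]; exact hodd)
  · exact Or.inr ⟨Nat.card π.ker, hodd, by rw [hcN, e, mul_comm]⟩

end CfsgLib.Characterizations.DGroup
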