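import Cfsg.Agent.Lib.Characterizations.DGroup.TwoRank
import Cfsg.Agent.Lib.Coprime.Generation
import Cfsg.Agent.Lib.Coprime.Sylow
import Cfsg.Agent.Lib.Fusion.Abelian
import Cfsg.Agent.Lib.Recognition.AbelianCentraliser.Main
import Cfsg.Agent.Lib.Solvable.FrattiniFitting
import Cfsg.Agent.Lib.OddOrder.Final.Main

/-!
# Four groups acting on subgroups of odd order, when every involution has a one-involution D-group centralizer
-/

set_option autoImplicit false

namespace CfsgLib.Characterizations.DGroup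

open CfsgLib.Involution.Dihedral

universe u

variable {G : Type u} [Group G]

/-- A `p`-element. -/
def PEl (p : ℕ) (x : G) : Prop := ∃ n : ℕ, x ^ p ^ n = 1

theorem PEl.odd {p : ℕ} (hp : Odd p) {x : G} (h : PEl p x) : Odd (orderOf x) := by
  obtain ⟨n, hn⟩ := h
  exact hp.pow.of_dvd_nat (orderOf_dvd_of_pow_eq_one hn)

theorem PEl.conj {p : ℕ} {x : G} (h : PEl p x) (g : G) : PEl p (g * x * g⁻¹) := by
  obtain ⟨n, hn⟩ := h
  exact ⟨n, by rw [_root_.conj_pow, hn, mul_one, mul_inv_cancel]⟩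

theorem pEl_of_mem {p : ℕ} {P : Subgroup G} (hP : IsPGroup p P) {x : G} (hx : x ∈ P) : PEl p x := by
  obtain ⟨n, hn⟩ := hP ⟨x, hx⟩
  exact ⟨n, congrArg Subtype.val hn⟩

theorem isPGroup_zpowers {p : ℕ} [Fact p.Prime] [Finite G] {x : G} (h : PEl p x) :
    IsPGroup p (Subgroup.zpowers x) := by
  obtain ⟨n, hn⟩ := h
  obtain ⟨i, -, hi⟩ := (Nat.dvd_prime_pow Fact.out).1 (orderOf_dvd_of_pow_eq_one hn)
  exact IsPGroup.of_card (n := i) (by rw [Nat.card_zpowers, hi])

theorem odd_card_of_isPGroup {p : ℕ} [Fact p.Prime] [Finite G] (hp : Odd p) {P : Subgroup G}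
    (hP : IsPGroup p P) : Odd (Nat.card P) := by
  obtain ⟨n, hn⟩ := hP.exists_card_eq
  rw [hn]; exact hp.pow

theorem mem_normalizer_of_maps [Finite G] {H : Subgroup G} {g : G} (hg : ∀ x ∈ H, g * x * g⁻¹ ∈ H) :
    g ∈ Subgroup.normalizer (H : Set G) := by
  have h : H.map (MulAut.conj g).toMonoidHom = H := by
    refine Subgroup.eq_of_le_of_card_ge ?_ ?_
    · rintro _ ⟨x, hx, rfl⟩; exact hg x hx
    · rw [Subgroup.card_map_of_injective (MulAut.conj g).injective]
  refine Subgroup.mem_normalizer_iff.2 fun x => ⟨hg x, fun hx => ?_⟩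
  rw [← h] at hx
  obtain ⟨y, hy, e⟩ := hx
  have e' : g * y * g⁻¹ = g * x * g⁻¹ := e
  rwa [mul_left_cancel (mul_right_cancel e')] at hy

theorem eq_one_or_self_mul_self {x : G} (hx : Odd (orderOf x)) (h : x⁻¹ = x) : x = 1 :=
  odd_one_of_sq hx (inv_eq_iff_mul_eq_one.1 h)

/-- A `p`-element normalizing a nontrivial `p`-group fixes one of its nontrivial elements. -/
theorem exists_comm_of_normalizes [Finite G] {p : ℕ} [Fact p.Prime] {W : Subgroup G} (hW : IsPGroup p W)
    (hW1 : W ≠ ⊥) {u : G} (hu : PEl p u) (hn : ∀ w ∈ W, u * w * u⁻¹ ∈ W) :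
    ∃ w ∈ W, w ≠ 1 ∧ u * w = w * u := by
  set L := W ⊔ Subgroup.zpowers u with hL
  have huN : u ∈ Subgroup.normalizer (W : Set G) := mem_normalizer_of_maps hn
  have hLp : IsPGroup p L := hW.to_sup_of_normal_left' (isPGroup_zpowers hu) (Subgroup.zpowers_le.2 huN)
  haveI : Group.IsNilpotent L := hLp.isNilpotent
  haveI : (W.subgroupOf L).Normal := (Subgroup.normal_subgroupOf_iff_le_normalizer le_sup_left).2
    (sup_le Subgroup.le_normalizer (Subgroup.zpowers_le.2 huN))
  have hne : W.subgroupOf L ≠ ⊥ := by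
    obtain ⟨w, hw, hw1⟩ := W.bot_or_exists_ne_one.resolve_left hW1
    intro e
    have h1 : (⟨w, Subgroup.mem_sup_left hw⟩ : L) ∈ W.subgroupOf L := hw
    rw [e, Subgroup.mem_bot] at h1
    exact hw1 (congrArg Subtype.val h1)
  obtain ⟨c, hc, hc1⟩ := ((W.subgroupOf L) ⊓ Subgroup.center L).bot_or_exists_ne_one.resolve_left
    (CfsgLib.Solvable.FrattiniFitting.inf_center_ne_bot _ hne)
  refine ⟨c, hc.1, fun e => hc1 (Subtype.ext e), ?_⟩
  exact congrArg Subtype.val (Subgroup.mem_center_iff.1 hc.2 ⟨u, Subgroup.mem_sup_right (Subgroup.mem_zpowers u)⟩)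

/-- Every involution has a one-involution D-group centralizer and they are all conjugate. -/
structure Hyp (G : Type u) [Group G] : Prop where
  cfg : ∀ i : G, orderOf i = 2 → ∃ (B : Subgroup G) (s : G), Cfg i B s ∧ One i B
  conj : ∀ i k : G, orderOf i = 2 → orderOf k = 2 → IsConj i k

theorem Cfg.one_comm {i s : G} {B : Subgroup G} (h : Cfg i B s) (h1 : One i B) {t : G} (ht : orderOf t = 2)
    (hc : t * i = i * t) (hne : t ≠ i) : t ∉ B := fun hB => hne (h1 t hB ht)

namespace Hyp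

variable (h : Hyp G)
include h

theorem odd_comm {i : G} (hi : orderOf i = 2) {x y : G} (hx : Odd (orderOf x)) (hy : Odd (orderOf y))
    (hxi : x * i = i * x) (hyi : y * i = i * y) : x * y = y * x := by
  obtain ⟨B, s, hc, -⟩ := h.cfg i hi
  exact hc.comm x (hc.mem_of_odd hxi hx) y (hc.mem_of_odd hyi hy)

/-- Another involution commuting with `i` inverts the odd part of `C(i)`. -/
theorem inverts {i t x : G} (hi : orderOf i = 2) (ht : orderOf t = 2) (hc : t * i = i * t) (hne : t ≠ i)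
    (hx : Odd (orderOf x)) (hxi : x * i = i * x) : t * x * t⁻¹ = x⁻¹ := by
  obtain ⟨B, s, hcfg, h1⟩ := h.cfg i hi
  exact hcfg.out_inv hc (hcfg.one_comm h1 ht hc hne) (hcfg.mem_of_odd hxi hx)

/-- The four group `⟨i, t⟩` is self-centralizing. -/
theorem four [Finite G] {i t x : G} (hi : orderOf i = 2) (ht : orderOf t = 2) (hc : t * i = i * t) (hne : t ≠ i)
    (hxi : x * i = i * x) (hxt : x * t = t * x) : x = 1 ∨ x = i ∨ x = t ∨ x = i * t := by
  obtain ⟨B, s, hcfg, h1⟩ := h.cfg i hi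
  have htB := hcfg.one_comm h1 ht hc hne
  have key : ∀ b ∈ B, b * t = t * b → b = 1 ∨ b = i := by
    intro b hb hbt
    by_cases hb1 : b = 1
    · exact Or.inl hb1
    refine Or.inr (h1 b hb (orderOf_eq_two ?_ hb1))
    have e := hcfg.out_inv hc htB hb
    rw [conj_eq_iff.2 hbt.symm] at e
    exact inv_eq_iff_mul_eq_one.1 e.symm
  by_cases hxB : x ∈ B
  · rcases key x hxB hxt with e | e
    · exact Or.inl e
    · exact Or.inr (Or.inl e)
  · have hm := hcfg.out_mul hxi hc hxB htB
    have hx' : x = x * t * t := by rw [mul_assoc, mul_self ht, mul_one]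
    rcases key _ hm (by rw [hxt, mul_assoc, hxt]) with e | e <;> rw [e] at hx'
    · rw [one_mul] at hx'; exact Or.inr (Or.inr (Or.inl hx'))
    · exact Or.inr (Or.inr (Or.inr hx'))

theorem odd_one {i t x : G} (hi : orderOf i = 2) (ht : orderOf t = 2) (hc : t * i = i * t) (hne : t ≠ i)
    (hx : Odd (orderOf x)) (hxi : x * i = i * x) (hxt : x * t = t * x) : x = 1 := by
  have h1 := h.inverts hi ht hc hne hx hxi
  rw [conj_eq_iff.2 hxt.symm] at h1
  exact eq_one_or_self_mul_self hx h1.symm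

/-- An element centralizing `i` centralizes or inverts each odd element of `C(i)`. -/
theorem fix_or_invert {i g x : G} (hi : orderOf i = 2) (hg : g * i = i * g) (hx : Odd (orderOf x))
    (hxi : x * i = i * x) : g * x * g⁻¹ = x ∨ g * x * g⁻¹ = x⁻¹ := by
  obtain ⟨B, s, hcfg, -⟩ := h.cfg i hi
  by_cases hgB : g ∈ B
  · exact Or.inl (by rw [hcfg.comm g hgB x (hcfg.mem_of_odd hxi hx), mul_inv_cancel_right])
  · exact Or.inr (hcfg.out_inv hg hgB (hcfg.mem_of_odd hxi hx))

/-- The `p`-part of `C(i)`. -/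
def Jp (p : ℕ) (hp : Odd p) {i : G} (hi : orderOf i = 2) : Subgroup G where
  carrier := {x | x * i = i * x ∧ PEl p x}
  one_mem' := ⟨by rw [one_mul, mul_one], 0, one_pow _⟩
  mul_mem' := by
    rintro a b ⟨ha, k, hk⟩ ⟨hb, l, hl⟩
    refine ⟨(Commute.mul_left ha hb : Commute (a * b) i), k + l, ?_⟩
    rw [(show Commute a b from h.odd_comm hi (PEl.odd hp ⟨k, hk⟩) (PEl.odd hp ⟨l, hl⟩) ha hb).mul_pow,
      pow_add, pow_mul, hk, one_pow, one_mul, mul_comm (p ^ k), pow_mul, hl, one_pow]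
  inv_mem' := by
    rintro a ⟨ha, k, hk⟩
    exact ⟨(Commute.inv_left ha : Commute a⁻¹ i), k, by rw [inv_pow, hk, inv_one]⟩

theorem mem_Jp {p : ℕ} {hp : Odd p} {i : G} {hi : orderOf i = 2} {x : G} :
    x ∈ h.Jp p hp hi ↔ x * i = i * x ∧ PEl p x := Iff.rfl

theorem Jp_isPGroup {p : ℕ} {hp : Odd p} {i : G} {hi : orderOf i = 2} : IsPGroup p (h.Jp p hp hi) := by
  rintro ⟨x, -, n, hn⟩
  exact ⟨n, Subtype.ext hn⟩

end Hyp

/-- Two distinct commuting involutions. -/
structure Fr (i k : G) : Prop where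
  hi : orderOf i = 2
  hk : orderOf k = 2
  comm : i * k = k * i
  ne : i ≠ k

/-- The three involutions of the four group. -/
def Lab (i k l : G) : Prop := l = i ∨ l = k ∨ l = i * k

/-- A subgroup normalized by `i` and `k`. -/
def Nrm (i k : G) (X : Subgroup G) : Prop :=
  (∀ x ∈ X, i * x * i⁻¹ ∈ X) ∧ ∀ x ∈ X, k * x * k⁻¹ ∈ X

namespace Fr

variable {i k : G} (f : Fr i k)
include f

theorem ik : orderOf (i * k) = 2 := orderOf_eq_two (by
  rw [show i * k * (i * k) = i * (k * i) * k by group, ← f.comm,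
    show i * (i * k) * k = (i * i) * (k * k) by group, mul_self f.hi, mul_self f.hk, one_mul]) fun e =>
  f.ne (((mul_eq_one_iff_eq_inv.1 e).trans (inv_eq f.hk)))

theorem lab {l : G} (hl : Lab i k l) : orderOf l = 2 ∧ l * i = i * l ∧ l * k = k * l := by
  rcases hl with rfl | rfl | rfl
  · exact ⟨f.hi, rfl, f.comm⟩
  · exact ⟨f.hk, f.comm.symm, rfl⟩
  · exact ⟨f.ik, (Commute.mul_left (Commute.refl i) f.comm.symm : Commute (i * k) i),
      (Commute.mul_left f.comm (Commute.refl k) : Commute (i * k) k)⟩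

theorem lab_comm {a b : G} (ha : Lab i k a) (hb : Lab i k b) : a * b = b * a := by
  rcases hb with rfl | rfl | rfl
  · exact (f.lab ha).2.1
  · exact (f.lab ha).2.2
  · exact (Commute.mul_right (f.lab ha).2.1 (f.lab ha).2.2 : Commute a (i * k))

theorem lab_frame {a b : G} (ha : Lab i k a) (hb : Lab i k b) (hne : a ≠ b) :
    Fr a b ∧ Lab i k (a * b) ∧ a * b ≠ a ∧ a * b ≠ b :=
  ⟨⟨(f.lab ha).1, (f.lab hb).1, f.lab_comm ha hb, hne⟩, by
    have hii := mul_self f.hi
    have hkk := mul_self f.hk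
    rcases ha with rfl | rfl | rfl <;> rcases hb with rfl | rfl | rfl
    · exact absurd rfl hne
    · exact Or.inr (Or.inr rfl)
    · exact Or.inr (Or.inl (by rw [← mul_assoc, hii, one_mul]))
    · exact Or.inr (Or.inr f.comm.symm)
    · exact absurd rfl hne
    · exact Or.inl (by rw [f.comm, ← mul_assoc, hkk, one_mul])
    · exact Or.inr (Or.inl (by rw [f.comm, mul_assoc, hii, mul_one]))
    · exact Or.inl (by rw [mul_assoc, hkk, mul_one])
    · exact absurd rfl hne,
  fun e => ne_one (f.lab hb).1 (mul_eq_left.1 e), fun e => ne_one (f.lab ha).1 (mul_eq_right.1 e)⟩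

theorem lab_cases {a b c : G} (ha : Lab i k a) (hb : Lab i k b) (hne : a ≠ b) (hc : Lab i k c) :
    c = a ∨ c = b ∨ c = a * b := by
  have hii := mul_self f.hi
  have hkk := mul_self f.hk
  have e1 : k * i = i * k := f.comm.symm
  have e2 : i * (i * k) = k := by rw [← mul_assoc, hii, one_mul]
  have e3 : k * (i * k) = i := by rw [f.comm, ← mul_assoc, hkk, one_mul]
  have e4 : i * k * i = k := by rw [f.comm, mul_assoc, hii, mul_one]
  have e5 : i * k * k = i := by rw [mul_assoc, hkk, mul_one]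
  rcases ha with rfl | rfl | rfl <;> rcases hb with rfl | rfl | rfl <;> rcases hc with rfl | rfl | rfl <;>
    first
    | exact absurd rfl hne
    | exact Or.inl rfl
    | exact Or.inr (Or.inl rfl)
    | simp [e1, e2, e3, e4, e5]

theorem nrm_lab {X : Subgroup G} (hX : Nrm i k X) {l : G} (hl : Lab i k l) :
    ∀ x ∈ X, l * x * l⁻¹ ∈ X := by
  intro x hx
  rcases hl with rfl | rfl | rfl
  · exact hX.1 x hx
  · exact hX.2 x hx
  · rw [show i * k * x * (i * k)⁻¹ = i * (k * x * k⁻¹) * i⁻¹ by group]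
    exact hX.1 _ (hX.2 x hx)

omit f in
/-- The four group. -/
def grp (_f : Fr i k) : Subgroup G := Subgroup.closure {i, k}

theorem mem_grp {x : G} : x ∈ f.grp ↔ x = 1 ∨ Lab i k x := by
  constructor
  · intro hx
    induction hx using Subgroup.closure_induction with
    | mem y hy =>
      rcases hy with rfl | rfl
      · exact Or.inr (Or.inl rfl)
      · exact Or.inr (Or.inr (Or.inl rfl))
    | one => exact Or.inl rfl
    | mul a b _ _ ha hb =>
      rcases ha with rfl | ha
      · rw [one_mul]; exact hb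
      rcases hb with rfl | hb
      · rw [mul_one]; exact Or.inr ha
      by_cases hab : a = b
      · subst hab; exact Or.inl (mul_self (f.lab ha).1)
      · exact Or.inr (f.lab_frame ha hb hab).2.1
    | inv a _ ha =>
      rcases ha with rfl | ha
      · exact Or.inl inv_one
      · rw [inv_eq (f.lab ha).1]; exact Or.inr ha
  · have h1 : i ∈ f.grp := Subgroup.subset_closure (Or.inl rfl)
    have h2 : k ∈ f.grp := Subgroup.subset_closure (Or.inr rfl)
    rintro (rfl | rfl | rfl | rfl)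
    · exact one_mem _
    · exact h1
    · exact h2
    · exact mul_mem h1 h2

theorem grp_card : Nat.card f.grp = 4 := by
  classical
  have hs : (f.grp : Set G) = (({1, i, k, i * k} : Finset G) : Set G) := by
    ext x
    simp [f.mem_grp, Lab]
  rw [← SetLike.coe_sort_coe, Nat.card_coe_set_eq, hs, Set.ncard_coe_finset]
  have a1 : (1 : G) ≠ i := fun e => ne_one f.hi e.symm
  have a2 : (1 : G) ≠ k := fun e => ne_one f.hk e.symm
  have a3 : (1 : G) ≠ i * k := fun e => ne_one f.ik e.symm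
  have a4 : i ≠ i * k := fun e => ne_one f.hk (left_eq_mul.1 e)
  have a5 : k ≠ i * k := fun e => ne_one f.hi (right_eq_mul.1 e)
  simp [Finset.card_insert_of_notMem, a1, a2, a3, a4, a5, f.ne]

variable [Finite G]

theorem grp_le_normalizer {X : Subgroup G} (hX : Nrm i k X) : f.grp ≤ Subgroup.normalizer (X : Set G) :=
  (Subgroup.closure_le _).2 (by
    rintro y (rfl | rfl)
    · exact mem_normalizer_of_maps hX.1
    · exact mem_normalizer_of_maps hX.2)

theorem grp_coprime {X : Subgroup G} (hodd : Odd (Nat.card X)) :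
    (Nat.card f.grp).Coprime (Nat.card X) := by
  rw [f.grp_card]
  exact (Nat.coprime_two_left.2 hodd).pow_left 2

theorem grp_comm : IsMulCommutative f.grp := by
  refine ⟨⟨fun a b => Subtype.ext ?_⟩⟩
  rcases f.mem_grp.1 a.2 with e | ha <;> rcases f.mem_grp.1 b.2 with e' | hb <;>
    first
    | (show (a : G) * b = b * a; simp [e]; done)
    | (show (a : G) * b = b * a; simp [e']; done)
    | exact f.lab_comm ha hb

/-- A subgroup of odd order normalized by the four group is generated by its fixed subgroups. -/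
theorem nrm_le {X D : Subgroup G} (hX : Nrm i k X) (hodd : Odd (Nat.card X))
    (hD : ∀ l, Lab i k l → ∀ x ∈ X, x * l = l * x → x ∈ D) : X ≤ D := by
  haveI := f.grp_comm
  have hnc : ¬ IsCyclic f.grp := by
    intro hcyc
    obtain ⟨g, hg⟩ := hcyc.exists_generator
    have h1 : orderOf g = 4 := by rw [orderOf_eq_card_of_forall_mem_zpowers hg, f.grp_card]
    have h2 : orderOf g ∣ 2 := orderOf_dvd_of_pow_eq_one (Subtype.ext (by
      rw [SubmonoidClass.coe_pow, pow_two]
      rcases f.mem_grp.1 g.2 with e | e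
      · rw [e, one_mul]; rfl
      · exact mul_self (f.lab e).1))
    rw [h1] at h2
    norm_num at h2
  rw [← CfsgLib.Coprime.iSup_centralizer_singleton hnc (f.grp_le_normalizer hX) (f.grp_coprime hodd)]
  refine iSup₂_le fun a ha x hx => ?_
  exact hD a ((f.mem_grp.1 ha.1).resolve_left ha.2) x hx.1 (mem_C.1 hx.2)

theorem exists_component {X : Subgroup G} (hX : Nrm i k X) (hodd : Odd (Nat.card X)) (hX1 : X ≠ ⊥) :
    ∃ l, Lab i k l ∧ ∃ x ∈ X, x ≠ 1 ∧ x * l = l * x := by
  by_contra hcon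
  push Not at hcon
  refine hX1 (le_bot_iff.1 (f.nrm_le hX hodd fun l hl x hx hxl => ?_))
  by_contra hx1
  exact hcon l hl x hx (fun e => hx1 (Subgroup.mem_bot.2 e)) hxl

/-- Invariant `p`-subgroups of an invariant subgroup of odd order generate a `p`-group. -/
theorem join {p : ℕ} [Fact p.Prime] (h : Hyp G) {X P Q : Subgroup G} (hX : Nrm i k X)
    (hodd : Odd (Nat.card X)) (hP : IsPGroup p P) (hPn : Nrm i k P) (hPX : P ≤ X) (hQ : IsPGroup p Q)
    (hQn : Nrm i k Q) (hQX : Q ≤ X) :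
    ∃ R : Subgroup G, IsPGroup p R ∧ Nrm i k R ∧ R ≤ X ∧ P ≤ R ∧ Q ≤ R ∧
      Nat.card R = p ^ (Nat.card X).factorization p := by
  haveI := f.grp_comm
  have hsol : Group.IsSolvable f.grp ∨ Group.IsSolvable X :=
    Or.inr (CfsgLib.OddOrder.Final.oddSolvable _ hodd)
  have hA := f.grp_le_normalizer hX
  have hco := f.grp_coprime hodd
  obtain ⟨P', hP', hPA⟩ := CfsgLib.Coprime.exists_le_invariant_sylow hA hco hsol hPX hP (f.grp_le_normalizer hPn)
  obtain ⟨Q', hQ', hQA⟩ := CfsgLib.Coprime.exists_le_invariant_sylow hA hco hsol hQX hQ (f.grp_le_normalizer hQn)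
  obtain ⟨c, hc, hcPQ⟩ := CfsgLib.Coprime.exists_centralizer_conj_sylow hA hco hsol P' Q' hPA hQA
  have hc1 : c = 1 := by
    refine Subtype.ext (h.odd_one f.hi f.hk f.comm.symm f.ne.symm (odd_orderOf_mem hodd c.2) ?_ ?_)
    · exact (Subgroup.mem_centralizer_iff.1 hc i (f.mem_grp.2 (Or.inr (Or.inl rfl)))).symm
    · exact (Subgroup.mem_centralizer_iff.1 hc k (f.mem_grp.2 (Or.inr (Or.inr (Or.inl rfl))))).symm
  rw [hc1, one_smul] at hcPQ
  subst hcPQ
  refine ⟨_, P'.isPGroup'.map _, ⟨fun x hx => ?_, fun x hx => ?_⟩, Subgroup.map_subtype_le _, hP', hQ', by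
    rw [CfsgLib.Coprime.card_map_subtype, P'.card_eq_multiplicity]⟩
  · exact (Subgroup.mem_normalizer_iff.1 (hPA (f.mem_grp.2 (Or.inr (Or.inl rfl)))) x).1 hx
  · exact (Subgroup.mem_normalizer_iff.1 (hPA (f.mem_grp.2 (Or.inr (Or.inr (Or.inl rfl))))) x).1 hx

end Fr

/-- The subgroup generated by the elements of odd order centralizing `y`. -/
def oddC (y : G) : Subgroup G := Subgroup.closure {x : G | Odd (orderOf x) ∧ x * y = y * x}

theorem mem_oddC {y x : G} (h : Odd (orderOf x)) (h2 : x * y = y * x) : x ∈ oddC y :=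
  Subgroup.subset_closure ⟨h, h2⟩

theorem oddC_comm {y x : G} (h : x ∈ oddC y) : x * y = y * x := by
  have : oddC y ≤ Subgroup.centralizer ({y} : Set G) :=
    (Subgroup.closure_le _).2 fun z hz => mem_C.2 hz.2
  exact mem_C.1 (this h)

theorem oddC_conj {g y : G} (hg : g * y * g⁻¹ = y ∨ g * y * g⁻¹ = y⁻¹) {x : G} (hx : x ∈ oddC y) :
    g * x * g⁻¹ ∈ oddC y := by
  have hle : (oddC y).map (MulAut.conj g).toMonoidHom ≤ oddC y := by
    rw [oddC, MonoidHom.map_closure]
    refine Subgroup.closure_mono ?_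
    rintro _ ⟨z, ⟨hz, hzy⟩, rfl⟩
    refine ⟨?_, ?_⟩
    · show Odd (orderOf (MulAut.conj g z))
      rwa [MulAut.conj_apply, CfsgLib.Involution.Dihedral.orderOf_conj]
    · show g * z * g⁻¹ * y = y * (g * z * g⁻¹)
      have h1 : Commute (g * z * g⁻¹) (g * y * g⁻¹) := by
        show g * z * g⁻¹ * (g * y * g⁻¹) = g * y * g⁻¹ * (g * z * g⁻¹)
        rw [conj_mul, conj_mul, hzy]
      rcases hg with e | e <;> rw [e] at h1
      · exact h1
      · exact (Commute.inv_right_iff.1 h1).eq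
  exact hle ⟨x, hx, rfl⟩

theorem oddC_odd [Finite G] (h : Hyp G) {y : G} (hy : Odd (orderOf y)) (hy1 : y ≠ 1) :
    Odd (Nat.card (oddC y)) := by
  haveI : Fact (Nat.Prime 2) := ⟨Nat.prime_two⟩
  set C := Subgroup.centralizer ({y} : Set G) with hCdef
  by_cases hodd : Odd (Nat.card C)
  · exact hodd.of_dvd_nat (Subgroup.card_dvd_of_le ((Subgroup.closure_le _).2 fun z hz => mem_C.2 hz.2))
  obtain ⟨Q⟩ : Nonempty (Sylow 2 C) := inferInstance
  have h2 : 2 ∣ Nat.card C := by
    rw [Nat.not_odd_iff_even] at hodd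
    exact even_iff_two_dvd.1 hodd
  haveI : Nontrivial (Q : Subgroup C) := Finite.one_lt_card_iff_nontrivial.1 (by
    have := Nat.le_of_dvd Nat.card_pos (Q.dvd_card_of_dvd_card h2)
    omega)
  haveI := Q.2.center_nontrivial
  obtain ⟨z, hz⟩ : ∃ z : Subgroup.center (Q : Subgroup C), orderOf z = 2 := by
    obtain ⟨e, he, hh⟩ :=
      (Q.2.to_subgroup (Subgroup.center (Q : Subgroup C))).nontrivial_iff_card.1 inferInstance
    exact exists_prime_orderOf_dvd_card' 2 (by rw [hh]; exact dvd_pow_self 2 (by omega))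
  set i := (((z : (Q : Subgroup C)) : C) : G) with hidef
  have hi : orderOf i = 2 := by
    rw [hidef, Subgroup.orderOf_coe, Subgroup.orderOf_coe, Subgroup.orderOf_coe]; exact hz
  obtain ⟨B, s, hcfg, h1⟩ := h.cfg i hi
  have hyi : y * i = i * y := (mem_C.1 ((z : (Q : Subgroup C)) : C).2).symm
  have hyB := hcfg.mem_of_odd hyi hy
  have hQB : ∀ g ∈ (Q : Subgroup C), (g : G) ∈ B := by
    intro g hg
    have hgi : (g : G) * i = i * g :=
      congrArg (fun w : (Q : Subgroup C) => ((w : C) : G)) (Subgroup.mem_center_iff.1 z.2 ⟨g, hg⟩)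
    by_contra hgB
    have e := hcfg.out_inv hgi hgB hyB
    rw [conj_eq_iff.2 (mem_C.1 g.2)] at e
    exact hy1 (eq_one_or_self_mul_self hy e.symm)
  have hcyc : IsCyclic (Q : Subgroup C) := by
    refine CfsgLib.Recognition.AbelianCentraliser.isCyclic_of_one_involution Q.2
      (fun a b => Subtype.ext (Subtype.ext (hcfg.comm _ (hQB a a.2) _ (hQB b b.2)))) fun a b ha hb => ?_
    have ea : ((a : C) : G) = i := h1 _ (hQB a a.2) (by rw [Subgroup.orderOf_coe, Subgroup.orderOf_coe, ha])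
    have eb : ((b : C) : G) = i := h1 _ (hQB b b.2) (by rw [Subgroup.orderOf_coe, Subgroup.orderOf_coe, hb])
    exact Subtype.ext (Subtype.ext (ea.trans eb.symm))
  obtain ⟨Q', N, hN, hc⟩ := CfsgLib.Fusion.Abelian.npc_of_normalizer_le_centralizer Q
    (hcyc.normalizer_le_centralizer ((Nat.minFac_eq_two_iff _).2 h2))
  have hNodd : Odd (Nat.card N) := by
    rw [← hc.index_eq_card, Nat.odd_iff]
    have := Q'.not_dvd_index
    omega
  refine hNodd.of_dvd_nat ?_
  rw [← CfsgLib.Coprime.card_map_subtype (H := N)]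
  refine Subgroup.card_dvd_of_le ((Subgroup.closure_le _).2 fun x hx => ⟨⟨x, mem_C.2 hx.2⟩, ?_, rfl⟩)
  haveI := hN
  refine (QuotientGroup.eq_one_iff _).1 ?_
  obtain ⟨k, hk⟩ := Q'.2.exists_card_eq
  refine two_odd_one (k := k) ?_ ?_
  · rw [← hk, ← hc.symm.index_eq_card, Subgroup.index_eq_card]
    exact pow_card_eq_one'
  · refine (show Odd (orderOf (⟨x, mem_C.2 hx.2⟩ : C)) by rw [← Subgroup.orderOf_coe]; exact hx.1).of_dvd_nat ?_
    exact orderOf_map_dvd (QuotientGroup.mk' N) _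

/-- `TI` follows once odd elements of the centralizers commute with `j`. -/
theorem ti_of_odd [Finite G] {j : G} {B : Subgroup G} {s : G} (hc : Cfg j B s) (h1 : One j B)
    (hy : ∀ y : G, Odd (orderOf y) → y ≠ 1 → y * j = j * y → ∀ x : G, Odd (orderOf x) → x * y = y * x →
      x * j = j * x) : TI j := by
  intro y hyo hy1 hyj g hgy
  set j' := g * j * g⁻¹ with hj'
  have hj'2 : orderOf j' = 2 := by rw [hj', CfsgLib.Involution.Dihedral.orderOf_conj, hc.hj]
  have hj'y : Commute j' y :=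
    (Commute.mul_left (Commute.mul_left hgy hyj.symm) (Commute.inv_left hgy) : Commute (g * j * g⁻¹) y)
  have key : ∀ t : G, orderOf t = 2 → t * j = j * t → Commute t y → t = j := by
    intro t ht htj hty
    by_cases htB : t ∈ B
    · exact h1 t htB ht
    · exfalso
      have e := hc.out_inv htj htB (hc.mem_of_odd hyj hyo)
      rw [conj_eq_iff.2 hty.eq] at e
      exact hy1 (eq_one_or_self_mul_self hyo e.symm)
  refine conj_eq_iff.1 (show g * j * g⁻¹ = j from ?_)
  by_cases hodd : Odd (orderOf (j * j'))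
  · obtain ⟨d, hd, he⟩ := exists_conj_of_odd hc.hj hj'2 hodd
    have hcm : Commute d y := by
      obtain ⟨n, rfl⟩ := Subgroup.mem_zpowers_iff.1 hd
      exact ((Commute.mul_left hyj.symm hj'y : Commute (j * j') y)).zpow_left n
    have hdj := hy y hyo hy1 hyj d
      (hodd.of_dvd_nat (orderOf_dvd_of_mem_zpowers hd)) hcm.eq
    rw [← hj', ← he]
    exact conj_eq_iff.2 hdj
  · rw [Nat.not_odd_iff_even] at hodd
    have hw := half_orderOf (x := j) (y := j') hodd
    have hwj := half_commute_left hc.hj hj'2 hodd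
    have hwj' := half_commute_right hc.hj hj'2 hodd
    have hwy : Commute ((j * j') ^ (orderOf (j * j') / 2)) y :=
      (Commute.mul_left hyj.symm hj'y : Commute (j * j') y).pow_left _
    rw [key _ hw hwj hwy] at hwj'
    exact key _ hj'2 hwj'.symm hj'y

end CfsgLib.Characterizations.DGroup
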