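import Cfsg.Agent.Lib.Characterizations.DGroup.TwoPart
import Cfsg.Agent.Lib.Recognition.AbelianCentraliser.Main
import Cfsg.Agent.Lib.Fusion.ThompsonTransfer
import Cfsg.Agent.Lib.Fusion.Abelian
import Cfsg.Agent.Lib.FTApps.Metacyclic
import Cfsg.Agent.Lib.OddOrder.Final.Main

/-!
# An abelian non-cyclic, non-elementary inner 2-group forces solvability
-/

set_option autoImplicit false

namespace CfsgLib.Characterizations.DGroup

open CfsgLib.Involution.Dihedral

universe u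

variable {G : Type u} [Group G]

theorem sl2_two_el_sq {F : Type*} [Field F] [CharP F 2] {a : Matrix.SpecialLinearGroup (Fin 2) F} {k : ℕ}
    (hk : a ^ 2 ^ k = 1) : a * a = 1 := by
  set A : Matrix (Fin 2) (Fin 2) F := a.1 with hA
  haveI : CharP (Matrix (Fin 2) (Fin 2) F) 2 := inferInstance
  set N := A - 1 with hN
  have hnil : IsNilpotent N := ⟨2 ^ k, by
    have h1 : A ^ 2 ^ k = 1 := by
      have := congrArg (fun x : Matrix.SpecialLinearGroup (Fin 2) F => x.1) hk
      simpa [hA] using this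
    rw [hN, sub_pow_char_pow_of_commute (p := 2) (n := k) (h := Commute.one_right A), h1, one_pow, sub_self]⟩
  have ht : N.trace = 0 := (Matrix.isNilpotent_trace_of_isNilpotent hnil).eq_zero
  have hd : N.det = 0 := by
    obtain ⟨m, hm⟩ := hnil
    refine eq_zero_of_pow_eq_zero (n := m) ?_
    rw [← Matrix.det_pow, hm, Matrix.det_zero]
  rw [Matrix.trace_fin_two] at ht
  rw [Matrix.det_fin_two] at hd
  have hNN : N * N = 0 := by
    ext i k
    fin_cases i <;> fin_cases k <;> simp [Matrix.mul_apply, Fin.sum_univ_two]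
    · linear_combination (N 0 0) * ht - hd
    · linear_combination (N 0 1) * ht
    · linear_combination (N 1 0) * ht
    · linear_combination (N 1 1) * ht - hd
  have hAA : A * A = 1 := by
    have e : A = N + 1 := by rw [hN, sub_add_cancel]
    have h2 : N + N = 0 := CharTwo.add_self_eq_zero N
    rw [e, add_mul, mul_add, mul_one, one_mul, hNN, zero_add, ← add_assoc, h2, zero_add]
  exact Subtype.ext hAA

/-- The subgroup generated by the elements of odd order. -/
def oddGen (G : Type u) [Group G] : Subgroup G := Subgroup.closure {x : G | Odd (orderOf x)}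

theorem oddGen_normal : (oddGen G).Normal := by
  refine ⟨fun x hx g => ?_⟩
  have h : (oddGen G).map (MulAut.conj g).toMonoidHom ≤ oddGen G := by
    rw [oddGen, MonoidHom.map_closure]
    refine Subgroup.closure_mono ?_
    rintro _ ⟨y, hy, rfl⟩
    show Odd (orderOf (MulAut.conj g y))
    rwa [MulAut.conj_apply, CfsgLib.Involution.Dihedral.orderOf_conj]
  exact h ⟨x, hx, rfl⟩

variable [Finite G]

theorem oddGen_not_solvable (hns : ¬ Group.IsSolvable G) : ¬ Group.IsSolvable (oddGen G) := by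
  intro hs
  haveI := oddGen_normal (G := G)
  haveI : Fact (Nat.Prime 2) := ⟨Nat.prime_two⟩
  have h2 : IsPGroup 2 (G ⧸ oddGen G) := by
    intro q
    obtain ⟨x, rfl⟩ := QuotientGroup.mk'_surjective (oddGen G) q
    obtain ⟨a, b, ⟨k, hk⟩, hb, hab⟩ := split x
    refine ⟨k, ?_⟩
    have hb1 : QuotientGroup.mk' (oddGen G) (x ^ b) = 1 :=
      (QuotientGroup.eq_one_iff _).2 (Subgroup.subset_closure hb)
    rw [← hab, map_mul, hb1, mul_one, ← map_pow, hk, map_one]
  haveI : Group.IsNilpotent (G ⧸ oddGen G) := h2.isNilpotent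
  exact hns ((Group.isSolvable_iff_subgroup_quotient (oddGen G)).2 ⟨hs, inferInstance⟩)

theorem oddGen_eq_of_index_two {M' : Subgroup (oddGen G)} (hn : M'.Normal) (hi : M'.index = 2) : False := by
  haveI := hn
  have hall : ∀ x : oddGen G, x ∈ M' := by
    have h1 : ∀ x ∈ oddGen G, ∀ hx : x ∈ oddGen G, (⟨x, hx⟩ : oddGen G) ∈ M' := by
      intro x hx
      induction hx using Subgroup.closure_induction with
      | mem x hx =>
        intro hxm
        obtain ⟨k, hk⟩ := (hx : Odd (orderOf x))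
        have e : (⟨x, hxm⟩ : oddGen G) = (⟨x, hxm⟩ * ⟨x, hxm⟩) ^ (k + 1) := by
          refine Subtype.ext ?_
          show x = (x * x) ^ (k + 1)
          rw [← pow_two, ← pow_mul, show 2 * (k + 1) = orderOf x + 1 by omega, pow_succ, pow_orderOf_eq_one, one_mul]
        rw [e]
        exact pow_mem (Subgroup.mul_self_mem_of_index_two hi _) _
      | one => intro h; exact M'.one_mem
      | mul x y hx hy ihx ihy => intro h; exact mul_mem (ihx hx) (ihy hy)
      | inv x hx ih => intro h; exact inv_mem (ih hx)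
    exact fun x => h1 x.1 x.2 x.2
  rw [show M' = ⊤ from (Subgroup.eq_top_iff' _).2 hall, Subgroup.index_top] at hi
  omega

namespace Cfg

variable {j s : G} {B : Subgroup G} (h : Cfg j B s)
include h

/-- An element of `C(j)` outside `B` is conjugate into `T2` by an element of `B`. -/
theorem conj_into_T2 {x : G} (hx : x * j = j * x) (hxB : x ∉ B) : ∃ c ∈ B, c * x * c⁻¹ ∈ h.T2 := by
  obtain ⟨b, hb, rfl⟩ := h.out_eq hx hxB
  obtain ⟨a, e, hk, he, hae⟩ := split b
  obtain ⟨l, hl⟩ := he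
  refine ⟨(b ^ e) ^ l, pow_mem (pow_mem hb e) l, Or.inr ?_⟩
  have hc : (b ^ e) ^ l ∈ B := pow_mem (pow_mem hb e) l
  have h1 := h.hinv _ (inv_mem hc)
  rw [inv_inv] at h1
  have e1 : (b ^ e) ^ l * (b * s) * ((b ^ e) ^ l)⁻¹ * s = b ^ a := by
    calc (b ^ e) ^ l * (b * s) * ((b ^ e) ^ l)⁻¹ * s
        = (b ^ e) ^ l * b * (s * ((b ^ e) ^ l)⁻¹ * s⁻¹) * (s * s) := by group
      _ = (b ^ e) ^ l * b * (b ^ e) ^ l := by rw [h1, mul_self h.hs, mul_one]
      _ = b ^ a := by
        conv_lhs => arg 1; arg 2; rw [← hae]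
        rw [← pow_mul, ← pow_add, ← pow_add, ← pow_add,
          show e * l + (a + e) + e * l = a + e * (2 * l + 1) by ring, pow_add, pow_mul, ← hl,
          pow_orderOf_eq_one, mul_one]
  rw [e1]
  exact ⟨pow_mem hb a, hk⟩

/-- Two elements of `C(j)` outside `B` have product in `B`. -/
theorem out_mul {a b : G} (ha : a * j = j * a) (hb : b * j = j * b) (haB : a ∉ B) (hbB : b ∉ B) :
    a * b ∈ B := by
  have e : a * b = a * s * (s * (b * s) * s⁻¹) := by
    calc a * b = a * (s * s) * b := by rw [mul_self h.hs, mul_one]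
      _ = _ := by group
  rw [e]
  exact mul_mem ((h.hH a ha).resolve_left haB) (h.inv_mem_conj ((h.hH b hb).resolve_left hbB))

/-- An outside involution of `C(j)` is not conjugate to an inside one. -/
theorem no_fusion (hne : ∃ b ∈ B, b * b ≠ 1) {ω' : G} (hω' : ω' ∈ B) (hω'2 : orderOf ω' = 2)
    (hω'j : ω' ≠ j) {t g : G} (ht : t * j = j * t) (htB : t ∉ B) (hg : g * t * g⁻¹ ∈ B) : False := by
  have ht2 : orderOf (g * t * g⁻¹) = 2 := by
    rw [CfsgLib.Involution.Dihedral.orderOf_conj]; exact h.out_order ht htB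
  have hC : ∀ e ∈ B, orderOf e = 2 → g * e * g⁻¹ * j = j * (g * e * g⁻¹) := by
    intro e he he2
    refine (h.hcent _ hg ht2 _).1 ?_
    have h1 : t * e = e * t := by
      have h2 := h.out_inv ht htB he
      rwa [inv_eq he2, conj_eq_iff] at h2
    rw [conj_mul, conj_mul, h1]
  obtain ⟨e, he, he2, hge⟩ : ∃ e ∈ B, orderOf e = 2 ∧ g * e * g⁻¹ ∈ B := by
    by_contra hcon
    push Not at hcon
    have h3 : orderOf (j * ω') = 2 := orderOf_eq_two (by
      rw [show j * ω' * (j * ω') = j * (ω' * j) * ω' by group, h.mem_comm hω',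
        show j * (j * ω') * ω' = j * j * (ω' * ω') by group, mul_self h.hj, mul_self hω'2, mul_one]) fun e =>
      hω'j ((eq_inv_of_mul_eq_one_right e).trans (inv_eq h.hj))
    refine hcon _ (mul_mem h.hjB hω') h3 ?_
    rw [show g * (j * ω') * g⁻¹ = g * j * g⁻¹ * (g * ω' * g⁻¹) by group]
    exact h.out_mul (hC j h.hjB h.hj) (hC ω' hω' hω'2) (hcon j h.hjB h.hj) (hcon ω' hω' hω'2)
  have hge2 : orderOf (g * e * g⁻¹) = 2 := by rw [CfsgLib.Involution.Dihedral.orderOf_conj, he2]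
  have h1 : ∀ x : G, x * j = j * x → g⁻¹ * x * g⁻¹⁻¹ * j = j * (g⁻¹ * x * g⁻¹⁻¹) := by
    intro x hx
    refine (h.hcent e he he2 _).1 ?_
    have h2 := (h.hcent _ hge hge2 x).2 hx
    calc g⁻¹ * x * g⁻¹⁻¹ * e = g⁻¹ * (x * (g * e * g⁻¹)) * g := by group
      _ = g⁻¹ * (g * e * g⁻¹ * x) * g := by rw [h2]
      _ = _ := by group
  have h4 := h.mem_B_of_normal hne h1 hg
  rw [show g⁻¹ * (g * t * g⁻¹) * g⁻¹⁻¹ = t by group] at h4
  exact htB h4

end Cfg

/-- With at least two involutions in `B`, the 2-part of `B` is elementary. -/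
theorem two_rank_false (hns : ¬ Group.IsSolvable G) {j s : G} {B : Subgroup G} (h : Cfg j B s)
    {ω' : G} (hω' : ω' ∈ B) (hω'2 : orderOf ω' = 2) (hω'j : ω' ≠ j)
    {y : G} (hy : y ∈ h.Bt) (hy2 : y * y ≠ 1) : False := by
  classical
  haveI : Fact (Nat.Prime 2) := ⟨Nat.prime_two⟩
  have hne : ∃ b ∈ B, b * b ≠ 1 := ⟨y, hy.1, hy2⟩
  obtain ⟨P, hP⟩ := h.T2_sylow ⟨ω', h.sq_mem_Bt hω' (mul_self hω'2), ne_one hω'2, hω'j⟩
  set M := oddGen G with hM
  haveI hMn : M.Normal := oddGen_normal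
  have hMns : ¬ Group.IsSolvable M := oddGen_not_solvable hns
  -- the Sylow 2-subgroup of `M`
  obtain ⟨Q, hQ⟩ : ∃ Q : Sylow 2 M, ∀ x : M, x ∈ (Q : Subgroup M) ↔ (x : G) ∈ h.T2 := by
    have hp : IsPGroup 2 (h.T2.subgroupOf M) := h.T2_isPGroup.comap_subtype
    obtain ⟨Q, hle⟩ := hp.exists_le_sylow
    refine ⟨Q, fun x => ⟨fun hx => ?_, fun hx => hle hx⟩⟩
    have hc := CfsgLib.Coprime.card_sylow_inf_normal P M
    have h1 : Nat.card (h.T2.subgroupOf M) = 2 ^ (Nat.card M).factorization 2 := by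
      rw [← hc, hP, ← Subgroup.subgroupOf_map_subtype, CfsgLib.Coprime.card_map_subtype]
    have h2 : h.T2.subgroupOf M = (Q : Subgroup M) :=
      Subgroup.eq_of_le_of_card_ge hle (by rw [h1, Q.card_eq_multiplicity])
    have h3 : x ∈ h.T2.subgroupOf M := h2.ge hx
    exact h3
  -- it lies in `B`
  have hQB : ∀ x ∈ (Q : Subgroup M), (x : G) ∈ B := by
    intro x hx
    by_contra hxB
    have hxj := h.T2_comm_j ((hQ x).1 hx)
    have hxs : x ^ 2 = 1 := Subtype.ext (by rw [SubmonoidClass.coe_pow, pow_two, h.out_sq hxj hxB]; rfl)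
    have hi : ((B.subgroupOf M) ⊓ (Q : Subgroup M)).relIndex (Q : Subgroup M) = 2 := by
      rw [Subgroup.inf_relIndex_right]
      refine Subgroup.relIndex_eq_two_iff.2 ⟨x, hx, fun b hb => ?_⟩
      show Xor ((b : G) * x ∈ B) ((b : G) ∈ B)
      by_cases hbB : (b : G) ∈ B
      · exact Or.inr ⟨hbB, fun hc => hxB ((B.mul_mem_cancel_left hbB).1 hc)⟩
      · exact Or.inl ⟨h.out_mul (h.T2_comm_j ((hQ b).1 hb)) hxj hbB hxB, hbB⟩
    rcases CfsgLib.Fusion.ThompsonTransfer.thompson_transfer Q _ inf_le_right hi x hxs hx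
      (fun hc => hxB hc.1) with ⟨M', hn, hi', -⟩ | ⟨g, hg⟩
    · exact oddGen_eq_of_index_two hn hi'
    · exact h.no_fusion hne hω' hω'2 hω'j hxj hxB (g := (g : G)) hg.1
  -- centralizers in `M` of inner involutions lie in `B`
  have hCB : ∀ x : M, (x : G) * j = j * x → (x : G) ∈ B := by
    intro x hx
    by_contra hxB
    obtain ⟨c, hc, hcT⟩ := h.conj_into_T2 hx hxB
    have h1 := hQB ⟨_, hMn.conj_mem _ x.2 c⟩ ((hQ _).2 hcT)
    refine hxB ?_
    have h2 := mul_mem (mul_mem (inv_mem hc) h1) hc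
    rwa [show c⁻¹ * (c * (x : G) * c⁻¹) * c = (x : G) by group] at h2
  have hC : CfsgLib.Recognition.AbelianCentraliser.AC M := by
    intro t ht
    obtain ⟨g, hg⟩ : ∃ g : M, g * t * g⁻¹ ∈ (Q : Subgroup M) := by
      have hp : IsPGroup 2 (Subgroup.zpowers t) := IsPGroup.of_card (n := 1) (by rw [Nat.card_zpowers, ht, pow_one])
      obtain ⟨Q', hQ'⟩ := hp.exists_le_sylow
      obtain ⟨g, hg⟩ := MulAction.exists_smul_eq M Q' Q
      exact ⟨g, by rw [← hg]; exact ⟨t, hQ' (Subgroup.mem_zpowers t), rfl⟩⟩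
    have h2 : orderOf ((g * t * g⁻¹ : M) : G) = 2 := by
      rw [Subgroup.orderOf_coe, CfsgLib.Involution.Dihedral.orderOf_conj, ht]
    have key : ∀ c : M, c * t = t * c → ((g * c * g⁻¹ : M) : G) ∈ B := by
      intro c hc
      refine hCB _ ((h.hcent _ (hQB _ hg) h2 _).1 ?_)
      have : g * c * g⁻¹ * (g * t * g⁻¹) = g * t * g⁻¹ * (g * c * g⁻¹) := by rw [conj_mul, conj_mul, hc]
      exact congrArg Subtype.val this
    refine ⟨⟨fun a b => Subtype.ext ?_⟩⟩
    have h3 : (g * a.1 * g⁻¹) * (g * b.1 * g⁻¹) = (g * b.1 * g⁻¹) * (g * a.1 * g⁻¹) :=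
      Subtype.ext (h.comm _ (key _ (mem_C.1 a.2)) _ (key _ (mem_C.1 b.2)))
    rw [conj_mul, conj_mul, mul_left_inj, mul_right_inj] at h3
    exact h3
  have hFT : CfsgLib.FTApps.OddSolvable.{u} := CfsgLib.OddOrder.Final.oddSolvable
  have h2M : 2 ∣ Nat.card M := by
    by_contra h2
    exact hMns (hFT _ (Nat.odd_iff.2 (by omega)))
  have hQcomm : ∀ a ∈ (Q : Subgroup M), ∀ b ∈ (Q : Subgroup M), a * b = b * a := fun a ha b hb =>
    Subtype.ext (h.comm _ (hQB a ha) _ (hQB b hb))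
  have hQcyc : ¬ IsCyclic Q := fun hc => hMns (CfsgLib.FTApps.solvable_of_npc hFT
    (CfsgLib.Fusion.Abelian.npc_of_normalizer_le_centralizer Q
      (hc.normalizer_le_centralizer ((Nat.minFac_eq_two_iff _).2 h2M))))
  have hQn : ¬ (Q : Subgroup M).Normal := by
    intro hn
    haveI := hn
    refine hMns ((Group.isSolvable_iff_subgroup_quotient (Q : Subgroup M)).2 ⟨?_, hFT _ ?_⟩)
    · exact Group.isSolvable_of_comm fun a b => Subtype.ext (hQcomm a a.2 b b.2)
    · rw [← Subgroup.index_eq_card, Nat.odd_iff]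
      have := Q.not_dvd_index
      omega
  obtain ⟨F, iF, iFt, A, iA, iAf, hchar, hA, ⟨e⟩⟩ :=
    CfsgLib.Recognition.AbelianCentraliser.structure_of_noncyclic hC Q hQcyc hQn
  -- so it is elementary
  have hel : ∀ x ∈ (Q : Subgroup M), x * x = 1 := by
    intro x hx
    obtain ⟨k, hk⟩ := Q.2 ⟨x, hx⟩
    have hk' : x ^ 2 ^ k = 1 := congrArg Subtype.val hk
    have hp : (e x) ^ 2 ^ k = 1 := by rw [← map_pow, hk', map_one]
    have h1 : (e x).1 ^ 2 ^ k = 1 := by rw [← Prod.pow_fst, hp]; rfl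
    have h2 : (e x).2 = 1 := two_odd_one (k := k) (by rw [← Prod.pow_snd, hp]; rfl)
      (hA.of_dvd_nat (orderOf_dvd_natCard _))
    refine e.injective ?_
    rw [map_mul, map_one]
    exact Prod.ext (sl2_two_el_sq h1) (by rw [Prod.snd_mul, h2, one_mul]; rfl)
  -- an element fusing inside it commutes with a square in `Bt`
  obtain ⟨k, hkN, hkC⟩ : ∃ k ∈ Subgroup.normalizer ((Q : Subgroup M) : Set M),
      k ∉ Subgroup.centralizer ((Q : Subgroup M) : Set M) := by
    by_contra hcon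
    push Not at hcon
    exact hMns (CfsgLib.FTApps.solvable_of_npc hFT
      (CfsgLib.Fusion.Abelian.npc_of_normalizer_le_centralizer Q fun k hk => hcon k hk))
  obtain ⟨ω, hω, hω1⟩ : ∃ ω ∈ (Q : Subgroup M), ω ≠ 1 := by
    by_contra hcon
    push Not at hcon
    exact hkC (Subgroup.mem_centralizer_iff.2 fun a ha => by rw [hcon a ha, mul_one, one_mul])
  have hω2 : orderOf (ω : G) = 2 := by
    rw [Subgroup.orderOf_coe]; exact orderOf_eq_two (hel ω hω) hω1
  have hkω : ((k * ω * k⁻¹ : M) : G) ∈ B := hQB _ ((Subgroup.mem_normalizer_iff.1 hkN ω).1 hω)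
  have hkω2 : orderOf ((k * ω * k⁻¹ : M) : G) = 2 := by
    rw [Subgroup.orderOf_coe, CfsgLib.Involution.Dihedral.orderOf_conj, ← Subgroup.orderOf_coe, hω2]
  have hkH : ∀ x : G, x * j = j * x → (k : G) * x * (k : G)⁻¹ * j = j * ((k : G) * x * (k : G)⁻¹) := by
    intro x hx
    refine (h.hcent _ hkω hkω2 _).1 ?_
    have h1 := (h.hcent _ (hQB _ hω) hω2 x).2 hx
    push_cast
    rw [conj_mul, conj_mul, h1]
  have hkB : (k : G) * y * (k : G)⁻¹ ∈ B := h.mem_B_of_normal hne hkH hy.1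
  set d := (k : G) * y * (k : G)⁻¹ * y⁻¹ with hd
  have hdM : d ∈ M := by
    rw [hd, show (k : G) * y * (k : G)⁻¹ * y⁻¹ = (k : G) * (y * (k : G)⁻¹ * y⁻¹) by group]
    exact mul_mem k.2 (hMn.conj_mem _ (inv_mem k.2) y)
  have hdt : d ∈ h.Bt := mul_mem ⟨hkB, by
    obtain ⟨i, hi⟩ := hy.2
    exact ⟨i, by rw [_root_.conj_pow, hi, mul_one, mul_inv_cancel]⟩⟩ (inv_mem hy)
  have hdd : d * d = 1 := congrArg Subtype.val (hel ⟨d, hdM⟩ ((hQ _).2 (Or.inl hdt)))
  have hsq : (k : G) * (y * y) * (k : G)⁻¹ = y * y := by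
    have e1 : (k : G) * y * (k : G)⁻¹ = d * y := by rw [hd]; group
    rw [show (k : G) * (y * y) * (k : G)⁻¹ = (k : G) * y * (k : G)⁻¹ * ((k : G) * y * (k : G)⁻¹) by group, e1,
      show d * y * (d * y) = d * (y * d) * y by group, h.comm y hy.1 d hdt.1,
      show d * (d * y) * y = d * d * (y * y) by group, hdd, one_mul]
  obtain ⟨n, hn⟩ := exists_invol_pow (x := y * y) (by
    intro ho
    obtain ⟨i, hi⟩ := hy.2
    refine hy2 (two_odd_one (k := i) ?_ ho)
    rw [(Commute.refl y).mul_pow, hi, one_mul])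
  have hkc : (k : G) * (y * y) ^ n = (y * y) ^ n * (k : G) :=
    ((show Commute (k : G) (y * y) from conj_eq_iff.1 hsq).pow_right n).eq
  have hkj := (h.hcent _ (pow_mem (mul_mem hy.1 hy.1) n) hn _).1 hkc
  exact hkC (Subgroup.mem_centralizer_iff.2 fun a ha =>
    Subtype.ext (h.comm _ (hQB a ha) _ (hCB k hkj)))

end CfsgLib.Characterizations.DGroup
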